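import Cfsg.Agent.Lib.Helper13.ChiefHom
import Mathlib.GroupTheory.IsSubnormal

set_option autoImplicit false

open scoped commutatorElement

namespace Cfsg.Agent.Lib.Helper13

section
variable {G : Type*} [Group G]

/-- `M / Y` is a minimal `K`-invariant section -/
def MinOver (K M Y : Subgroup G) : Prop :=
  Y < M ∧ K ≤ Subgroup.normalizer (M : Set G) ∧
    ∀ M' : Subgroup G, Y ≤ M' → M' ≤ M → K ≤ Subgroup.normalizer (M' : Set G) → M' = Y ∨ M' = M

/-- the `K`-socle of `X / Y` -/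
def soc (K X Y : Subgroup G) : Subgroup G := sSup {M | MinOver K M Y ∧ M ≤ X}

theorem cj_lt {A B : Subgroup G} (h : A < B) (g : G) : cj A g < cj B g := by
  refine lt_of_le_not_ge (cj_mono h.le g) ?_
  intro hle
  have := cj_mono hle g⁻¹
  rw [cj_inv_cj, cj_inv_cj] at this
  exact h.not_ge this

theorem MinOver.cj {H M Y : Subgroup G} (h : MinOver H M Y) {k : G}
    (hH : k ∈ Subgroup.normalizer (H : Set G)) (hY : k ∈ Subgroup.normalizer (Y : Set G)) :
    MinOver H (cj M k) Y := by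
  have eH : Helper13.cj H k = H := mem_normalizer_iff_cj.mp hH
  have eY : Helper13.cj Y k = Y := mem_normalizer_iff_cj.mp hY
  have eH' : Helper13.cj H k⁻¹ = H := mem_normalizer_iff_cj.mp (inv_mem hH)
  have eY' : Helper13.cj Y k⁻¹ = Y := mem_normalizer_iff_cj.mp (inv_mem hY)
  obtain ⟨h1, h2, h3⟩ := h
  refine ⟨?_, ?_, ?_⟩
  · have := cj_lt h1 k
    rwa [eY] at this
  · have := cj_mono h2 k
    rwa [eH, cj_normalizer] at this
  · intro M' hYM' hM'M hHM'
    have a1 : Y ≤ Helper13.cj M' k⁻¹ := by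
      have := cj_mono hYM' k⁻¹
      rwa [eY'] at this
    have a2 : Helper13.cj M' k⁻¹ ≤ M := by
      have := cj_mono hM'M k⁻¹
      rwa [cj_inv_cj] at this
    have a3 : H ≤ Subgroup.normalizer ((Helper13.cj M' k⁻¹ : Subgroup G) : Set G) := by
      have := cj_mono hHM' k⁻¹
      rwa [eH', cj_normalizer] at this
    rcases h3 _ a1 a2 a3 with e | e
    · left
      have := congrArg (fun Z => Helper13.cj Z k) e
      simp only [cj_cj_inv, eY] at this
      exact this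
    · right
      have := congrArg (fun Z => Helper13.cj Z k) e
      simp only [cj_cj_inv] at this
      exact this

theorem le_normalizer_soc [Finite G] {H K X Y : Subgroup G} [X.Normal] [Y.Normal]
    (hK : K ≤ Subgroup.normalizer (H : Set G)) :
    K ≤ Subgroup.normalizer ((soc H X Y : Subgroup G) : Set G) := by
  intro k hk
  rw [mem_normalizer_iff_cj]
  apply cj_eq_of_le_of_finite
  unfold soc
  rw [cj_eq_map, Subgroup.map_le_iff_le_comap]
  apply sSup_le
  rintro M ⟨hM, hMX⟩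
  rw [← Subgroup.map_le_iff_le_comap, ← cj_eq_map]
  apply le_sSup
  refine ⟨hM.cj (hK hk) (le_normalizer_of_normal ⊤ Y (Subgroup.mem_top k)), ?_⟩
  have := cj_mono hMX k
  rwa [cj_eq_of_normal X] at this

theorem exists_minOver [Finite G] {H M Y : Subgroup G} (hlt : Y < M)
    (hH : H ≤ Subgroup.normalizer (M : Set G)) :
    ∃ M' : Subgroup G, M' ≤ M ∧ MinOver H M' Y := by
  obtain ⟨M', ⟨h1, h2, h3⟩, hmin⟩ := (wellFounded_lt (α := Subgroup G)).has_min
    {K : Subgroup G | Y < K ∧ K ≤ M ∧ H ≤ Subgroup.normalizer (K : Set G)} ⟨M, hlt, le_rfl, hH⟩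
  refine ⟨M', h2, h1, h3, ?_⟩
  intro K hK1 hK2 hK3
  rcases eq_or_lt_of_le hK1 with e | e
  · exact Or.inl e.symm
  · right
    by_contra hne
    exact hmin K ⟨e, hK2.trans h2, hK3⟩ (lt_of_le_of_ne hK2 hne)

theorem le_normalizer_inf {K A B : Subgroup G} (hA : K ≤ Subgroup.normalizer (A : Set G))
    (hB : K ≤ Subgroup.normalizer (B : Set G)) :
    K ≤ Subgroup.normalizer ((A ⊓ B : Subgroup G) : Set G) := by
  intro k hk
  rw [mem_normalizer_iff_cj, cj_inf, mem_normalizer_iff_cj.mp (hA hk),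
    mem_normalizer_iff_cj.mp (hB hk)]

theorem le_soc_of_subnormal [Finite G] {X Y : Subgroup G} (hXY : Cfsg.IsChiefFactor X Y)
    {H : Subgroup G} (hH : H.IsSubnormal) : X ≤ soc H X Y := by
  have hXn : X.Normal := hXY.2.1
  have hYn : Y.Normal := hXY.2.2.1
  induction hH with
  | top =>
    apply le_sSup
    refine ⟨⟨hXY.1, le_normalizer_of_normal _ _, ?_⟩, le_rfl⟩
    intro M' h1 h2 h3
    exact hXY.2.2.2 M' (Subgroup.normalizer_eq_top_iff.mp (top_le_iff.mp h3)) h1 h2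
  | step H K hle _ hN ih =>
    have hKH : K ≤ Subgroup.normalizer (H : Set G) :=
      (Subgroup.normal_subgroupOf_iff_le_normalizer hle).mp hN
    refine ih.trans (sSup_le ?_)
    rintro M ⟨hM, hMX⟩
    obtain ⟨M', hM'M, hM'⟩ := exists_minOver hM.1 (hle.trans hM.2.1)
    have hM's : M' ≤ soc H X Y := le_sSup ⟨hM', hM'M.trans hMX⟩
    rcases hM.2.2 (M ⊓ soc H X Y) (le_inf hM.1.le (hM'.1.le.trans hM's)) inf_le_left
      (le_normalizer_inf hM.2.1 (le_normalizer_soc hKH)) with e | e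
    · exact absurd (e ▸ le_inf hM'M hM's) hM'.1.not_ge
    · exact e ▸ inf_le_right

end

section linear
variable {Γ : Type*} [Group Γ]

theorem commutator_mul_of_comm {X : Subgroup Γ} [hX : X.Normal]
    (hc : ∀ x ∈ X, ∀ y ∈ X, x * y = y * x) {x y : Γ} (hx : x ∈ X) (hy : y ∈ X) (b : Γ) :
    ⁅x * y, b⁆ = ⁅x, b⁆ * ⁅y, b⁆ := by
  have h1 : ⁅y, b⁆ ∈ X := by
    rw [commutatorElement_def, mul_assoc, mul_assoc]
    exact X.mul_mem hy (by rw [← mul_assoc]; exact hX.conj_mem _ (X.inv_mem hy) b)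
  have h2 : b * x⁻¹ * b⁻¹ ∈ X := hX.conj_mem _ (X.inv_mem hx) b
  calc ⁅x * y, b⁆ = x * (⁅y, b⁆ * (b * x⁻¹ * b⁻¹)) := by
        simp only [commutatorElement_def]; group
    _ = x * ((b * x⁻¹ * b⁻¹) * ⁅y, b⁆) := by rw [hc _ h1 _ h2]
    _ = ⁅x, b⁆ * ⁅y, b⁆ := by simp only [commutatorElement_def]; group

theorem quad_sSup_aux {X B : Subgroup Γ} [hX : X.Normal]
    (hc : ∀ x ∈ X, ∀ y ∈ X, x * y = y * x) (𝓕 : Set (Subgroup Γ))
    (h𝓕 : ∀ M ∈ 𝓕, M ≤ X ∧ ⁅⁅M, B⁆, B⁆ = ⊥) : ⁅⁅sSup 𝓕, B⁆, B⁆ = ⊥ := by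
  let L : Subgroup Γ :=
    { carrier := {x | x ∈ X ∧ ∀ b ∈ B, ⁅x, b⁆ ∈ Subgroup.centralizer (B : Set Γ)}
      one_mem' := ⟨X.one_mem, fun b _ => by simp⟩
      mul_mem' := by
        rintro x y ⟨hx, hx'⟩ ⟨hy, hy'⟩
        refine ⟨X.mul_mem hx hy, fun b hb => ?_⟩
        rw [commutator_mul_of_comm hc hx hy]
        exact mul_mem (hx' b hb) (hy' b hb)
      inv_mem' := by
        rintro x ⟨hx, hx'⟩
        refine ⟨X.inv_mem hx, fun b hb => ?_⟩
        have h1 := commutator_mul_of_comm hc hx (X.inv_mem hx) b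
        rw [mul_inv_cancel, commutatorElement_one_left] at h1
        have h2 : ⁅x⁻¹, b⁆ = (⁅x, b⁆)⁻¹ := (inv_eq_of_mul_eq_one_right h1.symm).symm
        rw [h2]
        exact inv_mem (hx' b hb) }
  have hL : sSup 𝓕 ≤ L := by
    apply sSup_le
    intro M hM x hx
    obtain ⟨h1, h2⟩ := h𝓕 M hM
    refine ⟨h1 hx, fun b hb => ?_⟩
    exact (Subgroup.commutator_eq_bot_iff_le_centralizer.mp h2)
      (Subgroup.commutator_mem_commutator hx hb)
  rw [Subgroup.commutator_eq_bot_iff_le_centralizer, Subgroup.commutator_le]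
  intro x hx b hb
  exact (hL hx).2 b hb

end linear

section
variable {G : Type*} [Group G]

theorem quad_sSup {X Y B : Subgroup G} [hX : X.Normal] [hY : Y.Normal] (hab : ⁅X, X⁆ ≤ Y)
    (𝓕 : Set (Subgroup G)) (h𝓕 : ∀ M ∈ 𝓕, M ≤ X ∧ ⁅⁅M, B⁆, B⁆ ≤ Y) : ⁅⁅sSup 𝓕, B⁆, B⁆ ≤ Y := by
  have key : ∀ X : Subgroup G, X ≤ Y ↔ X.map (QuotientGroup.mk' Y) = ⊥ := by
    intro X
    rw [Subgroup.map_eq_bot_iff, QuotientGroup.ker_mk']
  have hXn := hX.map (QuotientGroup.mk' Y) (QuotientGroup.mk'_surjective Y)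
  have hc : ∀ x ∈ X.map (QuotientGroup.mk' Y), ∀ y ∈ X.map (QuotientGroup.mk' Y), x * y = y * x := by
    have h1 : ⁅X.map (QuotientGroup.mk' Y), X.map (QuotientGroup.mk' Y)⁆ = ⊥ := by
      rw [← Subgroup.map_commutator]; exact (key _).mp hab
    intro x hx y hy
    have h2 := (Subgroup.commutator_eq_bot_iff_le_centralizer.mp h1) hx
    exact ((Subgroup.mem_centralizer_iff.mp h2) y hy).symm
  have h := quad_sSup_aux (B := B.map (QuotientGroup.mk' Y)) hc
    ((fun M => M.map (QuotientGroup.mk' Y)) '' 𝓕) (by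
      rintro _ ⟨M, hM, rfl⟩
      refine ⟨Subgroup.map_mono (h𝓕 M hM).1, ?_⟩
      rw [← Subgroup.map_commutator, ← Subgroup.map_commutator]
      exact (key _).mp (h𝓕 M hM).2)
  rw [key, Subgroup.map_commutator, Subgroup.map_commutator]
  have e : (sSup 𝓕).map (QuotientGroup.mk' Y) =
      sSup ((fun M => M.map (QuotientGroup.mk' Y)) '' 𝓕) := by
    rw [sSup_image]
    exact (Subgroup.gc_map_comap (QuotientGroup.mk' Y)).l_sSup
  rw [e]
  exact h

/-- Clifford-type lemma: quadratic action on the two layers of a filtration invariant under a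
subnormal subgroup forces quadratic action on a chief factor. -/
theorem clifford_quadratic [Finite G] {X Y : Subgroup G} (hXY : Cfsg.IsChiefFactor X Y)
    (hab : ⁅X, X⁆ ≤ Y) {H B W : Subgroup G} (hH : H.IsSubnormal) (hBH : B ≤ H)
    (hW : H ≤ Subgroup.normalizer (W : Set G)) (h1 : ⁅⁅X, B⁆, B⁆ ≤ W)
    (h2 : ⁅⁅X ⊓ W, B⁆, B⁆ ≤ Y) : ⁅⁅X, B⁆, B⁆ ≤ Y := by
  have hXn : X.Normal := hXY.2.1
  have hYn : Y.Normal := hXY.2.2.1
  have hs := le_soc_of_subnormal hXY hH
  refine (Subgroup.commutator_mono (Subgroup.commutator_mono hs le_rfl) le_rfl).trans ?_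
  apply quad_sSup hab
  rintro M ⟨hM, hMX⟩
  refine ⟨hMX, ?_⟩
  have hBM : B ≤ Subgroup.normalizer (M : Set G) := hBH.trans hM.2.1
  have hMB : ⁅M, B⁆ ≤ M := Subgroup.le_normalizer_iff_commutator_le_left.mp hBM
  have hn : H ≤ Subgroup.normalizer (((M ⊓ W) ⊔ Y : Subgroup G) : Set G) := by
    intro k hk
    have a1 := mem_normalizer_iff_cj.mp ((le_normalizer_inf hM.2.1 hW) hk)
    rw [mem_normalizer_iff_cj]
    apply cj_eq_of_le_of_finite
    rw [cj_eq_map, Subgroup.map_sup, ← cj_eq_map, ← cj_eq_map, a1, cj_eq_of_normal]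
  rcases hM.2.2 ((M ⊓ W) ⊔ Y) le_sup_right (sup_le inf_le_left hM.1.le) hn with e | e
  · have a1 : ⁅⁅M, B⁆, B⁆ ≤ M := (Subgroup.commutator_mono hMB le_rfl).trans hMB
    have a2 : ⁅⁅M, B⁆, B⁆ ≤ W :=
      (Subgroup.commutator_mono (Subgroup.commutator_mono hMX le_rfl) le_rfl).trans h1
    exact (le_inf a1 a2).trans (e ▸ le_sup_left)
  · have a1 : Cfsg.iterCommutator (M ⊓ W) B 2 ≤ Y :=
      (Subgroup.commutator_mono (Subgroup.commutator_mono (inf_le_inf_right W hMX) le_rfl)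
        le_rfl).trans h2
    exact iter_le_of_sup e a1

end

/-- every subgroup of a finite `p`-group is subnormal -/
theorem isSubnormal_of_isPGroup {P : Type*} [Group P] [Finite P] {p : ℕ} [Fact p.Prime]
    (hP : IsPGroup p P) (H : Subgroup P) : H.IsSubnormal := by
  have hnil : Group.IsNilpotent P := hP.isNilpotent
  have hnc := Group.normalizerCondition_of_isNilpotent (G := P)
  induction H using WellFoundedGT.induction with
  | ind H ih =>
    by_cases hH : H = ⊤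
    · rw [hH]; exact Subgroup.IsSubnormal.top
    · have hlt := hnc H (lt_top_iff_ne_top.mpr hH)
      exact Subgroup.IsSubnormal.step H _ hlt.le (ih _ hlt) Subgroup.normal_in_normalizer

end Cfsg.Agent.Lib.Helper13
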