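import Cfsg.Agent.Lib.Helper13.SecMain
import Cfsg.Prelude.Def_LocalEven

set_option autoImplicit false

namespace Cfsg.Agent.Lib.Helper13

universe u

variable {p : ℕ} [Fact p.Prime]

theorem FC_of_factorization {W₁ W₂ : ∀ (Q : Type u) [Group Q], Subgroup Q}
    (hW₁ : Cfsg.IsCharPFunctor.{u} p W₁) (hW₂ : Cfsg.IsCharPFunctor.{u} p W₂)
    {Z : Type u} [Group Z] [Finite Z] (T : Sylow p Z)
    (hfac : ∀ x : Z, ∃ a ∈ Subgroup.normalizer
        ((Cfsg.inducedFunctor (G := Z) W₁ (T : Subgroup Z) : Subgroup Z) : Set Z),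
      ∃ b ∈ Subgroup.normalizer
        ((Cfsg.inducedFunctor (G := Z) W₂ (T : Subgroup Z) : Subgroup Z) : Set Z), x = a * b) :
    FC p {W₁, W₂} Z := by
  refine familyControls_iff.mpr ⟨T, le_top, T.2, not_dvd_relIndex_top T, ?_⟩
  intro B hB g _ hBg
  obtain ⟨a, ha, b, hb, rfl⟩ := hfac g
  have hT1 : (T : Subgroup Z) ≤ Subgroup.normalizer
        ((Cfsg.inducedFunctor (G := Z) W₁ (T : Subgroup Z) : Subgroup Z) : Set Z) :=
    Subgroup.le_normalizer.trans
      (normalizer_le_normalizer_functor (induced_isConjugacyFunctor hW₁) T.2)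
  have hT2 : (T : Subgroup Z) ≤ Subgroup.normalizer
        ((Cfsg.inducedFunctor (G := Z) W₂ (T : Subgroup Z) : Subgroup Z) : Set Z) :=
    Subgroup.le_normalizer.trans
      (normalizer_le_normalizer_functor (induced_isConjugacyFunctor hW₂) T.2)
  have k1 : cj B a ≤ Subgroup.normalizer
        ((Cfsg.inducedFunctor (G := Z) W₁ (T : Subgroup Z) : Subgroup Z) : Set Z) ⊓
      Subgroup.normalizer
        ((Cfsg.inducedFunctor (G := Z) W₂ (T : Subgroup Z) : Subgroup Z) : Set Z) := by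
    refine le_inf ?_ ?_
    · have := cj_mono (hB.trans hT1) a
      rwa [cj_eq_self_of_mem ha] at this
    · rw [← cj_cj, cj_le_iff] at hBg
      refine hBg.trans ?_
      have := cj_mono hT2 b⁻¹
      rwa [cj_eq_self_of_mem (inv_mem hb)] at this
  obtain ⟨m, hm, hle⟩ := exists_cj_le_of_sylow T.2
    (not_dvd_relIndex_of_sylow T (le_inf hT1 hT2)) k1 (isPGroup_cj (T.2.to_le hB) a)
  obtain ⟨hm1, hm2⟩ := Subgroup.mem_inf.mp hm
  rw [cj_cj] at hle
  have g1 : FGood (ind {W₁, W₂} Z) ⊤ (T : Subgroup Z) B (a * m) :=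
    FGood.step ⟨W₁, by simp, rfl⟩ (Subgroup.mem_inf.mpr ⟨Subgroup.mem_top _, mul_mem ha hm1⟩) hB
  have g2 : FGood (ind {W₁, W₂} Z) ⊤ (T : Subgroup Z) (cj B (a * m)) (m⁻¹ * b) :=
    FGood.step ⟨W₂, by simp, rfl⟩
      (Subgroup.mem_inf.mpr ⟨Subgroup.mem_top _, mul_mem (inv_mem hm2) hb⟩) hle
  have := g1.trans g2
  rwa [show a * m * (m⁻¹ * b) = a * b by group] at this

theorem FC_singleton_of_normal {W : ∀ (Q : Type u) [Group Q], Subgroup Q}
    {Z : Type u} [Group Z] [Finite Z] (T : Sylow p Z)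
    (h : (Cfsg.inducedFunctor (G := Z) W (T : Subgroup Z)).Normal) : FC p {W} Z := by
  refine familyControls_iff.mpr ⟨T, le_top, T.2, not_dvd_relIndex_top T, ?_⟩
  intro B hB g _ _
  exact FGood.step ⟨W, rfl, rfl⟩ (Subgroup.mem_inf.mpr ⟨Subgroup.mem_top _, by
    rw [Subgroup.normalizer_eq_top]; exact Subgroup.mem_top _⟩) hB

theorem controlsStrongFusion_of_FC {W : ∀ (Q : Type u) [Group Q], Subgroup Q}
    (hW : Cfsg.IsCharPFunctor.{u} p W) {Z : Type u} [Group Z] [Finite Z] (h : FC p {W} Z)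
    (T : Sylow p Z) : Cfsg.ControlsStrongFusion p (Cfsg.inducedFunctor (G := Z) W (T : Subgroup Z)) := by
  have h1 : FCSF (ind {W} Z) ⊤ (T : Subgroup Z) :=
    FCSF_of_familyControls (ind_isConjugacyFunctor (by rintro _ rfl; exact hW)) h le_top T.2
      (not_dvd_relIndex_top T)
  have e : ind {W} Z = {Cfsg.inducedFunctor (G := Z) W} := by
    unfold ind; rw [Set.image_singleton]
  rw [e, ← CSF_iff_FCSF] at h1
  refine ⟨T, induced_le _, fun A hA => ⟨hA, fun g hg => ?_⟩⟩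
  have hBk : cj (Subgroup.closure A) g⁻¹ ≤ T :=
    cj_closure_le_of_image_subset (by simpa using hg)
  obtain ⟨x, hx, e⟩ := h1 (Subgroup.closure A) ((Subgroup.closure_le _).mpr hA) g⁻¹
    (Subgroup.mem_top _) hBk
  exact ⟨x⁻¹, inv_mem (Subgroup.mem_inf.mp hx).2, fun a ha => by
    simpa using (e a (Subgroup.subset_closure ha)).symm⟩

end Cfsg.Agent.Lib.Helper13
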