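import Cfsg.Agent.Lib.Helper13.KInfFusion
import Cfsg.Agent.Lib.Helper13.KInfApps
import Cfsg.Agent.Lib.Helper13.SecApps
import Cfsg.Agent.Lib.Helper27.FusionSolvable
import Cfsg.Agent.Lib.Helper26.Model
import Cfsg.Agent.Lib.Helper26.GroupFusion
import Cfsg.Agent.S5089

set_option autoImplicit false

namespace Cfsg.Agent.Lib.Helper13

open Cfsg Cfsg.FusionSystem
open Cfsg.Agent.Lib.Helper26 (IsMap FacData FacMap toFun₂ mem_preimageAlong)

universe u

variable {p : ℕ} [hp : Fact p.Prime]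

/-- the centre of a nontrivial `p`-subgroup, as a subgroup of the ambient group -/
theorem exists_central_ne_one {X : Type*} [Group X] [Finite X] {W : Subgroup X} (hW : IsPGroup p W)
    (hne : W ≠ ⊥) : ∃ a ∈ W ⊓ Subgroup.centralizer (W : Set X), a ≠ 1 := by
  have : Nontrivial W := (Subgroup.nontrivial_iff_ne_bot _).mpr hne
  have h2 := hW.center_nontrivial
  obtain ⟨z, hz⟩ := exists_ne (1 : Subgroup.center W)
  refine ⟨((z : W) : X), Subgroup.mem_inf.mpr ⟨(z : W).2, ?_⟩,
    fun h => hz (Subtype.ext (Subtype.ext h))⟩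
  rw [Subgroup.mem_centralizer_iff]
  intro w hw
  have := Subgroup.mem_center_iff.mp z.2 ⟨w, hw⟩
  exact congrArg Subtype.val this

/-- the fusion system of a group all of whose sections are `p`-stable is solvable -/
theorem groupFS_solvable_of_secStable {G : Type u} [Group G] [Finite G]
    (hs : SecStable p G) (P : Sylow p G) :
    (groupFusionSystem (P : Subgroup G)).IsSolvableSystem := by
  intro R hR hne _ E hfac
  have hS : IsPGroup p (P : Subgroup G) := P.2
  have hF := Helper26.groupFS_saturated P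
  have d := Helper27.facData_mk' hR
  have hE := (Helper26.isFactorSystem_iff d).mp hfac
  have hEs := Helper26.factor_saturated hS hF d hE
  have hp' : IsPGroup p (⊤ : Subgroup (↥(P : Subgroup G) ⧸ R.subgroupOf (P : Subgroup G))) :=
    (hS.to_quotient _).to_subgroup _
  rw [Cfsg.Agent.S5089.result p hp' E hEs]
  -- the section `N_G(R)/R`
  set N : Subgroup G := Subgroup.normalizer (R : Set G) with hN
  have hRP : R ≤ (P : Subgroup G) := hR.1
  have hPN : (P : Subgroup G) ≤ N := by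
    intro x hx
    rw [hN, mem_normalizer_iff_cj]
    apply cj_eq_of_le_of_finite
    intro y hy
    rw [mem_cj] at hy
    have := Helper26.stronglyClosed_conj_mem hR (inv_mem hx) hy
    have e : x⁻¹ * (x * y * x⁻¹) * x⁻¹⁻¹ = y := by group
    rwa [e] at this
  have hnorm : (R.subgroupOf N).Normal := Subgroup.normal_in_normalizer
  set X := ↥N ⧸ R.subgroupOf N with hX
  set π : ↥N →* X := QuotientGroup.mk' (R.subgroupOf N) with hπ
  set T : Sylow p X := (P.subtype hPN).mapSurjective (QuotientGroup.mk'_surjective _) with hT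
  have hTmem : ∀ t : X, t ∈ (T : Subgroup X) ↔ ∃ x : (P : Subgroup G), π (Subgroup.inclusion hPN x) = t := by
    intro t
    rw [hT, Sylow.coe_mapSurjective, Sylow.coe_subtype]
    constructor
    · rintro ⟨n, hn, rfl⟩
      exact ⟨⟨n, Subgroup.mem_subgroupOf.mp hn⟩, rfl⟩
    · rintro ⟨x, rfl⟩
      exact ⟨Subgroup.inclusion hPN x, Subgroup.mem_subgroupOf.mpr x.2, rfl⟩
  have hFC : FC p {Cfsg.kInfLower} X := FC_kInfLower_of_stable (hs.sec (Sec.mk N R))
  have h1 : FCSF (ind {Cfsg.kInfLower} X) ⊤ (T : Subgroup X) :=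
    FCSF_of_familyControls (ind_isConjugacyFunctor (by rintro _ rfl; exact kInfLower_isChar p)) hFC
      le_top T.2 (not_dvd_relIndex_top T)
  have e : ind {Cfsg.kInfLower} X = {Cfsg.inducedFunctor (G := X) Cfsg.kInfLower} := by
    unfold ind; rw [Set.image_singleton]
  rw [e, ← CSF_iff_FCSF] at h1
  set WT : Subgroup X := Cfsg.inducedFunctor (G := X) Cfsg.kInfLower (T : Subgroup X) with hWT
  have hWTT : WT ≤ (T : Subgroup X) := induced_le _
  set θ : ↥(P : Subgroup G) →* ↥(P : Subgroup G) ⧸ R.subgroupOf (P : Subgroup G) :=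
    QuotientGroup.mk' (R.subgroupOf (P : Subgroup G)) with hθ
  -- `T` is nontrivial
  have hTne : (T : Subgroup X) ≠ ⊥ := by
    intro hbot
    apply hne
    apply le_antisymm hRP
    intro x hx
    have h2 : π (Subgroup.inclusion hPN ⟨x, hx⟩) ∈ (T : Subgroup X) := (hTmem _).mpr ⟨_, rfl⟩
    rw [hbot, Subgroup.mem_bot, hπ, QuotientGroup.mk'_apply, QuotientGroup.eq_one_iff,
      Subgroup.mem_subgroupOf] at h2
    exact h2
  have hWTne : WT ≠ ⊥ := by
    have hnt : Nontrivial (T : Subgroup X) := (Subgroup.nontrivial_iff_ne_bot _).mpr hTne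
    have h3 := (kInfLower_isChar p).1 ↥(T : Subgroup X) T.2 hnt
    intro h4
    apply h3
    rw [hWT] at h4
    unfold Cfsg.inducedFunctor at h4
    exact (Subgroup.map_eq_bot_iff_of_injective _ (Subgroup.subtype_injective _)).mp h4
  set A : Subgroup X := WT ⊓ Subgroup.centralizer (WT : Set X) with hA
  obtain ⟨a₀, ha₀, ha₀1⟩ := exists_central_ne_one (T.2.to_le hWTT) hWTne
  have hAT : A ≤ (T : Subgroup X) := inf_le_left.trans hWTT
  -- the normalizer of `WT` normalizes `A`
  have hNA : ∀ x ∈ Subgroup.normalizer (WT : Set X), ∀ a ∈ A, x⁻¹ * a * x ∈ A := by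
    intro x hx a ha
    have hx' := mem_normalizer_iff_cj.mp hx
    have h5 : x⁻¹ * a * x ∈ cj A x := conj_mem_cj ha
    rwa [hA, cj_inf, cj_centralizer, hx'] at h5
  set ι : (↥(P : Subgroup G) ⧸ R.subgroupOf (P : Subgroup G)) →* X :=
    QuotientGroup.map (R.subgroupOf (P : Subgroup G)) (R.subgroupOf N) (Subgroup.inclusion hPN)
      (by intro x hx; exact hx) with hι
  have hιθ : ∀ x : (P : Subgroup G), ι (θ x) = π (Subgroup.inclusion hPN x) := fun x => rfl
  have hιinj : Function.Injective ι := by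
    rw [injective_iff_map_eq_one]
    intro y hy
    obtain ⟨x, rfl⟩ := QuotientGroup.mk'_surjective _ y
    change ι (θ x) = 1 at hy
    rw [hιθ, hπ, QuotientGroup.mk'_apply, QuotientGroup.eq_one_iff, Subgroup.mem_subgroupOf] at hy
    rw [QuotientGroup.mk'_apply, QuotientGroup.eq_one_iff, Subgroup.mem_subgroupOf]
    exact hy
  refine ⟨A.comap ι, ?_, ?_, ?_⟩
  · intro hbot
    obtain ⟨x, hx⟩ := (hTmem a₀).mp (hAT ha₀)
    have h6 : θ x ∈ A.comap ι := by
      rw [Subgroup.mem_comap, hιθ, hx]; exact ha₀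
    rw [hbot, Subgroup.mem_bot] at h6
    apply ha₀1
    rw [← hx, ← hιθ, h6, map_one]
  · refine ⟨⟨fun u v => ?_⟩⟩
    apply Subtype.ext
    apply hιinj
    show ι ((u : _) * v) = ι (v * u)
    rw [map_mul, map_mul]
    have hu : ι u ∈ A := u.2
    have hv : ι v ∈ A := v.2
    exact (Subgroup.mem_centralizer_iff.mp hv.2 _ hu.1)
  · rw [Helper26.stronglyClosed_iff]
    refine ⟨le_top, fun P' hP' f' hf' y hy => ?_⟩
    obtain ⟨-, f, hf, hff'⟩ := (hE P' f').mp hf'
    obtain ⟨hpre, hfP, g, hg⟩ := Helper26.isMap_groupFS.mp hf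
    have hgN : g ∈ N := by
      have h7 : g⁻¹ ∈ N := by
        rw [hN, mem_normalizer_iff_cj]
        apply cj_eq_of_le_of_finite
        intro z hz
        rw [mem_cj] at hz
        have h8 := Helper26.stronglyClosed_map_mem hR hf (d.le_pre P' hz) hz
        rw [hg _ (d.le_pre P' hz)] at h8
        have e : g * (g⁻¹ * z * g⁻¹⁻¹) * g⁻¹ = z := by group
        rwa [e] at h8
      simpa using inv_mem h7
    -- key formula
    have key : ∀ x (hx : x ∈ preimageAlong θ P'),
        ι (toFun₂ θ (f x)) = π ⟨g, hgN⟩ * ι (toFun₂ θ x) * (π ⟨g, hgN⟩)⁻¹ := by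
      intro x hx
      rw [Helper26.toFun₂_of_mem θ (hfP x hx), Helper26.toFun₂_of_mem θ (hpre hx), hιθ, hιθ,
        ← map_inv, ← map_mul, ← map_mul]
      congr 1
      apply Subtype.ext
      exact hg x hx
    have hB : P'.map ι ≤ (T : Subgroup X) := by
      rintro _ ⟨y', hy', rfl⟩
      exact hAT (hP' hy')
    have hcj : cj (P'.map ι) (π ⟨g, hgN⟩)⁻¹ ≤ (T : Subgroup X) := by
      intro t ht
      rw [mem_cj] at ht
      obtain ⟨y', hy', hy't⟩ := ht
      obtain ⟨x', hx', rfl⟩ := d.exists_pre' le_top hy'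
      have h9 := key x' hx'
      rw [hy't] at h9
      have e : π ⟨g, hgN⟩ * ((π ⟨g, hgN⟩)⁻¹ * t * (π ⟨g, hgN⟩)⁻¹⁻¹) * (π ⟨g, hgN⟩)⁻¹ = t := by group
      rw [e, Helper26.toFun₂_of_mem θ (hfP x' hx'), hιθ] at h9
      exact (hTmem t).mpr ⟨_, h9⟩
    obtain ⟨n, hn, hna⟩ := h1 (P'.map ι) hB (π ⟨g, hgN⟩)⁻¹ (Subgroup.mem_top _) hcj
    obtain ⟨x, hx, rfl⟩ := d.exists_pre' le_top hy
    rw [hff' x hx, Subgroup.mem_comap, key x hx]
    have h10 := hna (ι (toFun₂ θ x)) ⟨_, hy, rfl⟩
    rw [inv_inv] at h10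
    rw [← h10]
    exact hNA n (Subgroup.mem_inf.mp hn).2 _ (hP' hy)

end Cfsg.Agent.Lib.Helper13
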