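import Cfsg.Agent.Lib.Helper13.S4Cfg
import Cfsg.Agent.Lib.Helper5.NPCFun
import Cfsg.Agent.Lib.Helper4.BO2
import Cfsg.Agent.S0199
import Cfsg.Agent.S0055

set_option autoImplicit false

open scoped commutatorElement

namespace Cfsg.Agent.Lib.Helper13

open Cfsg Cfsg.Agent.Lib.Helper17

variable {G : Type*} [Group G]

/-- ambient form of `involves_perm4_of_normal_four` -/
theorem involves_perm4_of_four [Finite G] {U : Subgroup G} (hU4 : Nat.card U = 4) {y a : G}
    (hyN : y ∈ Subgroup.normalizer (U : Set G)) (haN : a ∈ Subgroup.normalizer (U : Set G))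
    (hy : Odd (orderOf y)) (hyU : y ∉ Subgroup.centralizer (U : Set G))
    (ha2 : ∃ k, orderOf a = 2 ^ k) (haU : a ∉ Subgroup.centralizer (U : Set G)) :
    Involves (Equiv.Perm (Fin 4)) G := by
  set L := Subgroup.normalizer (U : Set G) with hL
  have hUL : U ≤ L := Subgroup.le_normalizer
  haveI : (U.subgroupOf L).Normal := Subgroup.normal_in_normalizer
  apply involves_of_subgroup L
  have e1 := Cfsg.Agent.Lib.Helper5.centralizer_subgroupOf hUL
  apply involves_perm4_of_normal_four (U.subgroupOf L) (y := ⟨y, hyN⟩) (a := ⟨a, haN⟩)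
  · rw [card_subgroupOf_of_le hUL, hU4]
  · rw [Subgroup.orderOf_mk]; exact hy
  · rw [e1, Subgroup.mem_subgroupOf]; exact hyU
  · rw [Subgroup.orderOf_mk]; exact ha2
  · rw [e1, Subgroup.mem_subgroupOf]; exact haU

theorem mem_centralizer_of_card_le_two [Finite G] {U : Subgroup G} (hU : Nat.card U ≤ 2) {g : G}
    (hg : g ∈ Subgroup.normalizer (U : Set G)) : g ∈ Subgroup.centralizer (U : Set G) := by
  classical
  rw [Subgroup.mem_centralizer_iff]
  intro u hu
  by_contra hne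
  have hgu : g * u * g⁻¹ ∈ U := (Subgroup.mem_normalizer_iff.mp hg u).mp hu
  haveI : Fintype U := Fintype.ofFinite U
  have h3 : 2 < Fintype.card U := by
    rw [Fintype.two_lt_card_iff]
    refine ⟨1, ⟨u, hu⟩, ⟨g * u * g⁻¹, hgu⟩, ?_, ?_, ?_⟩
    · intro h
      have h1 : u = 1 := (congrArg Subtype.val h).symm
      apply hne
      rw [h1]; simp
    · intro h
      have h1 : g * u * g⁻¹ = 1 := (congrArg Subtype.val h).symm
      have h2 : u = 1 := by
        calc u = g⁻¹ * (g * u * g⁻¹) * g := by group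
          _ = 1 := by rw [h1]; group
      apply hne
      rw [h2]; simp
    · intro h
      have h1 : u = g * u * g⁻¹ := congrArg Subtype.val h
      apply hne
      calc u * g = (g * u * g⁻¹) * g := by rw [← h1]
        _ = g * u := by group
  rw [← Nat.card_eq_fintype_card] at h3
  omega

/-- the subgroup of elements `g ∈ N(V)` with `[V, g] ⊆ U` (for `U ≤ V`) -/
def commInto (V U : Subgroup G) (hUV : U ≤ V) : Subgroup G where
  carrier := {g | g ∈ Subgroup.normalizer (V : Set G) ∧ ∀ v ∈ V, ⁅v, g⁆ ∈ U}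
  one_mem' := ⟨Subgroup.one_mem _, fun v _ => by simp⟩
  mul_mem' := by
    rintro g h ⟨hg, hg'⟩ ⟨hh, hh'⟩
    refine ⟨Subgroup.mul_mem _ hg hh, fun v hv => ?_⟩
    have e : ⁅v, g * h⁆ = ⁅v, g⁆ * (⁅⁅v, h⁆, g⁆⁻¹ * ⁅v, h⁆) := by
      simp only [commutatorElement_def]; group
    rw [e]
    exact U.mul_mem (hg' v hv) (U.mul_mem (U.inv_mem (hg' _ (hUV (hh' v hv))))
      (hh' v hv))
  inv_mem' := by
    rintro g ⟨hg, hg'⟩
    refine ⟨Subgroup.inv_mem _ hg, fun v hv => ?_⟩
    have hv' : g⁻¹ * v * g ∈ V := by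
      have := (Subgroup.mem_normalizer_iff.mp (Subgroup.inv_mem _ hg) v).mp hv
      rwa [inv_inv] at this
    have e : ⁅v, g⁻¹⁆ = ⁅g⁻¹ * v * g, g⁆⁻¹ := by
      simp only [commutatorElement_def]; group
    rw [e]
    exact U.inv_mem (hg' _ hv')

theorem commInto_le_normalizer (V U : Subgroup G) (hUV : U ≤ V) :
    commInto V U hUV ≤ Subgroup.normalizer (U : Set G) := by
  apply le_normalizer_of_conj_mem
  rintro g ⟨-, hg'⟩ u hu
  have e : g * u * g⁻¹ = ⁅u, g⁆⁻¹ * u := by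
    simp only [commutatorElement_def]; group
  rw [e]
  exact U.mul_mem (U.inv_mem (hg' _ (hUV hu))) hu

/-- Two `2`-elements inducing transvections on the abelian `2`-group `V` generate a `2`-group
modulo `C(V)`, unless `S₄` is involved. -/
theorem pow_mem_centralizer_of_transvections [Finite G]
    (hS4 : ¬ Involves (Equiv.Perm (Fin 4)) G) {V : Subgroup G} (hV : IsMulCommutative V)
    (hV2 : IsPGroup 2 V) {a b : G} (haN : a ∈ Subgroup.normalizer (V : Set G))
    (hbN : b ∈ Subgroup.normalizer (V : Set G)) (ha2 : ∃ k, orderOf a = 2 ^ k)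
    (hb2 : ∃ k, orderOf b = 2 ^ k)
    (ha : (V ⊓ Subgroup.centralizer ((Subgroup.zpowers a : Subgroup G) : Set G)).relIndex V ≤ 2)
    (hb : (V ⊓ Subgroup.centralizer ((Subgroup.zpowers b : Subgroup G) : Set G)).relIndex V ≤ 2) :
    ∀ k ∈ Subgroup.zpowers a ⊔ Subgroup.zpowers b, ∃ e : ℕ,
      k ^ 2 ^ e ∈ Subgroup.centralizer (V : Set G) := by
  intro k hk
  obtain ⟨e, m, hmo, hem⟩ := Nat.exists_eq_two_pow_mul_odd (orderOf_pos k).ne'
  refine ⟨e, ?_⟩
  by_contra hyV
  set y := k ^ 2 ^ e with hy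
  have hyo : Odd (orderOf y) := by
    have h1 : orderOf y ∣ m := by
      apply orderOf_dvd_of_pow_eq_one
      rw [hy, ← pow_mul, ← hem, pow_orderOf_eq_one]
    exact Odd.of_dvd_nat hmo h1
  have hza : Subgroup.zpowers a ≤ Subgroup.normalizer (V : Set G) := by
    rwa [Subgroup.zpowers_le]
  have hzb : Subgroup.zpowers b ≤ Subgroup.normalizer (V : Set G) := by
    rwa [Subgroup.zpowers_le]
  set Ua := ⁅V, Subgroup.zpowers a⁆ with hUa
  set Ub := ⁅V, Subgroup.zpowers b⁆ with hUb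
  have hUaV : Ua ≤ V := commutator_le_left_of_le_normalizer hza
  have hUbV : Ub ≤ V := commutator_le_left_of_le_normalizer hzb
  have hca : Nat.card Ua ≤ 2 := by
    rw [hUa, Cfsg.Agent.Lib.Helper4.BO.card_commutator_zpowers V hV a haN]; exact ha
  have hcb : Nat.card Ub ≤ 2 := by
    rw [hUb, Cfsg.Agent.Lib.Helper4.BO.card_commutator_zpowers V hV b hbN]; exact hb
  set U := Ua ⊔ Ub with hU
  have hUV : U ≤ V := sup_le hUaV hUbV
  have hVcomm : ∀ u ∈ V, ∀ v ∈ V, u * v = v * u := fun u hu v hv =>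
    congrArg Subtype.val (hV.is_comm.comm ⟨u, hu⟩ ⟨v, hv⟩)
  have hcU : Nat.card U ≤ 4 := by
    have h1 := Cfsg.Agent.Lib.Helper5.card_sup_mul_card_inf Ua Ub (by
      apply le_normalizer_of_conj_mem
      intro g hg u hu
      rw [hVcomm g (hUaV hg) u (hUbV hu), mul_inv_cancel_right]
      exact hu)
    have h2 : 0 < Nat.card ↥(Ua ⊓ Ub) := Nat.card_pos
    have h3 : Nat.card Ua * Nat.card Ub ≤ 2 * 2 := Nat.mul_le_mul hca hcb
    nlinarith
  have hK : Subgroup.zpowers a ⊔ Subgroup.zpowers b ≤ commInto V U hUV := by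
    apply sup_le
    · rw [Subgroup.zpowers_le]
      exact ⟨haN, fun v hv => le_sup_left (a := Ua)
        (Subgroup.commutator_mem_commutator hv (Subgroup.mem_zpowers a))⟩
    · rw [Subgroup.zpowers_le]
      exact ⟨hbN, fun v hv => le_sup_right (b := Ub)
        (Subgroup.commutator_mem_commutator hv (Subgroup.mem_zpowers b))⟩
  have hyK : y ∈ Subgroup.zpowers a ⊔ Subgroup.zpowers b := Subgroup.pow_mem _ hk _
  have hyT := hK hyK
  have hNU := commInto_le_normalizer V U hUV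
  -- `y` does not centralize `U`
  have hyU : y ∉ Subgroup.centralizer (U : Set G) := by
    intro hc
    apply hyV
    set Q := Subgroup.zpowers y with hQ
    have hQV : Q ≤ Subgroup.normalizer (V : Set G) := by
      rw [hQ, Subgroup.zpowers_le]; exact hyT.1
    obtain ⟨n, hn⟩ := IsPGroup.iff_card.mp hV2
    have hcop : (Nat.card Q).Coprime (Nat.card V) := by
      rw [hQ, Nat.card_zpowers, hn]
      exact Nat.Coprime.pow_right n hyo.coprime_two_right
    haveI := hV
    obtain ⟨h55a, -⟩ := Cfsg.Agent.S0055.result Q V hQV hcop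
    have hQT : Q ≤ commInto V U hUV := by rw [hQ, Subgroup.zpowers_le]; exact hyT
    have h1 : ⁅V, Q⁆ ≤ U := by
      rw [Subgroup.commutator_le]
      intro v hv q hq
      exact (hQT hq).2 v hv
    have h2 : U ≤ Subgroup.centralizer (Q : Set G) := by
      rw [Subgroup.le_centralizer_iff, hQ, Subgroup.zpowers_le]
      exact hc
    have h3 : ⁅V, Q⁆ = ⊥ := by
      rw [eq_bot_iff, ← h55a]
      exact le_inf (le_inf (h1.trans hUV) (h1.trans h2)) le_rfl
    have h4 := Subgroup.commutator_eq_bot_iff_le_centralizer.mp h3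
    exact Subgroup.le_centralizer_iff.mp h4 (Subgroup.mem_zpowers y)
  have hU4 : Nat.card U = 4 := by
    obtain ⟨n, hn⟩ := IsPGroup.iff_card.mp (hV2.to_le hUV)
    have h2 : ¬ Nat.card U ≤ 2 := fun h => hyU (mem_centralizer_of_card_le_two h (hNU hyT))
    rw [hn] at hcU h2 ⊢
    have hn2 : n ≤ 2 := by
      by_contra hcon
      have : 2 ^ 3 ≤ 2 ^ n := Nat.pow_le_pow_right (by norm_num) (by omega)
      omega
    interval_cases n <;> simp_all
  apply hS4
  by_cases haU : a ∈ Subgroup.centralizer (U : Set G)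
  · have hbU : b ∉ Subgroup.centralizer (U : Set G) := by
      intro hbU
      apply hyU
      have : Subgroup.zpowers a ⊔ Subgroup.zpowers b ≤ Subgroup.centralizer (U : Set G) :=
        sup_le (by rwa [Subgroup.zpowers_le]) (by rwa [Subgroup.zpowers_le])
      exact this hyK
    exact involves_perm4_of_four hU4 (hNU hyT)
      (hNU (hK (le_sup_right (a := Subgroup.zpowers a) (Subgroup.mem_zpowers b)))) hyo hyU hb2 hbU
  · exact involves_perm4_of_four hU4 (hNU hyT)
      (hNU (hK (le_sup_left (b := Subgroup.zpowers b) (Subgroup.mem_zpowers a)))) hyo hyU ha2 haU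

/-- Baer–Suzuki modulo a normal subgroup `C` of `H`. -/
theorem exists_normal_two_mod [Finite G] {H C : Subgroup G} (hCH : C ≤ H)
    (hHC : H ≤ Subgroup.normalizer (C : Set G)) {a : G} (haH : a ∈ H)
    (h : ∀ g ∈ H, ∀ k ∈ Subgroup.zpowers a ⊔ Subgroup.zpowers (g * a * g⁻¹), ∃ e : ℕ,
      k ^ 2 ^ e ∈ C) :
    ∃ E : Subgroup G, E ≤ H ∧ H ≤ Subgroup.normalizer (E : Set G) ∧ C ≤ E ∧ a ∈ E ∧
      ∀ x ∈ E, ∃ e : ℕ, x ^ 2 ^ e ∈ C := by
  haveI hCn : (C.subgroupOf H).Normal := (Subgroup.normal_subgroupOf_iff_le_normalizer hCH).mpr hHC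
  haveI : Fact (Nat.Prime 2) := ⟨Nat.prime_two⟩
  set π := QuotientGroup.mk' (C.subgroupOf H) with hπ
  have hπ1 : ∀ z : ↥H, π z = 1 ↔ (z : G) ∈ C := fun z => by
    rw [hπ, QuotientGroup.mk'_apply, QuotientGroup.eq_one_iff, Subgroup.mem_subgroupOf]
  set a' : ↥H := ⟨a, haH⟩ with ha'
  have hmem : ∀ (g : ↥H) (k : ↥H), k ∈ Subgroup.zpowers a' ⊔ Subgroup.zpowers (g * a' * g⁻¹) →
      (k : G) ∈ Subgroup.zpowers a ⊔ Subgroup.zpowers ((g : G) * a * (g : G)⁻¹) := by
    intro g k hk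
    have h1 : (Subgroup.zpowers a' ⊔ Subgroup.zpowers (g * a' * g⁻¹)).map H.subtype =
        Subgroup.zpowers a ⊔ Subgroup.zpowers ((g : G) * a * (g : G)⁻¹) := by
      rw [Subgroup.map_sup, MonoidHom.map_zpowers, MonoidHom.map_zpowers]
      rfl
    rw [← h1]
    exact ⟨k, hk, rfl⟩
  have hpg : ∀ g : ↥H, IsPGroup 2
      ↥((Subgroup.zpowers a' ⊔ Subgroup.zpowers (g * a' * g⁻¹)).map π) := by
    rintro g ⟨_, k, hk, rfl⟩
    obtain ⟨e, he⟩ := h g g.2 k (hmem g k hk)
    refine ⟨e, Subtype.ext ?_⟩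
    show (π k) ^ 2 ^ e = 1
    rw [← map_pow, hπ1]
    exact he
  obtain ⟨N, hNn, hNp, hXN⟩ := Cfsg.Agent.S0199.result (p := 2) ((Subgroup.zpowers a').map π)
    ((hpg 1).to_le (Subgroup.map_mono le_sup_left)) (by
      intro gb
      obtain ⟨g, rfl⟩ := QuotientGroup.mk'_surjective (C.subgroupOf H) gb
      have e1 : (Subgroup.zpowers a').map π ⊔
          ((Subgroup.zpowers a').map π).map (MulAut.conj (QuotientGroup.mk' (C.subgroupOf H) g)).toMonoidHom =
          (Subgroup.zpowers a' ⊔ Subgroup.zpowers (g * a' * g⁻¹)).map π := by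
        rw [Subgroup.map_sup, MonoidHom.map_zpowers, MonoidHom.map_zpowers, MonoidHom.map_zpowers]
        congr 2
      rw [e1]
      exact hpg g)
  refine ⟨(N.comap π).map H.subtype, Subgroup.map_subtype_le _, ?_, ?_, ?_, ?_⟩
  · apply le_normalizer_of_conj_mem
    rintro g hg _ ⟨z, hz, rfl⟩
    refine ⟨⟨g, hg⟩ * z * ⟨g, hg⟩⁻¹, ?_, rfl⟩
    exact (hNn.comap π).conj_mem z hz _
  · intro c hc
    refine ⟨⟨c, hCH hc⟩, ?_, rfl⟩
    show π ⟨c, hCH hc⟩ ∈ N
    rw [(hπ1 _).mpr hc]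
    exact N.one_mem
  · exact ⟨a', hXN ⟨a', Subgroup.mem_zpowers a', rfl⟩, rfl⟩
  · rintro _ ⟨z, hz, rfl⟩
    obtain ⟨e, he⟩ := hNp ⟨π z, hz⟩
    refine ⟨e, ?_⟩
    have h1 : (π z) ^ 2 ^ e = 1 := congrArg Subtype.val he
    rw [← map_pow, hπ1] at h1
    exact h1

end Cfsg.Agent.Lib.Helper13
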