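import Cfsg.Agent.Lib.Helper13.TraceSq
import Cfsg.Agent.Lib.Helper13.Transv
import Cfsg.Agent.Lib.Helper13.WCFrat
import Cfsg.Agent.Lib.Helper13.WCElt
import Cfsg.Agent.Lib.Helper13.Sec
import Cfsg.Agent.Lib.Helper17.ThA

set_option autoImplicit false

open scoped commutatorElement

namespace Cfsg.Agent.Lib.Helper13

open Cfsg Cfsg.Agent.Lib.Helper5 Cfsg.Agent.Lib.Helper17

variable {G : Type*} [Group G]

theorem exists_maxQ_not_le [Finite G] {p : ℕ} [Fact p.Prime]
    (hW : IsConjugacyFunctor p (fun P : Subgroup G => thompsonSubgroupAOf P)) {H S : Subgroup G}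
    (hS : IsPGroup p S) (hSi : ¬ p ∣ S.relIndex H)
    (hn : ¬ H ≤ Subgroup.normalizer ((thompsonSubgroupAOf S : Subgroup G) : Set G)) :
    ∃ A₀ ∈ maxQ (fun A : Subgroup G => IsMulCommutative A) S, ¬ A₀ ≤ pCoreOf p H := by
  by_contra hcon
  push Not at hcon
  apply hn
  have hRS : pCoreOf p H ≤ S := pCoreOf_le_of_sylow hS hSi
  obtain ⟨A₀, hA₀⟩ := maxQ_nonempty (Q := fun A : Subgroup G => IsMulCommutative A)
    (inferInstance : IsMulCommutative (⊥ : Subgroup G)) S
  have heq : maxQ (fun A : Subgroup G => IsMulCommutative A) S =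
      maxQ (fun A : Subgroup G => IsMulCommutative A) (pCoreOf p H) := by
    ext A
    constructor
    · intro hA
      exact (maxQ_of_le hA (hcon A hA) hRS).1
    · intro hA
      exact (maxQ_of_le hA₀ (hcon A₀ hA₀) hRS).2 A hA
  have e : thompsonSubgroupAOf S = thompsonSubgroupAOf (pCoreOf p H) := by
    rw [thompsonSubgroupAOf_eq, thompsonSubgroupAOf_eq, heq]
  rw [e]
  exact (Cfsg.Agent.Lib.Helper17.le_normalizer_pCoreOf p H).trans
    (normalizer_le_normalizer_functor hW (Cfsg.Agent.Lib.Helper17.pCoreOf_isPGroup p H))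

/-- if `J(S)` is not normal in `H`, some element of `S` outside `O_p(H)` acts quadratically on
`Z(O_p(H))` -/
theorem exists_quadratic_elt [Finite G] {p : ℕ} [Fact p.Prime]
    (hW : IsConjugacyFunctor p (fun P : Subgroup G => thompsonSubgroupAOf P)) {H S : Subgroup G}
    (hSH : S ≤ H) (hS : IsPGroup p S) (hSi : ¬ p ∣ S.relIndex H)
    (hn : ¬ H ≤ Subgroup.normalizer ((thompsonSubgroupAOf S : Subgroup G) : Set G)) :
    ∃ g : G, g ∈ S ∧ g ∉ pCoreOf p H ∧ ⁅⁅pCoreOf p H ⊓
      Subgroup.centralizer ((pCoreOf p H : Subgroup G) : Set G), Subgroup.zpowers g⁆,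
      Subgroup.zpowers g⁆ = ⊥ := by
  obtain ⟨A₀, hA₀, hA₀R⟩ := exists_maxQ_not_le hW hS hSi hn
  set R := pCoreOf p H with hR
  have hRS : R ≤ S := pCoreOf_le_of_sylow hS hSi
  have hHR : H ≤ Subgroup.normalizer (R : Set G) := Cfsg.Agent.Lib.Helper17.le_normalizer_pCoreOf p H
  have hHC : H ≤ Subgroup.normalizer ((Subgroup.centralizer (R : Set G) : Subgroup G) : Set G) :=
    hHR.trans (Cfsg.Agent.Lib.Helper17.normalizer_le_normalizer_centralizer R)
  set V := R ⊓ Subgroup.centralizer (R : Set G) with hV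
  have hHV : H ≤ Subgroup.normalizer (V : Set G) :=
    Cfsg.Agent.Lib.Helper17.le_normalizer_inf hHR hHC
  have hVab : IsMulCommutative V := comm_inf_centralizer R
  have hRV : R ≤ Subgroup.centralizer (V : Set G) :=
    Subgroup.le_centralizer_iff.mp inf_le_right
  by_cases hc : A₀ ≤ Subgroup.centralizer (V : Set G)
  · obtain ⟨g, hgA, hgR⟩ := SetLike.not_le_iff_exists.mp hA₀R
    refine ⟨g, hA₀.1 hgA, hgR, ?_⟩
    have h1 : ⁅V, Subgroup.zpowers g⁆ = ⊥ := by
      rw [Subgroup.commutator_eq_bot_iff_le_centralizer, Subgroup.le_centralizer_iff,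
        Subgroup.zpowers_le]
      exact hc hgA
    rw [h1]
    simp
  · obtain ⟨A, hAA₀, hAnc, hquad, -⟩ := exists_quadratic_offender hVab
      (hS.to_le (inf_le_left.trans hRS)) (hS.to_le hA₀.1) ((hA₀.1.trans hSH).trans hHV) hA₀.2.1 hc
      (thompson_offender hA₀ (inf_le_left.trans hRS) hVab ((hA₀.1.trans hSH).trans hHV))
    obtain ⟨g, hgA, hgV⟩ := SetLike.not_le_iff_exists.mp hAnc
    refine ⟨g, hA₀.1 (hAA₀ hgA), fun h => hgV (hRV h), ?_⟩
    have hz : Subgroup.zpowers g ≤ A := by rwa [Subgroup.zpowers_le]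
    rw [eq_bot_iff]
    refine (Subgroup.commutator_mono (Subgroup.commutator_mono le_rfl hz) hz).trans ?_
    rw [← eq_bot_iff, Subgroup.commutator_eq_bot_iff_le_centralizer]
    exact hquad

theorem two_mul_card_le_of_lt [Finite G] {K K' : Subgroup G} (h : K < K') :
    2 * Nat.card K ≤ Nat.card K' := by
  obtain ⟨m, hm⟩ := Subgroup.card_dvd_of_le h.le
  have h1 : Nat.card K < Nat.card K' := card_lt_card_of_lt h
  have h0 : 0 < Nat.card K := Nat.card_pos
  rw [hm] at h1 ⊢
  have hm2 : 2 ≤ m := by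
    by_contra hcon
    have : m ≤ 1 := by omega
    nlinarith
  nlinarith

/-- A minimal offender either has no orbit of length `2` on `V`, or contains a transvection. -/
theorem offender_dichotomy [Finite G] {V A₀ : Subgroup G}
    (hnc : ¬ A₀ ≤ Subgroup.centralizer (V : Set G))
    (hoff : Nat.card ↥(A₀ ⊓ Subgroup.centralizer (V : Set G)) * Nat.card V ≤
      Nat.card A₀ * Nat.card ↥(V ⊓ Subgroup.centralizer (A₀ : Set G))) :
    ∃ A₁ ≤ A₀, ¬ A₁ ≤ Subgroup.centralizer (V : Set G) ∧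
      ((∀ u ∈ V, ∀ d ∈ A₁, (∀ a ∈ A₁, a * u = u * a ∨ (d⁻¹ * a) * u = u * (d⁻¹ * a)) →
        d * u = u * d) ∨
      ∃ d ∈ A₁, d ∉ Subgroup.centralizer (V : Set G) ∧ Nat.card V ≤
        2 * Nat.card ↥(V ⊓ Subgroup.centralizer ((Subgroup.zpowers d : Subgroup G) : Set G))) := by
  classical
  set c₀ := A₀ ⊓ Subgroup.centralizer (V : Set G) with hc₀
  obtain ⟨A₁, ⟨hA₁, hA₁nc, hA₁off⟩, hmin⟩ := Set.exists_min_image
    {B : Subgroup G | B ≤ A₀ ∧ ¬ B ≤ Subgroup.centralizer (V : Set G) ∧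
      Nat.card c₀ * Nat.card V ≤ Nat.card B * Nat.card ↥(V ⊓ Subgroup.centralizer (B : Set G))}
    (fun B => Nat.card B) (Set.toFinite _) ⟨A₀, le_rfl, hnc, hoff⟩
  refine ⟨A₁, hA₁, hA₁nc, ?_⟩
  by_contra hcon
  push Not at hcon
  obtain ⟨⟨u, hu, d, hd, hcov, hdu⟩, hno⟩ := hcon
  set B := A₁ ⊓ Subgroup.centralizer ({u} : Set G) with hB
  have hmemB : ∀ g, g ∈ B ↔ g ∈ A₁ ∧ g * u = u * g := by
    intro g
    rw [hB, Subgroup.mem_inf, Subgroup.mem_centralizer_singleton_iff]
  have hdB : d ∉ B := fun h => hdu ((hmemB d).mp h).2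
  have hBlt : B < A₁ := lt_of_le_of_ne inf_le_left (fun e => hdB (e ▸ hd))
  have hcard : Nat.card A₁ ≤ 2 * Nat.card B := by
    have hsub : (A₁ : Set G) ⊆ (B : Set G) ∪ (fun b => d * b) '' (B : Set G) := by
      intro a ha
      rcases hcov a ha with h | h
      · left; exact (hmemB a).mpr ⟨ha, h⟩
      · right
        exact ⟨d⁻¹ * a, (hmemB _).mpr ⟨A₁.mul_mem (A₁.inv_mem hd) ha, h⟩, by group⟩
    have h1 := Set.ncard_le_ncard hsub (Set.toFinite _)
    have h2 := Set.ncard_union_le (B : Set G) ((fun b => d * b) '' (B : Set G))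
    have h3 := Set.ncard_image_le (f := fun b => d * b) (Set.toFinite (B : Set G))
    have e1 : (A₁ : Set G).ncard = Nat.card A₁ := rfl
    have e2 : (B : Set G).ncard = Nat.card B := rfl
    omega
  have hfixlt : V ⊓ Subgroup.centralizer (A₁ : Set G) < V ⊓ Subgroup.centralizer (B : Set G) := by
    refine lt_of_le_of_ne (inf_le_inf_left _ (Subgroup.centralizer_le hBlt.le)) (fun e => hdu ?_)
    have h1 : u ∈ V ⊓ Subgroup.centralizer (B : Set G) := by
      refine ⟨hu, ?_⟩
      show u ∈ Subgroup.centralizer (B : Set G)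
      rw [Subgroup.mem_centralizer_iff]
      intro b hb
      exact ((hmemB b).mp hb).2
    rw [← e] at h1
    exact (Subgroup.mem_centralizer_iff.mp h1.2 d hd)
  have hfix := two_mul_card_le_of_lt hfixlt
  have hBoff : Nat.card c₀ * Nat.card V ≤
      Nat.card B * Nat.card ↥(V ⊓ Subgroup.centralizer (B : Set G)) := by
    calc Nat.card c₀ * Nat.card V
        ≤ Nat.card A₁ * Nat.card ↥(V ⊓ Subgroup.centralizer (A₁ : Set G)) := hA₁off
      _ ≤ (2 * Nat.card B) * Nat.card ↥(V ⊓ Subgroup.centralizer (A₁ : Set G)) :=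
          Nat.mul_le_mul_right _ hcard
      _ = Nat.card B * (2 * Nat.card ↥(V ⊓ Subgroup.centralizer (A₁ : Set G))) := by ring
      _ ≤ _ := Nat.mul_le_mul_left _ hfix
  have hBc : B ≤ Subgroup.centralizer (V : Set G) := by
    by_contra hBnc
    have := hmin B ⟨hBlt.le.trans hA₁, hBnc, hBoff⟩
    exact absurd (card_lt_card_of_lt hBlt) (not_lt.mpr this)
  have hBc₀ : Nat.card B ≤ Nat.card c₀ := Subgroup.card_le_of_le (le_inf (hBlt.le.trans hA₁) hBc)
  have hdV : d ∉ Subgroup.centralizer (V : Set G) := fun h =>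
    hdu (Subgroup.mem_centralizer_iff.mp h u hu).symm
  apply absurd (hno d hd hdV) (not_lt.mpr ?_)
  have hz : Subgroup.zpowers d ≤ A₁ := by rwa [Subgroup.zpowers_le]
  have h1 : Nat.card ↥(V ⊓ Subgroup.centralizer (A₁ : Set G)) ≤
      Nat.card ↥(V ⊓ Subgroup.centralizer ((Subgroup.zpowers d : Subgroup G) : Set G)) :=
    Subgroup.card_le_of_le (inf_le_inf_left _ (Subgroup.centralizer_le hz))
  have h2 : Nat.card c₀ * Nat.card V ≤
      Nat.card c₀ * (2 * Nat.card ↥(V ⊓ Subgroup.centralizer (A₁ : Set G))) := by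
    calc Nat.card c₀ * Nat.card V
        ≤ Nat.card A₁ * Nat.card ↥(V ⊓ Subgroup.centralizer (A₁ : Set G)) := hA₁off
      _ ≤ (2 * Nat.card c₀) * Nat.card ↥(V ⊓ Subgroup.centralizer (A₁ : Set G)) :=
          Nat.mul_le_mul_right _ (hcard.trans (Nat.mul_le_mul_left _ hBc₀))
      _ = _ := by ring
  have h3 := Nat.le_of_mul_le_mul_left h2 Nat.card_pos
  omega

theorem le_sup_of_two_mod [Finite G] {E C T : Subgroup G} (hCE : C ≤ E)
    (hEC : E ≤ Subgroup.normalizer (C : Set G)) (h2 : ∀ x ∈ E, ∃ e : ℕ, x ^ 2 ^ e ∈ C)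
    (hTi : ¬ 2 ∣ T.relIndex E) : E ≤ C ⊔ T := by
  haveI : Fact (Nat.Prime 2) := ⟨Nat.prime_two⟩
  haveI hCn : (C.subgroupOf E).Normal := (Subgroup.normal_subgroupOf_iff_le_normalizer hCE).mpr hEC
  have hp : IsPGroup 2 (↥E ⧸ C.subgroupOf E) := by
    intro q
    obtain ⟨z, rfl⟩ := QuotientGroup.mk_surjective q
    obtain ⟨e, he⟩ := h2 z z.2
    refine ⟨e, ?_⟩
    rw [← QuotientGroup.mk_pow, QuotientGroup.eq_one_iff, Subgroup.mem_subgroupOf]
    exact he
  obtain ⟨n, hn⟩ := IsPGroup.iff_card.mp hp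
  have hrel : C.relIndex E = 2 ^ n := by
    rw [← hn]; exact Subgroup.index_eq_card _
  have h1 : (C ⊔ T).relIndex E ∣ C.relIndex E := Subgroup.relIndex_dvd_of_le_left E le_sup_left
  have h3 : (C ⊔ T).relIndex E ∣ T.relIndex E := Subgroup.relIndex_dvd_of_le_left E le_sup_right
  rw [hrel] at h1
  obtain ⟨j, -, hj⟩ := (Nat.dvd_prime_pow Nat.prime_two).mp h1
  have hj0 : j = 0 := by
    by_contra hne
    apply hTi
    refine dvd_trans ?_ h3
    rw [hj]
    exact dvd_pow_self 2 hne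
  rw [hj0, pow_zero] at hj
  exact Subgroup.relIndex_eq_one.mp hj

theorem relIndex_le_two_of_card [Finite G] {K V : Subgroup G} (hKV : K ≤ V)
    (h : Nat.card V ≤ 2 * Nat.card K) : K.relIndex V ≤ 2 := by
  have h1 : Nat.card K * K.relIndex V = Nat.card V := card_mul_relIndex hKV
  have h0 : 0 < Nat.card K := Nat.card_pos
  rw [← h1, mul_comm 2] at h
  exact Nat.le_of_mul_le_mul_left h h0

/-- the "no orbit of length two" property of a subgroup `A` acting on `V` -/
def NoTwo (V A : Subgroup G) : Prop :=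
  ∀ u ∈ V, ∀ d ∈ A, (∀ a ∈ A, a * u = u * a ∨ (d⁻¹ * a) * u = u * (d⁻¹ * a)) → d * u = u * d

theorem NoTwo.cj {V A : Subgroup G} (h : NoTwo V A) {g : G}
    (hg : g ∈ Subgroup.normalizer (V : Set G)) : NoTwo V (cj A g) := by
  intro u hu d hd hcov
  rw [mem_cj] at hd
  have hu' : g * u * g⁻¹ ∈ V := (Subgroup.mem_normalizer_iff.mp hg u).mp hu
  have key : ∀ z : G, (g * z * g⁻¹) * (g * u * g⁻¹) = (g * u * g⁻¹) * (g * z * g⁻¹) ↔
      z * u = u * z := by
    intro z
    constructor
    · intro h1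
      have h2 : g * (z * u) * g⁻¹ = g * (u * z) * g⁻¹ := by
        calc g * (z * u) * g⁻¹ = (g * z * g⁻¹) * (g * u * g⁻¹) := by group
          _ = (g * u * g⁻¹) * (g * z * g⁻¹) := h1
          _ = g * (u * z) * g⁻¹ := by group
      exact mul_left_cancel (mul_right_cancel h2)
    · intro h1
      calc (g * z * g⁻¹) * (g * u * g⁻¹) = g * (z * u) * g⁻¹ := by group
        _ = g * (u * z) * g⁻¹ := by rw [h1]
        _ = _ := by group
  rw [← key]
  apply h _ hu' _ hd
  intro a ha
  have ha' : g⁻¹ * a * g ∈ Helper13.cj A g := conj_mem_cj ha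
  have e1 : g * (g⁻¹ * a * g) * g⁻¹ = a := by group
  have e2 : g * (d⁻¹ * (g⁻¹ * a * g)) * g⁻¹ = (g * d * g⁻¹)⁻¹ * a := by group
  rcases hcov _ ha' with h1 | h1
  · left
    rw [← key, e1] at h1
    exact h1
  · right
    rw [← key, e2] at h1
    exact h1

/-- The local statement for `p = 2` in `S₄`-free groups. -/
theorem loc_two [Finite G] (hS4 : ¬ Involves (Equiv.Perm (Fin 4)) G)
    (hW : IsConjugacyFunctor 2 (fun P : Subgroup G => thompsonSubgroupAOf P))
    (x : G) (H S : Subgroup G) (hSH : S ≤ H) (hS : IsPGroup 2 S) (hSi : ¬ 2 ∣ S.relIndex H)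
    (hxS : x ∈ S ⊓ Subgroup.centralizer (S : Set G)) (hxR : x ∈ pCoreOf 2 H)
    (hAN : H ⊓ Subgroup.normalizer ((thompsonSubgroupAOf S : Subgroup G) : Set G) ≤
      Subgroup.centralizer (Subgroup.zpowers x : Set G))
    (hL : ∀ L, L < H → S ≤ L → L ≤ Subgroup.centralizer (Subgroup.zpowers x : Set G)) :
    H ≤ Subgroup.centralizer (Subgroup.zpowers x : Set G) := by
  haveI : Fact (Nat.Prime 2) := ⟨Nat.prime_two⟩
  by_contra hHN
  have hnW : ¬ H ≤ Subgroup.normalizer ((thompsonSubgroupAOf S : Subgroup G) : Set G) :=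
    fun h => hHN ((le_inf le_rfl h).trans hAN)
  set N := Subgroup.centralizer (Subgroup.zpowers x : Set G) with hN
  set R := pCoreOf 2 H with hR
  have hRS : R ≤ S := pCoreOf_le_of_sylow hS hSi
  have hHR : H ≤ Subgroup.normalizer (R : Set G) := Cfsg.Agent.Lib.Helper17.le_normalizer_pCoreOf 2 H
  have hHC : H ≤ Subgroup.normalizer ((Subgroup.centralizer (R : Set G) : Subgroup G) : Set G) :=
    hHR.trans (Cfsg.Agent.Lib.Helper17.normalizer_le_normalizer_centralizer R)
  set V := R ⊓ Subgroup.centralizer (R : Set G) with hV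
  have hHV : H ≤ Subgroup.normalizer (V : Set G) :=
    Cfsg.Agent.Lib.Helper17.le_normalizer_inf hHR hHC
  have hVS : V ≤ S := inf_le_left.trans hRS
  have hVH : V ≤ H := hVS.trans hSH
  have hVab : IsMulCommutative V := comm_inf_centralizer R
  have hV2 : IsPGroup 2 V := hS.to_le hVS
  have hRV : R ≤ Subgroup.centralizer (V : Set G) :=
    Subgroup.le_centralizer_iff.mp inf_le_right
  have hxV : x ∈ V := Subgroup.mem_inf.mpr ⟨hxR, Subgroup.centralizer_le hRS hxS.2⟩
  have hCVN : Subgroup.centralizer (V : Set G) ≤ N := by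
    apply Subgroup.centralizer_le
    intro z hz
    exact (Subgroup.zpowers_le.mpr hxV) hz
  have hSN : S ≤ N := by
    rw [hN, Subgroup.le_centralizer_iff, Subgroup.zpowers_le]
    exact hxS.2
  -- the weakly closed subgroup generated by the good subgroups
  set U₁ : Set G := {d | ∃ A : Subgroup G, A ≤ S ∧ NoTwo V A ∧ d ∈ A} with hU₁
  set D := Subgroup.closure U₁ with hD
  have hDS : D ≤ S := (Subgroup.closure_le _).mpr (fun d ⟨A, hA, _, hd⟩ => hA hd)
  have hgood : ∀ A : Subgroup G, A ≤ S → NoTwo V A → A ≤ D := fun A hA hA' d hd =>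
    Subgroup.subset_closure ⟨A, hA, hA', hd⟩
  have hDstab : ∀ h ∈ H, cj D h ≤ S → h ∈ Subgroup.normalizer (D : Set G) := by
    intro h hh hle
    rw [mem_normalizer_iff_cj]
    apply cj_eq_of_le_of_finite
    apply cj_closure_le
    rintro d ⟨A, hA, hA', hd⟩
    apply Subgroup.subset_closure
    exact ⟨cj A h, (cj_mono (hgood A hA hA') h).trans hle, hA'.cj (hHV hh), conj_mem_cj hd⟩
  set M := H ⊓ Subgroup.normalizer (D : Set G) with hM
  have hSM : S ≤ M := by
    refine le_inf hSH ?_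
    intro s hs
    apply hDstab s (hSH hs)
    have := cj_mono hDS s
    rwa [mem_normalizer_iff_cj.mp (Subgroup.le_normalizer hs)] at this
  rcases lt_or_eq_of_le (inf_le_left : M ≤ H) with hMlt | hMeq
  · -- the trace argument
    have hMN := hL M hMlt hSM
    have hZn : (V.subgroupOf H).Normal := (Subgroup.normal_subgroupOf_iff_le_normalizer hVH).mpr hHV
    have key := central_of_trace_sq (V.subgroupOf H) (M.subgroupOf H) (D.subgroupOf H) hZn
      hV2.comap_subtype
      (fun a ha b hb => Subtype.ext ((Subgroup.mem_centralizer_iff.mp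
        (Subgroup.mem_subgroupOf.mp hb).2) a (Subgroup.mem_subgroupOf.mp ha).1))
      (Subgroup.comap_mono (hDS.trans hSM)) ((hS.to_le hDS).comap_subtype)
      {A' | ∃ A : Subgroup G, A ≤ S ∧ NoTwo V A ∧ A' = A.subgroupOf H}
      (by
        rintro _ ⟨A, hA, hA', rfl⟩
        exact Subgroup.comap_mono (hgood A hA hA'))
      (by
        intro d hd
        have hd' : (d : G) ∈ D := Subgroup.mem_subgroupOf.mp hd
        have hle : D ≤ (sSup {A' : Subgroup ↥H | ∃ A : Subgroup G, A ≤ S ∧ NoTwo V A ∧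
            A' = A.subgroupOf H}).map H.subtype := by
          rw [hD, Subgroup.closure_le]
          rintro z ⟨A, hA, hA', hz⟩
          refine ⟨⟨z, hSH (hA hz)⟩, ?_, rfl⟩
          have hmem : A.subgroupOf H ∈ {A' : Subgroup ↥H | ∃ A : Subgroup G, A ≤ S ∧ NoTwo V A ∧
              A' = A.subgroupOf H} := ⟨A, hA, hA', rfl⟩
          exact (le_sSup hmem) (Subgroup.mem_subgroupOf.mpr hz)
        obtain ⟨d₂, hd₂, e⟩ := hle hd'
        have : d₂ = d := Subtype.ext e
        rw [← this]; exact hd₂)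
      (by
        intro y hy
        have hy' : cj D (y : G) ≤ M := by
          intro z hz
          have hz' := mem_cj.mp hz
          have hzH : z ∈ H := by
            have h1 := H.mul_mem (H.mul_mem (H.inv_mem y.2) (hSH (hDS hz'))) y.2
            convert h1 using 1
            group
          exact Subgroup.mem_subgroupOf.mp (hy (x := ⟨z, hzH⟩)
            (mem_cj.mpr (Subgroup.mem_subgroupOf.mpr hz')))
        obtain ⟨m, hm, hle⟩ := exists_cj_le_of_sylow hS (not_dvd_relIndex_of_le hSM hMlt.le hSi) hy'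
          (isPGroup_cj (hS.to_le hDS) y)
        rw [cj_cj] at hle
        have h1 := hDstab _ (H.mul_mem y.2 hm.1) hle
        have h2 := Subgroup.mul_mem _ h1 (Subgroup.inv_mem _ hm.2)
        rw [mul_inv_cancel_right] at h2
        exact Subgroup.mem_subgroupOf.mpr (Subgroup.mem_inf.mpr ⟨y.2, h2⟩))
      (by
        rintro _ ⟨A, hA, hA', rfl⟩ u hu d hd hcov
        apply Subtype.ext
        apply hA' u (Subgroup.mem_subgroupOf.mp hu) d (Subgroup.mem_subgroupOf.mp hd)
        intro a ha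
        rcases hcov ⟨a, hSH (hA ha)⟩ (Subgroup.mem_subgroupOf.mpr ha) with h1 | h1
        · left; exact congrArg Subtype.val h1
        · right; exact congrArg Subtype.val h1)
      ⟨x, hSH hxS.1⟩ (Subgroup.mem_subgroupOf.mpr hxV)
      (by
        rw [Subgroup.mem_centralizer_iff]
        intro m hm
        exact Subtype.ext (mem_centralizer_zpowers.mp (hMN (Subgroup.mem_subgroupOf.mp hm))).symm)
    apply hHN
    intro h hh
    rw [hN, mem_centralizer_zpowers]
    exact (congrArg Subtype.val ((Subgroup.mem_center_iff.mp key) ⟨h, hh⟩)).symm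
  · -- `D` is normal in `H`
    have hDR : D ≤ R :=
      Cfsg.Agent.Lib.Helper17.le_pCoreOf (hDS.trans hSH) (inf_eq_left.mp hMeq) (hS.to_le hDS)
    obtain ⟨A₀, hA₀, hA₀R⟩ := exists_maxQ_not_le hW hS hSi hnW
    have hcen : ∀ A : Subgroup G, A ≤ S → A ≤ Subgroup.centralizer (V : Set G) → A ≤ R := by
      intro A hA hAc
      refine (hgood A hA ?_).trans hDR
      intro u hu d hd _
      exact (Subgroup.mem_centralizer_iff.mp (hAc hd) u hu).symm
    have hA₀nc : ¬ A₀ ≤ Subgroup.centralizer (V : Set G) := fun h => hA₀R (hcen A₀ hA₀.1 h)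
    obtain ⟨A₁, hA₁, hA₁nc, hdich⟩ := offender_dichotomy hA₀nc
      (thompson_offender hA₀ hVS hVab ((hA₀.1.trans hSH).trans hHV))
    rcases hdich with hg | ⟨d, hd, hdV, hdc⟩
    · exact hA₁nc (((hgood A₁ (hA₁.trans hA₀.1) hg).trans hDR).trans hRV)
    · have hdS : d ∈ S := hA₀.1 (hA₁ hd)
      have hdH : d ∈ H := hSH hdS
      have hord : ∀ z ∈ S, ∃ k, orderOf z = 2 ^ k := by
        intro z hz
        obtain ⟨k, hk⟩ := (IsPGroup.iff_orderOf.mp hS) ⟨z, hz⟩
        exact ⟨k, by rw [← hk, Subgroup.orderOf_mk]⟩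
      set C := H ⊓ Subgroup.centralizer (V : Set G) with hC
      have hHCn : H ≤ Subgroup.normalizer (C : Set G) :=
        Cfsg.Agent.Lib.Helper17.le_normalizer_inf Subgroup.le_normalizer
          (hHV.trans (Cfsg.Agent.Lib.Helper17.normalizer_le_normalizer_centralizer V))
      obtain ⟨E, hEH, hHE, hCE, hdE, hE2⟩ := exists_normal_two_mod (inf_le_left : C ≤ H) hHCn hdH (by
        intro g hg k hk
        have hgd : g * d * g⁻¹ ∈ H := H.mul_mem (H.mul_mem hg hdH) (H.inv_mem hg)
        have hkH : k ∈ H := (sup_le (Subgroup.zpowers_le.mpr hdH) (Subgroup.zpowers_le.mpr hgd)) hk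
        obtain ⟨e, he⟩ := pow_mem_centralizer_of_transvections hS4 hVab hV2 (hHV hdH) (hHV hgd)
          (hord d hdS) (by
            obtain ⟨k, hk⟩ := hord d hdS
            refine ⟨k, ?_⟩
            rw [← hk]
            exact orderOf_injective (MulAut.conj g).toMonoidHom (MulAut.conj g).injective d)
          (relIndex_le_two_of_card inf_le_left hdc)
          (relIndex_le_two_of_card inf_le_left (by
            refine hdc.trans (Nat.mul_le_mul_left _ ?_)
            rw [← card_cj _ g⁻¹]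
            apply Subgroup.card_le_of_le
            rw [cj_inf, cj_centralizer, mem_normalizer_iff_cj.mp (Subgroup.inv_mem _ (hHV hg))]
            apply inf_le_inf_left
            apply Subgroup.centralizer_le
            rw [SetLike.coe_subset_coe, Subgroup.zpowers_le, mem_cj]
            have : g⁻¹ * (g * d * g⁻¹) * g⁻¹⁻¹ = d := by group
            rw [this]
            exact Subgroup.mem_zpowers d)) k hk
        exact ⟨e, Subgroup.mem_inf.mpr ⟨H.pow_mem hkH _, he⟩⟩)
      apply hHN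
      have hEN : E ≤ N := by
        refine (le_sup_of_two_mod hCE (hEH.trans hHCn) hE2
          (not_dvd_relIndex_inf_of_normal hEH hHE hSi)).trans ?_
        exact sup_le (inf_le_right.trans hCVN) (inf_le_left.trans hSN)
      refine le_of_frattini (K := E) hSH hS hSi hEH hHE hEN ?_ hL
      intro h
      exact hdV (hRV (h (Subgroup.mem_inf.mpr ⟨hdS, hdE⟩)))

end Cfsg.Agent.Lib.Helper13
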