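import Cfsg.Agent.Lib.Helper13.KInfPStable
import Cfsg.Agent.Lib.Helper13.KInfApps
import Cfsg.Agent.Lib.Helper13.SecApps

set_option autoImplicit false

open scoped commutatorElement

namespace Cfsg.Agent.Lib.Helper13

universe u

theorem isNormalizerPStable_of_equiv {p : ℕ} {X Y : Type*} [Group X] [Group Y] (e : X ≃* Y)
    (h : Cfsg.IsNormalizerPStable p X) : Cfsg.IsNormalizerPStable p Y := by
  intro P' hP' g' hg' hq
  set P : Subgroup X := P'.map e.symm.toMonoidHom with hP
  have hmemP : ∀ x : X, x ∈ P ↔ e x ∈ P' := by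
    intro x
    constructor
    · rintro ⟨y, hy, rfl⟩
      simpa using hy
    · intro hx
      exact ⟨e x, hx, by simp⟩
  have hnorm : ∀ x : X, x ∈ Subgroup.normalizer (P : Set X) ↔
      e x ∈ Subgroup.normalizer (P' : Set Y) := by
    intro x
    rw [Subgroup.mem_normalizer_iff, Subgroup.mem_normalizer_iff]
    constructor
    · intro hx y
      have := hx (e.symm y)
      rw [hmemP, hmemP] at this
      simpa using this
    · intro hx z
      have := hx (e z)
      rw [hmemP, hmemP]
      simpa using this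
  have hcen : ∀ x : X, x ∈ Subgroup.centralizer (P : Set X) ↔
      e x ∈ Subgroup.centralizer (P' : Set Y) := by
    intro x
    rw [Subgroup.mem_centralizer_iff, Subgroup.mem_centralizer_iff]
    constructor
    · intro hx y hy
      have := hx (e.symm y) ((hmemP _).mpr (by simpa using hy))
      have h2 := congrArg e this
      simpa using h2
    · intro hx z hz
      have := hx (e z) ((hmemP z).mp hz)
      apply e.injective
      simpa using this
  have hg : e.symm g' ∈ Subgroup.normalizer (P : Set X) := by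
    rw [hnorm]; simpa using hg'
  have h1 := h P (hP'.map _) (e.symm g') hg (by
    have : Subgroup.zpowers (e.symm g') = (Subgroup.zpowers g').map e.symm.toMonoidHom := by
      rw [MonoidHom.map_zpowers]; rfl
    rw [this, hP, ← Subgroup.map_commutator, ← Subgroup.map_commutator, hq, Subgroup.map_bot])
  let ψ : ↥(Subgroup.normalizer (P : Set X)) →* ↥(Subgroup.normalizer (P' : Set Y)) :=
    (e.toMonoidHom.comp (Subgroup.normalizer (P : Set X)).subtype).codRestrict _
      (fun x => (hnorm x.1).mp x.2)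
  have hψ : Function.Surjective ψ := by
    rintro ⟨y, hy⟩
    refine ⟨⟨e.symm y, (hnorm _).mpr (by simpa using hy)⟩, ?_⟩
    apply Subtype.ext
    show e (e.symm y) = y
    simp
  have h2 := (Cfsg.Agent.Lib.Helper5.quot_pCore_mem_iff (p := p) ψ hψ
    ((Subgroup.centralizer (P : Set X)).subgroupOf (Subgroup.normalizer (P : Set X)))
    ((Subgroup.centralizer (P' : Set Y)).subgroupOf (Subgroup.normalizer (P' : Set Y)))
    (by
      ext x
      rw [Subgroup.mem_subgroupOf, Subgroup.mem_comap, Subgroup.mem_subgroupOf]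
      exact hcen x.1) ⟨e.symm g', hg⟩).mp h1
  have e3 : ψ ⟨e.symm g', hg⟩ = ⟨g', hg'⟩ := by
    apply Subtype.ext
    show e (e.symm g') = g'
    simp
  rw [e3] at h2
  exact h2

/-- all sections are `p`-stable in the normalizer form -/
def SecStable (p : ℕ) (G : Type u) [Group G] : Prop :=
  ∀ (Z : Type u) [Group Z], Sec G Z → Cfsg.IsNormalizerPStable p Z

theorem secStable_of_sections {p : ℕ} {G : Type u} [Group G]
    (hst : ∀ (K R : Subgroup G) [hR : (R.subgroupOf K).Normal],
      Cfsg.IsNormalizerPStable p (↥K ⧸ R.subgroupOf K)) : SecStable p G := by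
  intro Z _ hZ
  obtain ⟨K, R, hR, ⟨e⟩⟩ := hZ.exists_equiv
  exact isNormalizerPStable_of_equiv e (hst K R)

theorem SecStable.sec {p : ℕ} {G Z : Type u} [Group G] [Group Z] (h : SecStable p G)
    (hZ : Sec G Z) : SecStable p Z := fun Z' _ hZ' => h Z' (hZ.trans hZ')

variable {p : ℕ} [Fact p.Prime]

theorem kInf_normal_of_stable {Z : Type u} [Group Z] [Finite Z] (hC : Constr p Z)
    (hs : ∀ (N : Subgroup Z) [N.Normal], Cfsg.IsNormalizerPStable p (Z ⧸ N)) (T : Sylow p Z) :
    (Cfsg.inducedFunctor Cfsg.kInfLower (T : Subgroup Z)).Normal ∧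
      (Cfsg.inducedFunctor Cfsg.kInfUpper (T : Subgroup Z)).Normal := by
  by_contra hcon
  have hK : ¬ (Cfsg.inducedFunctor Cfsg.kInfLower (T : Subgroup Z)).Normal ∨
      ¬ (Cfsg.inducedFunctor Cfsg.kInfUpper (T : Subgroup Z)).Normal := by
    by_contra h
    push Not at h
    exact hcon h
  obtain ⟨A, hA⟩ := exists_crit p Z
  obtain ⟨g, _, _, _, _, h5⟩ := exists_quadratic_chief T hA hK
  obtain ⟨U, V, hUV, hU, hq, hne⟩ := h5 hC
  have hVn := hUV.2.2.1
  exact hne (comm_le_of_stable hUV
    ((Cfsg.Agent.Lib.Helper17.pCore_isPGroup (p := p) (G := Z)).to_le (hU.trans hA.le)) (hs V) g hq)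

theorem FC_kInfLower_of_stable {G : Type u} [Group G] [Finite G] (hs : SecStable p G) :
    FC p {Cfsg.kInfLower} G := by
  refine FC_of_sections (by rintro _ rfl; exact kInfLower_isChar p) (fun Z _ hZ hC => ?_) G
    (Sec.refl G)
  have := hZ.finite
  obtain ⟨T⟩ : Nonempty (Sylow p Z) := inferInstance
  exact FC_singleton_of_normal T (kInf_normal_of_stable hC (fun N _ => hs _ (hZ.quotient N)) T).1

theorem FC_kInfUpper_of_stable {G : Type u} [Group G] [Finite G] (hs : SecStable p G) :
    FC p {Cfsg.kInfUpper} G := by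
  refine FC_of_sections (by rintro _ rfl; exact kInfUpper_isChar p) (fun Z _ hZ hC => ?_) G
    (Sec.refl G)
  have := hZ.finite
  obtain ⟨T⟩ : Nonempty (Sylow p Z) := inferInstance
  exact FC_singleton_of_normal T (kInf_normal_of_stable hC (fun N _ => hs _ (hZ.quotient N)) T).2

end Cfsg.Agent.Lib.Helper13
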