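import Cfsg.Agent.Lib.Helper13.KInfStable
import Cfsg.Agent.Lib.Helper5.ZJD
import Cfsg.Agent.Lib.Helper17.PRed

set_option autoImplicit false

open scoped commutatorElement

namespace Cfsg.Agent.Lib.Helper13

universe u

section
variable {Γ : Type*} [Group Γ] [Finite Γ] {p : ℕ} [Fact p.Prime]

theorem comm_lt_of_pMod {V D : Subgroup Γ} [hVn : V.Normal] (hV : IsPGroup p V) (hne : V ≠ ⊥)
    (hD : ∀ d ∈ D, ∃ k : ℕ, d ^ p ^ k ∈ Subgroup.centralizer (V : Set Γ)) : ⁅V, D⁆ < V := by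
  obtain ⟨S, hS⟩ := Cfsg.Agent.Lib.Helper17.exists_isSyl p D
  have h1 : D ≤ Subgroup.centralizer (V : Set Γ) ⊔ S := hS.le_sup_of_pMod hD
  have h2 : ⁅V, D⁆ ≤ ⁅V, S⁆ := by
    rw [Subgroup.commutator_le]
    intro v hv x hx
    obtain ⟨c, hc, s, hs, rfl⟩ := Subgroup.mem_sup_of_normal_left.mp (h1 hx)
    have hcv : v * c = c * v := (Subgroup.mem_centralizer_iff.mp hc) v hv
    have hvs : ⁅v, s⁆ ∈ V := (Subgroup.commutator_le_left V S) (Subgroup.commutator_mem_commutator hv hs)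
    have e : ⁅v, c * s⁆ = c * ⁅v, s⁆ * c⁻¹ := by
      calc ⁅v, c * s⁆ = (v * c) * s * v⁻¹ * s⁻¹ * c⁻¹ := by
            simp only [commutatorElement_def]; group
        _ = (c * v) * s * v⁻¹ * s⁻¹ * c⁻¹ := by rw [hcv]
        _ = c * ⁅v, s⁆ * c⁻¹ := by simp only [commutatorElement_def]; group
    have e2 : c * ⁅v, s⁆ * c⁻¹ = ⁅v, s⁆ := by
      have := (Subgroup.mem_centralizer_iff.mp hc) _ hvs
      rw [← this]; group
    rw [e, e2]
    exact Subgroup.commutator_mem_commutator hv hs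
  exact lt_of_le_of_lt h2 (Cfsg.Agent.Lib.Helper1.commutator_lt_of_isPGroup hV hS.isPGroup
    (le_normalizer_of_normal S V) hne)

end

section
variable {G : Type*} [Group G] [Finite G] {p : ℕ} [Fact p.Prime]

theorem comm_le_of_chief_of_pMod {X Y D : Subgroup G} (hXY : Cfsg.IsChiefFactor X Y)
    [hYn : Y.Normal] (hX : IsPGroup p X) [hD : D.Normal]
    (hp : ∀ d ∈ D, ∃ k : ℕ, d ^ p ^ k ∈ cen X Y) : ⁅X, D⁆ ≤ Y := by
  have hXn : X.Normal := hXY.2.1
  by_contra hc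
  have h1 : ⁅X, D⁆ ⊔ Y = X := chief_sup_eq hXY (Subgroup.commutator_le_left X D) hc
  have key : ∀ X : Subgroup G, X ≤ Y ↔ X.map (QuotientGroup.mk' Y) = ⊥ := by
    intro X
    rw [Subgroup.map_eq_bot_iff, QuotientGroup.ker_mk']
  have h2 : ⁅X.map (QuotientGroup.mk' Y), D.map (QuotientGroup.mk' Y)⁆ =
      X.map (QuotientGroup.mk' Y) := by
    conv_rhs => rw [← h1]
    rw [Subgroup.map_sup, (key Y).mp le_rfl, sup_bot_eq, Subgroup.map_commutator]
  have hVn := hXn.map (QuotientGroup.mk' Y) (QuotientGroup.mk'_surjective Y)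
  have h3 := comm_lt_of_pMod (p := p) (V := X.map (QuotientGroup.mk' Y))
    (D := D.map (QuotientGroup.mk' Y)) (hX.map _)
    (fun e => hXY.1.not_ge ((key X).mpr e)) (by
      rintro _ ⟨d, hd, rfl⟩
      obtain ⟨k, hk⟩ := hp d hd
      refine ⟨k, ?_⟩
      rw [← map_pow]
      exact hk)
  exact h3.ne h2

/-- in a `p`-stable quotient, quadratic action on a chief factor is trivial -/
theorem comm_le_of_stable {X Y : Subgroup G} (hXY : Cfsg.IsChiefFactor X Y) [hYn : Y.Normal]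
    (hX : IsPGroup p X) (hs : Cfsg.IsNormalizerPStable p (G ⧸ Y)) (g : G)
    (hq : ⁅⁅X, Subgroup.zpowers g⁆, Subgroup.zpowers g⁆ ≤ Y) : ⁅X, Subgroup.zpowers g⁆ ≤ Y := by
  have hXn : X.Normal := hXY.2.1
  have hVn := hXn.map (QuotientGroup.mk' Y) (QuotientGroup.mk'_surjective Y)
  have key : ∀ X : Subgroup G, X ≤ Y ↔ X.map (QuotientGroup.mk' Y) = ⊥ := by
    intro X
    rw [Subgroup.map_eq_bot_iff, QuotientGroup.ker_mk']
  have h1 := Cfsg.Agent.Lib.Helper5.stableOn_of_normalizerPStable hs (X.map (QuotientGroup.mk' Y))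
    (hX.map _) (QuotientGroup.mk' Y g) (by
      rw [← MonoidHom.map_zpowers, ← Subgroup.map_commutator, ← Subgroup.map_commutator]
      exact (key _).mp hq)
  set C := Subgroup.centralizer ((X.map (QuotientGroup.mk' Y) : Subgroup (G ⧸ Y)) : Set (G ⧸ Y))
    with hC
  set D : Subgroup G := ((Cfsg.pCore p ((G ⧸ Y) ⧸ C)).comap (QuotientGroup.mk' C)).comap
    (QuotientGroup.mk' Y) with hD
  have hDn : D.Normal := ((Cfsg.pCore_normal p _).comap _).comap _
  have hgD : g ∈ D := h1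
  have h2 : ⁅X, D⁆ ≤ Y := by
    apply comm_le_of_chief_of_pMod (p := p) hXY hX
    intro d hd
    obtain ⟨k, hk⟩ := (Cfsg.Agent.Lib.Helper17.pCore_isPGroup (G := (G ⧸ Y) ⧸ C) (p := p)) ⟨_, hd⟩
    refine ⟨k, ?_⟩
    have h3 := congrArg Subtype.val hk
    have h4 : (QuotientGroup.mk' Y d) ^ p ^ k ∈ C := (QuotientGroup.eq_one_iff _).mp h3
    show QuotientGroup.mk' Y (d ^ p ^ k) ∈ C
    rw [map_pow]
    exact h4
  exact (Subgroup.commutator_mono le_rfl ((Subgroup.zpowers_le).mpr hgD)).trans h2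

end

end Cfsg.Agent.Lib.Helper13
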