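import Cfsg.Agent.Lib.Helper13.KInfAction
import Cfsg.Agent.Lib.Helper13.Clifford
import Cfsg.Agent.Lib.Helper13.SecIndexP

set_option autoImplicit false

open scoped commutatorElement

namespace Cfsg.Agent.Lib.Helper13

universe u

section generic
variable {G : Type*} [Group G] [Finite G] {p : ℕ} [Fact p.Prime]

theorem comm_eq_bot_of_coprime {U : Subgroup G} (hU : IsPGroup p U) {y : G}
    (hy : (orderOf y).Coprime p) (hn : y ∈ Subgroup.normalizer (U : Set G))
    (h : ⁅⁅U, Subgroup.zpowers y⁆, Subgroup.zpowers y⁆ = ⊥) : ⁅U, Subgroup.zpowers y⁆ = ⊥ := by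
  obtain ⟨n, hn'⟩ := IsPGroup.iff_card.mp hU
  rw [← Cfsg.Agent.Lib.Helper1.coprime_comm_comm (Subgroup.zpowers y) U
    (Subgroup.zpowers_le.mpr hn) (by rw [Nat.card_zpowers, hn']; exact hy.pow_right n)
    (Or.inl inferInstance)]
  exact h

/-- a `p'`-element centralizing all chief factors inside a normal `p`-subgroup centralizes it -/
theorem comm_eq_bot_of_chief {A₀ : Subgroup G} [hA₀n : A₀.Normal] (hA₀ : IsPGroup p A₀) {y : G}
    (hy : (orderOf y).Coprime p)
    (h : ∀ U V : Subgroup G, Cfsg.IsChiefFactor U V → U ≤ A₀ → ⁅U, Subgroup.zpowers y⁆ ≤ V) :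
    ⁅A₀, Subgroup.zpowers y⁆ = ⊥ := by
  by_contra hne
  obtain ⟨U, ⟨hUn, hUA, hUy⟩, hmin⟩ := (wellFounded_lt (α := Subgroup G)).has_min
    {U : Subgroup G | U.Normal ∧ U ≤ A₀ ∧ ⁅U, Subgroup.zpowers y⁆ ≠ ⊥} ⟨A₀, hA₀n, le_rfl, hne⟩
  have hUbot : ⊥ < U := by
    rw [bot_lt_iff_ne_bot]
    rintro rfl
    exact hUy (Subgroup.commutator_bot_left _)
  obtain ⟨V, _, hch⟩ := exists_chief_top hUbot
  have hV : ⁅V, Subgroup.zpowers y⁆ = ⊥ := by
    by_contra hVy
    exact hmin V ⟨hch.2.2.1, hch.1.le.trans hUA, hVy⟩ hch.1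
  apply hUy
  apply comm_eq_bot_of_coprime (hA₀.to_le hUA) hy
    (le_normalizer_of_normal ⊤ U (Subgroup.mem_top y))
  rw [eq_bot_iff, ← hV]
  exact Subgroup.commutator_mono (h U V hch hUA) le_rfl

theorem pMod_of_chief {A₀ D : Subgroup G} [hA₀n : A₀.Normal] (hA₀ : IsPGroup p A₀)
    (h : ∀ U V : Subgroup G, Cfsg.IsChiefFactor U V → U ≤ A₀ → ⁅U, D⁆ ≤ V) :
    ∀ x ∈ D, ∃ k : ℕ, x ^ p ^ k ∈ Subgroup.centralizer (A₀ : Set G) := by
  intro x hx
  obtain ⟨a, ha⟩ := exists_pow_coprime_order (p := p) x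
  refine ⟨a, ?_⟩
  have h1 := comm_eq_bot_of_chief hA₀ ha (fun U V hUV hU =>
    (Subgroup.commutator_mono le_rfl (Subgroup.zpowers_le.mpr (D.pow_mem hx _))).trans (h U V hUV hU))
  rw [Subgroup.commutator_comm, Subgroup.commutator_eq_bot_iff_le_centralizer] at h1
  exact h1 (Subgroup.mem_zpowers _)

theorem le_pCore_of_chief {A : Subgroup G} (hA : Crit p A)
    (hC : Subgroup.centralizer ((Cfsg.pCore p G : Subgroup G) : Set G) ≤ Cfsg.pCore p G)
    {D : Subgroup G} [hD : D.Normal]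
    (h : ∀ U V : Subgroup G, Cfsg.IsChiefFactor U V → U ≤ A → ⁅U, D⁆ ≤ V) :
    D ≤ Cfsg.pCore p G := by
  have hAn := hA.normal
  have hTp : IsPGroup p (Cfsg.pCore p G) := Cfsg.Agent.Lib.Helper17.pCore_isPGroup
  apply Cfsg.Agent.Lib.Helper17.le_pCore hD
  rintro ⟨x, hx⟩
  obtain ⟨a, ha⟩ := exists_pow_coprime_order (p := p) x
  refine ⟨a, Subtype.ext ?_⟩
  show x ^ p ^ a = 1
  set y := x ^ p ^ a with hy
  have hyD : y ∈ D := D.pow_mem hx _
  have h1 : ⁅A, Subgroup.zpowers y⁆ = ⊥ := comm_eq_bot_of_chief (hTp.to_le hA.le) ha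
    (fun U V hUV hU =>
      (Subgroup.commutator_mono le_rfl (Subgroup.zpowers_le.mpr hyD)).trans (h U V hUV hU))
  have h2 : ⁅⁅Subgroup.zpowers y, Cfsg.pCore p G⁆, A⁆ = ⊥ := by
    apply Subgroup.commutator_commutator_eq_bot_of_rotate
    · rw [eq_bot_iff, ← h1]
      exact Subgroup.commutator_mono (Subgroup.commutator_le_right _ A) le_rfl
    · rw [h1, Subgroup.commutator_bot_left]
  have h3 : ⁅Cfsg.pCore p G, Subgroup.zpowers y⁆ ≤ A := by
    rw [Subgroup.commutator_eq_bot_iff_le_centralizer, Subgroup.commutator_comm] at h2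
    exact (le_inf (Subgroup.commutator_le_left _ _) h2).trans (hA.cen.trans inf_le_left)
  have h4 : ⁅Cfsg.pCore p G, Subgroup.zpowers y⁆ = ⊥ := by
    apply comm_eq_bot_of_coprime hTp ha (le_normalizer_of_normal ⊤ _ (Subgroup.mem_top y))
    rw [eq_bot_iff, ← h1]
    exact Subgroup.commutator_mono h3 le_rfl
  have h5 : y ∈ Cfsg.pCore p G := by
    rw [Subgroup.commutator_comm, Subgroup.commutator_eq_bot_iff_le_centralizer] at h4
    exact hC (h4 (Subgroup.mem_zpowers y))
  obtain ⟨k, hk⟩ := hTp ⟨y, h5⟩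
  have hk' : y ^ p ^ k = 1 := congrArg Subtype.val hk
  have h6 : orderOf y = 1 :=
    Nat.Coprime.eq_one_of_dvd (ha.pow_right k) (orderOf_dvd_of_pow_eq_one hk')
  exact orderOf_eq_one_iff.mp h6

/-- an element outside `O_p(G)` acts nontrivially on some chief factor inside `A` -/
theorem exists_chief_not_le {A : Subgroup G} (hA : Crit p A)
    (hC : Subgroup.centralizer ((Cfsg.pCore p G : Subgroup G) : Set G) ≤ Cfsg.pCore p G)
    {g : G} (hg : g ∉ Cfsg.pCore p G) :
    ∃ U V : Subgroup G, Cfsg.IsChiefFactor U V ∧ U ≤ A ∧ ¬ ⁅U, Subgroup.zpowers g⁆ ≤ V := by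
  by_contra hcon
  push Not at hcon
  apply hg
  have := le_pCore_of_chief hA hC (D := Subgroup.normalClosure {g}) (fun U V hUV hU => by
    have hVn := hUV.2.2.1
    have hUn := hUV.2.1
    rw [← le_cen_iff]
    apply Subgroup.normalClosure_le_normal
    rw [Set.singleton_subset_iff]
    exact ((le_cen_iff U V _).mpr (hcon U V hUV hU)) (Subgroup.mem_zpowers g))
  exact this (Subgroup.subset_normalClosure (Set.mem_singleton g))

theorem isSubnormal_sup_of_pMod {C K B : Subgroup G} [hCn : C.Normal] [hK : K.Normal] (hBK : B ≤ K)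
    (hp : ∀ x ∈ K, ∃ k : ℕ, x ^ p ^ k ∈ C) : (B ⊔ C).IsSubnormal := by
  have e : B ⊔ C = (B.map (QuotientGroup.mk' C)).comap (QuotientGroup.mk' C) := by
    rw [Subgroup.comap_map_eq, QuotientGroup.ker_mk']
  rw [e]
  apply Subgroup.IsSubnormal.comap
  have hKn : (K.map (QuotientGroup.mk' C)).Normal :=
    hK.map _ (QuotientGroup.mk'_surjective C)
  have hKp : IsPGroup p (K.map (QuotientGroup.mk' C)) := by
    rintro ⟨_, x, hx, rfl⟩
    obtain ⟨k, hk⟩ := hp x hx
    refine ⟨k, Subtype.ext ?_⟩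
    exact (QuotientGroup.eq_one_iff _).mpr hk
  exact Subgroup.IsSubnormal.trans (Subgroup.map_mono hBK) (isSubnormal_of_isPGroup hKp _)
    hKn.isSubnormal

end generic

section relcen
variable {G : Type*} [Group G]

theorem conj_eq_of_mem_centralizer {A : Subgroup G} {c a : G}
    (hc : c ∈ Subgroup.centralizer (A : Set G)) (ha : a ∈ A) : a * c * a⁻¹ = c := by
  have := (Subgroup.mem_centralizer_iff.mp hc) a ha
  rw [this]; group

/-- the elements of `A` whose commutators with `A` are centralized by `B` -/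
def relCen (A B : Subgroup G) (hA2 : A ∈ Cfsg.classTwoSubgroups G) : Subgroup G where
  carrier := {a | a ∈ A ∧ ∀ a' ∈ A, ⁅a, a'⁆ ∈ Subgroup.centralizer (B : Set G)}
  one_mem' := ⟨A.one_mem, fun a' _ => by simp⟩
  mul_mem' := by
    rintro a₁ a₂ ⟨h1, h1'⟩ ⟨h2, h2'⟩
    refine ⟨A.mul_mem h1 h2, fun a' ha' => ?_⟩
    have e : ⁅a₁ * a₂, a'⁆ = (a₁ * ⁅a₂, a'⁆ * a₁⁻¹) * ⁅a₁, a'⁆ := by
      simp only [commutatorElement_def]; group
    rw [e, conj_eq_of_mem_centralizer (hA2 (Subgroup.commutator_mem_commutator h2 ha')) h1]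
    exact mul_mem (h2' a' ha') (h1' a' ha')
  inv_mem' := by
    rintro a ⟨h1, h1'⟩
    refine ⟨A.inv_mem h1, fun a' ha' => ?_⟩
    have e : ⁅a⁻¹, a'⁆ = a⁻¹ * (⁅a, a'⁆)⁻¹ * a⁻¹⁻¹ := by
      simp only [commutatorElement_def]; group
    rw [e, conj_eq_of_mem_centralizer
      (inv_mem (hA2 (Subgroup.commutator_mem_commutator h1 ha'))) (A.inv_mem h1)]
    exact inv_mem (h1' a' ha')

variable {A B : Subgroup G} (hA2 : A ∈ Cfsg.classTwoSubgroups G)

theorem relCen_le : relCen A B hA2 ≤ A := fun _ h => h.1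

theorem commutator_relCen_le : ⁅relCen A B hA2, A⁆ ≤ Subgroup.centralizer (B : Set G) := by
  rw [Subgroup.commutator_le]
  intro a ha a' ha'
  exact ha.2 a' ha'

theorem le_normalizer_relCen [hAn : A.Normal] :
    B ⊔ Subgroup.centralizer ((⁅A, A⁆ : Subgroup G) : Set G) ≤
      Subgroup.normalizer ((relCen A B hA2 : Subgroup G) : Set G) := by
  have key : ∀ h : G, (∀ c ∈ ⁅A, A⁆, c ∈ Subgroup.centralizer (B : Set G) → h * c * h⁻¹ = c) →
      ∀ a ∈ relCen A B hA2, h * a * h⁻¹ ∈ relCen A B hA2 := by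
    intro h hh a ha
    refine ⟨hAn.conj_mem a ha.1 h, fun a' ha' => ?_⟩
    have ha'' : h⁻¹ * a' * h ∈ A := by
      have := hAn.conj_mem a' ha' h⁻¹
      rwa [inv_inv] at this
    have e : ⁅h * a * h⁻¹, a'⁆ = h * ⁅a, h⁻¹ * a' * h⁆ * h⁻¹ := by
      simp only [commutatorElement_def]; group
    rw [e, hh _ (Subgroup.commutator_mem_commutator ha.1 ha'') (ha.2 _ ha'')]
    exact ha.2 _ ha''
  refine sup_le ?_ ?_
  · rw [Subgroup.le_normalizer_iff]
    intro h hh a ha
    exact key h (fun c _ hc => conj_eq_of_mem_centralizer hc hh) a ha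
  · rw [Subgroup.le_normalizer_iff]
    intro h hh a ha
    refine key h (fun c hc _ => ?_) a ha
    have := (Subgroup.mem_centralizer_iff.mp hh) c hc
    rw [← this]; group

theorem commutator_inf_le_relCen (hB2 : B ∈ Cfsg.classTwoSubgroups G)
    (hn : A ≤ Subgroup.normalizer (B : Set G)) : ⁅B, B⁆ ⊓ A ≤ relCen A B hA2 := by
  intro e he
  obtain ⟨he1, he2⟩ := Subgroup.mem_inf.mp he
  refine ⟨he2, fun a' ha' => ?_⟩
  apply hB2
  have hn' : A ≤ Subgroup.normalizer ((⁅B, B⁆ : Subgroup G) : Set G) :=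
    Cfsg.Agent.Lib.Helper1.le_normalizer_commutator hn hn
  have h1 := Subgroup.le_normalizer_iff.mp hn' a' ha' e⁻¹ (inv_mem he1)
  have e' : ⁅e, a'⁆ = e * (a' * e⁻¹ * a'⁻¹) := by
    simp only [commutatorElement_def]; group
  rw [e']
  exact mul_mem he1 h1

end relcen

section main
variable {G : Type*} [Group G] [Finite G] {p : ℕ} [Fact p.Prime]

/-- `B` acts quadratically on all chief factors inside `A` -/
def QC (A B : Subgroup G) : Prop :=
  ∀ U V : Subgroup G, Cfsg.IsChiefFactor U V → U ≤ A → ⁅⁅U, B⁆, B⁆ ≤ V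

omit [Finite G] in
theorem QC_of_layers {A B : Subgroup G} [A.Normal] (h1 : ⁅⁅A, B⁆, B⁆ ≤ zc A)
    (h2 : ⁅⁅zc A, B⁆, B⁆ = ⊥) : QC A B := by
  intro U V hUV hU
  have hUn : U.Normal := hUV.2.1
  have hVn : V.Normal := hUV.2.2.1
  by_cases c : U ⊓ zc A ≤ V
  · have a1 : ⁅⁅U, B⁆, B⁆ ≤ U := iter_le_self U B 2
    exact (le_inf a1 ((Subgroup.commutator_mono (Subgroup.commutator_mono hU le_rfl) le_rfl).trans
      h1)).trans c
  · have a1 : Cfsg.iterCommutator (U ⊓ zc A) B 2 ≤ V := by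
      have : Cfsg.iterCommutator (U ⊓ zc A) B 2 ≤ ⁅⁅zc A, B⁆, B⁆ := iter_mono inf_le_right B 2
      rw [h2] at this
      exact this.trans bot_le
    exact iter_le_of_sup (chief_sup_eq hUV inf_le_left c) a1

/-- The key case analysis: a bad subgroup not inside `O_p(G)` yields either a subgroup acting
quadratically on all chief factors inside `A`, or an element acting quadratically and nontrivially
on a chief factor inside `A'`. -/
theorem Bad.exists_QC {S A B : Subgroup G} (hA : Crit p A) (hbad : Bad S A B)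
    (hBT : ¬ B ≤ Cfsg.pCore p G) :
    (∃ B' ≤ B, ¬ B' ≤ Cfsg.pCore p G ∧ QC A B') ∨
    ∃ g ∈ B, ∃ U V : Subgroup G, Cfsg.IsChiefFactor U V ∧ U ≤ zc A ∧
      ¬ ⁅U, Subgroup.zpowers g⁆ ≤ V := by
  have hAn := hA.normal
  have hTp : IsPGroup p (Cfsg.pCore p G) := Cfsg.Agent.Lib.Helper17.pCore_isPGroup
  have hcub := hbad.cubic
  rcases hbad with ⟨hB2, hn, hc1, hc2⟩ | ⟨hB2, h⟩ | ⟨Q, hQS, hAQ, hB2, hQn, htest⟩
  · left
    refine ⟨B, le_rfl, hBT, QC_of_layers ?_ hc2⟩
    have h1 : ⁅A, B⁆ ≤ B := by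
      rw [Subgroup.commutator_comm]; exact Subgroup.le_normalizer_iff_commutator_le_left.mp hn
    have h2 : ⁅⁅A, B⁆, B⁆ ≤ ⁅B, B⁆ := Subgroup.commutator_mono h1 le_rfl
    have h3 : ⁅⁅A, B⁆, B⁆ ≤ A := iter_le_self A B 2
    have h4 : ⁅B, B⁆ ≤ Subgroup.centralizer (A : Set G) := by
      rw [← Subgroup.commutator_eq_bot_iff_le_centralizer, Subgroup.commutator_comm]; exact hc1
    exact le_inf h3 (h2.trans h4)
  · left
    refine ⟨B, le_rfl, hBT, QC_of_layers ?_ hcub.2⟩
    have h1 : ⁅⁅A, B⁆, B⁆ = ⊥ := by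
      rw [eq_bot_iff, ← commutator_zc_self B, Subgroup.commutator_comm A B]
      exact Subgroup.commutator_mono h le_rfl
    rw [h1]; exact bot_le
  · have hAB : ⁅A, B⁆ ≤ B := by
      rw [Subgroup.commutator_comm]
      exact Subgroup.le_normalizer_iff_commutator_le_left.mp (hAQ.trans hQn)
    by_cases hZ : zc B ≤ Cfsg.pCore p G
    · by_cases hch : ∀ U V : Subgroup G, Cfsg.IsChiefFactor U V → U ≤ ⁅A, A⁆ → ⁅U, B⁆ ≤ V
      · left
        refine ⟨B, le_rfl, hBT, ?_⟩
        -- the Clifford argument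
        have hA'p : IsPGroup p (⁅A, A⁆ : Subgroup G) :=
          hTp.to_le ((Subgroup.commutator_le_left A A).trans hA.le)
        have hsub : (B ⊔ Subgroup.centralizer ((⁅A, A⁆ : Subgroup G) : Set G)).IsSubnormal := by
          apply isSubnormal_sup_of_pMod (p := p) (K := Subgroup.normalClosure (B : Set G))
            Subgroup.le_normalClosure
          apply pMod_of_chief hA'p
          intro U V hUV hU
          have hVn := hUV.2.2.1
          have hUn := hUV.2.1
          rw [← le_cen_iff]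
          apply Subgroup.normalClosure_le_normal
          exact (le_cen_iff U V B).mpr (hch U V hUV hU)
        have hW : ⁅B, relCen A B hA.two⁆ ≤ zc B := by
          apply htest
          · exact ((Subgroup.commutator_mono (relCen_le _) (relCen_le _)).trans hA.two).trans
              (Subgroup.centralizer_le (relCen_le _))
          · exact (relCen_le _).trans hAQ
          · exact le_sup_left.trans (le_normalizer_relCen hA.two)
          · rw [Subgroup.commutator_comm, Subgroup.commutator_eq_bot_iff_le_centralizer]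
            exact (Subgroup.commutator_mono le_rfl (relCen_le _)).trans (commutator_relCen_le _)
          · rw [Subgroup.commutator_eq_bot_iff_le_centralizer]
            have a1 : ⁅zc B, relCen A B hA.two⁆ ≤ zc A := by
              rw [Subgroup.commutator_comm]
              exact (Subgroup.commutator_mono (relCen_le _) hZ).trans hA.comm
            exact (a1.trans inf_le_right).trans (Subgroup.centralizer_le (relCen_le _))
        have hW2 : ⁅⁅relCen A B hA.two, B⁆, B⁆ = ⊥ := by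
          rw [eq_bot_iff, ← commutator_zc_self B, Subgroup.commutator_comm (relCen A B hA.two) B]
          exact Subgroup.commutator_mono hW le_rfl
        intro U V hUV hU
        have hUn := hUV.2.1
        refine clifford_quadratic hUV ?_ hsub le_sup_left (le_normalizer_relCen hA.two) ?_ ?_
        · exact (Subgroup.commutator_mono le_rfl (hU.trans hA.le)).trans
            (chief_central hUV hTp (hU.trans hA.le))
        · refine le_trans ?_ (commutator_inf_le_relCen hA.two hB2 (hAQ.trans hQn))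
          refine le_inf ?_ ?_
          · exact Subgroup.commutator_mono ((Subgroup.commutator_mono hU le_rfl).trans hAB) le_rfl
          · exact (iter_le_self U B 2).trans hU
        · have : ⁅⁅U ⊓ relCen A B hA.two, B⁆, B⁆ ≤ ⁅⁅relCen A B hA.two, B⁆, B⁆ :=
            Subgroup.commutator_mono (Subgroup.commutator_mono inf_le_right le_rfl) le_rfl
          rw [hW2] at this
          exact this.trans bot_le
      · right
        push Not at hch
        obtain ⟨U, V, hUV, hU, hne⟩ := hch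
        rw [Subgroup.commutator_le] at hne
        push Not at hne
        obtain ⟨u, hu, b, hb, hub⟩ := hne
        refine ⟨b, hb, U, V, hUV, hU.trans (le_inf (Subgroup.commutator_le_left A A) hA.two), ?_⟩
        intro hle
        exact hub (hle (Subgroup.commutator_mem_commutator hu (Subgroup.mem_zpowers b)))
    · left
      refine ⟨zc B, inf_le_left, hZ, QC_of_layers ?_ ?_⟩
      · have : ⁅⁅A, zc B⁆, zc B⁆ ≤ ⁅B, zc B⁆ :=
          Subgroup.commutator_mono ((Subgroup.commutator_mono le_rfl inf_le_left).trans hAB) le_rfl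
        rw [Subgroup.commutator_comm B (zc B), commutator_zc_self] at this
        exact this.trans bot_le
      · rw [eq_bot_iff, ← hcub.2]
        exact Subgroup.commutator_mono (Subgroup.commutator_mono le_rfl inf_le_left) inf_le_left

end main

/-- Glauberman's theorem on the K-infinity subgroups, relative to a critical subgroup. -/
theorem exists_quadratic_chief {G : Type u} [Group G] [Finite G] {p : ℕ} [Fact p.Prime]
    (S : Sylow p G) {A : Subgroup G} (hA : Crit p A)
    (hK : ¬ (Cfsg.inducedFunctor Cfsg.kInfLower (S : Subgroup G)).Normal ∨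
      ¬ (Cfsg.inducedFunctor Cfsg.kInfUpper (S : Subgroup G)).Normal) :
    ∃ g ∈ (S : Subgroup G), g ∉ Cfsg.pCore p G ∧
      Cfsg.iterCommutator A (Subgroup.zpowers g) 3 ≤ zc A ∧
      ⁅⁅zc A, Subgroup.zpowers g⁆, Subgroup.zpowers g⁆ = ⊥ ∧
      (Subgroup.centralizer ((Cfsg.pCore p G : Subgroup G) : Set G) ≤ Cfsg.pCore p G →
        ∃ U V : Subgroup G, Cfsg.IsChiefFactor U V ∧ U ≤ A ∧
          ⁅⁅U, Subgroup.zpowers g⁆, Subgroup.zpowers g⁆ ≤ V ∧ ¬ ⁅U, Subgroup.zpowers g⁆ ≤ V) := by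
  by_cases hC : Subgroup.centralizer ((Cfsg.pCore p G : Subgroup G) : Set G) ≤ Cfsg.pCore p G
  · obtain ⟨B, hBS, hBT, hbad⟩ := exists_bad S hA hK
    have hAn := hA.normal
    have hTp : IsPGroup p (Cfsg.pCore p G) := Cfsg.Agent.Lib.Helper17.pCore_isPGroup
    obtain ⟨c1, c2⟩ := hbad.cubic
    have hcub : ∀ g ∈ B, Cfsg.iterCommutator A (Subgroup.zpowers g) 3 ≤ zc A ∧
        ⁅⁅zc A, Subgroup.zpowers g⁆, Subgroup.zpowers g⁆ = ⊥ := by
      intro g hgB
      have hz : Subgroup.zpowers g ≤ B := (Subgroup.zpowers_le).mpr hgB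
      refine ⟨?_, ?_⟩
      · refine le_trans ?_ c1
        exact Subgroup.commutator_mono
          (Subgroup.commutator_mono (Subgroup.commutator_mono le_rfl hz) hz) hz
      · rw [eq_bot_iff, ← c2]
        exact Subgroup.commutator_mono (Subgroup.commutator_mono le_rfl hz) hz
    rcases hbad.exists_QC hA hBT with ⟨B', hB'B, hB'T, hQC⟩ | ⟨g, hgB, U, V, hUV, hU, hne⟩
    · obtain ⟨g, hgB', hgT⟩ := SetLike.not_le_iff_exists.mp hB'T
      have hz : Subgroup.zpowers g ≤ B' := (Subgroup.zpowers_le).mpr hgB'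
      obtain ⟨U, V, hUV, hU, hne⟩ := exists_chief_not_le hA hC hgT
      exact ⟨g, hBS (hB'B hgB'), hgT, (hcub g (hB'B hgB')).1, (hcub g (hB'B hgB')).2, fun _ =>
        ⟨U, V, hUV, hU, (Subgroup.commutator_mono (Subgroup.commutator_mono le_rfl hz) hz).trans
          (hQC U V hUV hU), hne⟩⟩
    · have hUT : U ≤ Cfsg.pCore p G := hU.trans (inf_le_left.trans hA.le)
      refine ⟨g, hBS hgB, ?_, (hcub g hgB).1, (hcub g hgB).2, fun _ =>
        ⟨U, V, hUV, hU.trans inf_le_left, ?_, hne⟩⟩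
      · intro hgT
        exact hne ((Subgroup.commutator_mono le_rfl ((Subgroup.zpowers_le).mpr hgT)).trans
          (chief_central hUV hTp hUT))
      · have : ⁅⁅U, Subgroup.zpowers g⁆, Subgroup.zpowers g⁆ ≤
            ⁅⁅zc A, Subgroup.zpowers g⁆, Subgroup.zpowers g⁆ :=
          Subgroup.commutator_mono (Subgroup.commutator_mono hU le_rfl) le_rfl
        rw [(hcub g hgB).2] at this
        exact this.trans bot_le
  · obtain ⟨g, h1, h2, h3, h4⟩ := exists_cubic_elt S hA hK
    exact ⟨g, h1, h2, h3, h4, fun h => absurd h hC⟩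

end Cfsg.Agent.Lib.Helper13
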