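import Mathlib
import Cfsg.Agent.S0093
import Cfsg.Agent.S0120
import Cfsg.Agent.Lib.Helper23.FrattiniP

set_option autoImplicit false

namespace Cfsg.Agent.Lib.Helper13

open scoped commutatorElement

/-- class two computation inside a subgroup `H` of `X`, for an automorphism stabilizing `H` -/
theorem aut_pow_fix_of_class_two {X : Type*} [Group X] (H : Subgroup X)
    (hc : ∀ a ∈ H, ∀ b ∈ H, ∀ c ∈ H, c * ⁅a, b⁆ = ⁅a, b⁆ * c)
    (hc2 : ∀ a ∈ H, ∀ b ∈ H, ⁅a, b⁆ ^ 2 = 1)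
    (φ : MulAut X) (hφH : ∀ x ∈ H, φ x ∈ H) (hφ : ∀ g ∈ H, g ^ 4 = 1 → φ g = g) :
    ∀ k : ℕ, ∀ x ∈ H, x ^ (2 ^ (k + 2)) = 1 → (φ ^ (4 ^ k)) x = x := by
  have hsq : ∀ x ∈ H, ∀ y ∈ H, (x * y) ^ 2 = x ^ 2 * y ^ 2 * ⁅y, x⁆ := by
    intro x hx y hy
    have h1 : y * x = x * y * ⁅y, x⁆ := by
      rw [hc y hy x hx (x * y) (H.mul_mem hx hy), commutatorElement_def]; group
    calc (x * y) ^ 2 = x * (y * x) * y := by rw [pow_two]; group
      _ = x * (x * y * ⁅y, x⁆) * y := by rw [h1]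
      _ = x * x * y * (⁅y, x⁆ * y) := by group
      _ = x * x * y * (y * ⁅y, x⁆) := by rw [hc y hy x hx y hy]
      _ = x ^ 2 * y ^ 2 * ⁅y, x⁆ := by rw [pow_two, pow_two]; group
  have key : ∀ ψ : MulAut X, (∀ x ∈ H, ψ x ∈ H) → (∀ g ∈ H, g ^ 4 = 1 → ψ g = g) →
      ∀ x ∈ H, ψ (x ^ 2) = x ^ 2 → (ψ ^ 4) x = x := by
    intro ψ hψH hψ x hxH hx
    obtain ⟨z, hz⟩ : ∃ z, z = x⁻¹ * ψ x := ⟨_, rfl⟩
    have hzH : z ∈ H := by rw [hz]; exact H.mul_mem (H.inv_mem hxH) (hψH x hxH)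
    have hxz : ψ x = x * z := by rw [hz]; group
    have h1 : (x * z) ^ 2 = x ^ 2 := by rw [← hxz, ← map_pow, hx]
    rw [hsq x hxH z hzH, mul_assoc, mul_eq_left] at h1
    have hz2 : z ^ 2 = ⁅z, x⁆⁻¹ := eq_inv_of_mul_eq_one_left h1
    have hz4 : z ^ 4 = 1 := by
      have e : z ^ 4 = (z ^ 2) ^ 2 := by rw [← pow_mul]
      rw [e, hz2, inv_pow, hc2 z hzH x hxH, inv_one]
    have hzf : ψ z = z := hψ z hzH hz4
    have hk : ∀ k : ℕ, (ψ ^ k) x = x * z ^ k := by
      intro k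
      induction k with
      | zero => simp
      | succ k ih =>
        rw [pow_succ', MulAut.mul_apply, ih, map_mul, map_pow, hzf, hxz, pow_succ', mul_assoc]
    rw [hk, hz4, mul_one]
  have hpowH : ∀ j : ℕ, ∀ x ∈ H, (φ ^ j) x ∈ H := by
    intro j
    induction j with
    | zero => intro x hx; simpa using hx
    | succ j ihj => intro x hx; rw [pow_succ, MulAut.mul_apply]; exact ihj _ (hφH x hx)
  intro k
  induction k with
  | zero =>
    intro x hxH hx
    simpa using hφ x hxH (by simpa using hx)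
  | succ k ih =>
    intro x hxH hx
    have e : φ ^ (4 ^ (k + 1)) = (φ ^ (4 ^ k)) ^ 4 := by rw [← pow_mul, pow_succ]
    rw [e]
    apply key _ (hpowH _) _ x hxH
    · apply ih _ (H.pow_mem hxH 2)
      rw [← pow_mul, ← pow_succ']
      exact hx
    · intro g hgH hg
      have : ∀ j : ℕ, (φ ^ j) g = g := by
        intro j
        induction j with
        | zero => simp
        | succ j ihj => rw [pow_succ, MulAut.mul_apply, hφ g hgH hg, ihj]
      exact this _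

/-- A `p'`-automorphism of a `p`-group trivial on a subgroup `H ⊇ C_P(H)`, `H` normal, is trivial. -/
theorem aut_trivial_of_trivial_on_self_centralizing {P : Type*} [Group P] [Finite P] {p : ℕ} [Fact p.Prime]
    (hP : IsPGroup p P) (H : Subgroup P) [H.Normal] (hCH : Subgroup.centralizer (H : Set P) ≤ H)
    (a : MulAut P) (ha : Nat.Coprime (orderOf a) p) (h : ∀ x ∈ H, a x = x) : a = 1 := by
  ext x
  rw [MulAut.one_apply]
  obtain ⟨c, hc⟩ : ∃ c, c = x⁻¹ * a x := ⟨_, rfl⟩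
  have hax : a x = x * c := by rw [hc]; group
  have hcC : c ∈ Subgroup.centralizer (H : Set P) := by
    rw [Subgroup.mem_centralizer_iff]
    intro y hy
    have h1 : a (x * y * x⁻¹) = x * y * x⁻¹ := h _ (‹H.Normal›.conj_mem y hy x)
    rw [map_mul, map_mul, map_inv, h y hy, hax] at h1
    have h2 : c * y * c⁻¹ = y := by
      calc c * y * c⁻¹ = x⁻¹ * (x * c * y * (x * c)⁻¹) * x := by group
        _ = x⁻¹ * (x * y * x⁻¹) * x := by rw [h1]
        _ = y := by group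
    calc y * c = (c * y * c⁻¹) * c := by rw [h2]
      _ = c * y := by group
  have hac : a c = c := h c (hCH hcC)
  have hk : ∀ k : ℕ, (a ^ k) x = x * c ^ k := by
    intro k
    induction k with
    | zero => simp
    | succ k ih =>
      rw [pow_succ', MulAut.mul_apply, ih, map_mul, map_pow, hac, hax, pow_succ', mul_assoc]
  have h1 := hk (orderOf a)
  rw [pow_orderOf_eq_one, MulAut.one_apply] at h1
  have h2 : c ^ orderOf a = 1 := by
    have := h1.symm
    rwa [mul_eq_left] at this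
  obtain ⟨j, hj⟩ := hP c
  have hd1 := orderOf_dvd_of_pow_eq_one h2
  have hd2 := orderOf_dvd_of_pow_eq_one hj
  have := Nat.eq_one_of_dvd_coprimes (Nat.Coprime.pow_right j ha) hd1 hd2
  rw [hax, orderOf_eq_one_iff.mp this, mul_one]

/-- An automorphism of odd order of a finite `2`-group fixing every element of order dividing `4` is trivial. -/
theorem aut_trivial_of_fix_four {P : Type*} [Group P] [Finite P] (hP : IsPGroup 2 P)
    (a : MulAut P) (ha : Nat.Coprime (orderOf a) 2) (h : ∀ x : P, x ^ 4 = 1 → a x = x) : a = 1 := by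
  have : Fact (Nat.Prime 2) := ⟨Nat.prime_two⟩
  obtain ⟨H, hchar, hfr, hcomm, hCH⟩ := Cfsg.Agent.S0093.result hP
  have hHn : H.Normal := inferInstance
  apply aut_trivial_of_trivial_on_self_centralizing hP H hCH a ha
  have hc0 : ∀ x ∈ H, ∀ y ∈ H, ⁅x, y⁆ ∈ H ⊓ Subgroup.centralizer (H : Set P) := fun x hx y _ =>
    hcomm (Subgroup.commutator_mem_commutator hx (Subgroup.mem_top y))
  have hc : ∀ x ∈ H, ∀ y ∈ H, ∀ c ∈ H, c * ⁅x, y⁆ = ⁅x, y⁆ * c := fun x hx y hy c hc' =>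
    (Subgroup.mem_centralizer_iff.mp (hc0 x hx y hy).2) c hc'
  have hsqc : ∀ x ∈ H, x ^ 2 ∈ Subgroup.centralizer (H : Set P) := by
    intro x hx
    apply hfr
    exact ⟨⟨x, hx⟩ ^ 2, Cfsg.Agent.Lib.Helper23.pow_mem_frattini (hP.to_subgroup H) ⟨x, hx⟩, rfl⟩
  have hc2 : ∀ x ∈ H, ∀ y ∈ H, ⁅x, y⁆ ^ 2 = 1 := by
    intro x hx y hy
    have h1 : ⁅x ^ 2, y⁆ = 1 := by
      rw [commutatorElement_eq_one_iff_mul_comm]
      exact ((Subgroup.mem_centralizer_iff.mp (hsqc x hx)) y hy).symm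
    have h2 : ⁅x ^ 2, y⁆ = x * ⁅x, y⁆ * x⁻¹ * ⁅x, y⁆ := by
      simp only [commutatorElement_def, pow_two]; group
    rw [h2, hc x hx y hy x hx, mul_inv_cancel_right, ← pow_two] at h1
    exact h1
  have haH : ∀ x ∈ H, a x ∈ H := by
    intro x hx
    have := (Subgroup.characteristic_iff_map_le.mp hchar) a
    exact this ⟨x, hx, rfl⟩
  have main := aut_pow_fix_of_class_two H hc hc2 a haH (fun g _ hg => h g hg)
  obtain ⟨K, hK⟩ := IsPGroup.iff_card.mp hP
  intro x hx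
  have h1 : (a ^ (4 ^ K)) x = x := by
    apply main K x hx
    rw [pow_add, pow_mul, ← hK, pow_card_eq_one', one_pow]
  -- `a ^ (4 ^ K)` and `a ^ orderOf a` fix `x`
  have hfix : ∀ m : ℕ, (a ^ m) x = x → ∀ j : ℤ, ((a ^ m) ^ j) x = x := by
    intro m hm j
    have hs : a ^ m ∈ MulAction.stabilizer (MulAut P) x := hm
    exact (MulAction.stabilizer (MulAut P) x).zpow_mem hs j
  have hcop : Nat.Coprime (4 ^ K) (orderOf a) := by
    have : (4 : ℕ) = 2 ^ 2 := by norm_num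
    rw [this, ← pow_mul]
    exact (Nat.Coprime.pow_right _ ha).symm
  have hbez := Nat.gcd_eq_gcd_ab (4 ^ K) (orderOf a)
  rw [hcop] at hbez
  have e : a = (a ^ (4 ^ K)) ^ (Nat.gcdA (4 ^ K) (orderOf a)) := by
    have h2 : a ^ ((1 : ℕ) : ℤ) = a ^ (((4 ^ K : ℕ) : ℤ) * Nat.gcdA (4 ^ K) (orderOf a) +
        ((orderOf a : ℕ) : ℤ) * Nat.gcdB (4 ^ K) (orderOf a)) := by rw [hbez]
    rw [zpow_add, zpow_mul, zpow_mul, zpow_natCast, zpow_natCast, zpow_natCast, pow_orderOf_eq_one,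
      one_zpow, mul_one, pow_one] at h2
    exact h2
  rw [e]
  exact hfix _ h1 _

end Cfsg.Agent.Lib.Helper13
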