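import Mathlib
import Cfsg.Prelude.Def_PLocal
import Cfsg.Prelude.Def_LocalEven
import Cfsg.Agent.Lib.Helper12.SL2Sylow

set_option autoImplicit false

namespace Cfsg.Agent.Lib.Helper13

open Matrix Matrix.SpecialLinearGroup Cfsg.Agent.Lib.Helper12
open scoped MatrixGroups

/-- affine coordinates on a group isomorphic to `Qd(p)` -/
structure AffData (p : ℕ) (X : Type*) [Group X] where
  β : X →* SL(2, ZMod p)
  t0 : X → ZMod p
  t1 : X → ZMod p
  t0_mul : ∀ x y, t0 (x * y) = β x 0 0 * t0 y + β x 0 1 * t1 y + t0 x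
  t1_mul : ∀ x y, t1 (x * y) = β x 1 0 * t0 y + β x 1 1 * t1 y + t1 x
  ext : ∀ x y, β x = β y → t0 x = t0 y → t1 x = t1 y → x = y
  surj : ∀ (A : SL(2, ZMod p)) (c b : ZMod p), ∃ x, β x = A ∧ t0 x = c ∧ t1 x = b

namespace AffData

variable {p : ℕ} [hp : Fact p.Prime] {X : Type*} [Group X] (D : AffData p X)

/-- transport along an isomorphism -/
def comp {Y : Type*} [Group Y] (e : Y ≃* X) : AffData p Y where
  β := D.β.comp e.toMonoidHom
  t0 := fun y => D.t0 (e y)
  t1 := fun y => D.t1 (e y)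
  t0_mul := fun x y => by
    show D.t0 (e (x * y)) = _
    rw [map_mul, D.t0_mul]; rfl
  t1_mul := fun x y => by
    show D.t1 (e (x * y)) = _
    rw [map_mul, D.t1_mul]; rfl
  ext := fun x y h1 h2 h3 => e.injective (D.ext _ _ h1 h2 h3)
  surj := fun A c b => by
    obtain ⟨x, h1, h2, h3⟩ := D.surj A c b
    refine ⟨e.symm x, ?_, ?_, ?_⟩
    · show D.β (e (e.symm x)) = A
      rw [e.apply_symm_apply, h1]
    · show D.t0 (e (e.symm x)) = c
      rw [e.apply_symm_apply, h2]
    · show D.t1 (e (e.symm x)) = b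
      rw [e.apply_symm_apply, h3]

/-- the unitriangular elements -/
noncomputable def u (a b c : ZMod p) : X := Classical.choose (D.surj (tU a) c b)

theorem β_u (a b c : ZMod p) : D.β (D.u a b c) = tU a := (Classical.choose_spec (D.surj (tU a) c b)).1
theorem t0_u (a b c : ZMod p) : D.t0 (D.u a b c) = c := (Classical.choose_spec (D.surj (tU a) c b)).2.1
theorem t1_u (a b c : ZMod p) : D.t1 (D.u a b c) = b := (Classical.choose_spec (D.surj (tU a) c b)).2.2

/-- the unitriangular subgroup -/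
def U : Subgroup X := (slU : Subgroup SL(2, ZMod p)).comap D.β

theorem u_mem (a b c : ZMod p) : D.u a b c ∈ D.U := by
  show D.β (D.u a b c) ∈ slU
  rw [β_u]; exact tU_mem a

theorem eq_u {x : X} (hx : x ∈ D.U) : x = D.u (D.β x 0 1) (D.t1 x) (D.t0 x) := by
  obtain ⟨h1, h2, h3⟩ := (mem_slU_iff _).mp hx
  apply D.ext
  · rw [β_u]
    apply sl2_ext
    · rw [h1, tU_00]
    · rw [tU_01]
    · rw [h2, tU_10]
    · rw [h3, tU_11]
  · rw [t0_u]
  · rw [t1_u]

theorem u_mul (a b c a' b' c' : ZMod p) :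
    D.u a b c * D.u a' b' c' = D.u (a + a') (b + b') (c + c' + a * b') := by
  apply D.ext
  · rw [map_mul, β_u, β_u, β_u]
    apply sl2_ext <;>
      simp only [sl2_mul_00, sl2_mul_01, sl2_mul_10, sl2_mul_11, tU_00, tU_01, tU_10, tU_11] <;> ring
  · rw [D.t0_mul, β_u, t0_u, t0_u, t0_u, t1_u, tU_00, tU_01]; ring
  · rw [D.t1_mul, β_u, t1_u, t1_u, t1_u, t0_u, tU_10, tU_11]; ring

theorem u_inj {a b c a' b' c' : ZMod p} (h : D.u a b c = D.u a' b' c') : a = a' ∧ b = b' ∧ c = c' := by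
  refine ⟨?_, ?_, ?_⟩
  · have := congrArg (fun x => D.β x 0 1) h
    simpa only [β_u, tU_01] using this
  · have := congrArg D.t1 h
    simpa only [t1_u] using this
  · have := congrArg D.t0 h
    simpa only [t0_u] using this

theorem u_zero : D.u 0 0 0 = 1 := by
  have h := D.u_mul 0 0 0 0 0 0
  simp only [add_zero, mul_zero] at h
  exact mul_eq_left.mp h

theorem u_inv (a b c : ZMod p) : (D.u a b c)⁻¹ = D.u (-a) (-b) (a * b - c) := by
  apply inv_eq_of_mul_eq_one_right
  rw [u_mul, ← D.u_zero]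
  congr 1 <;> ring

theorem u_pow (b c : ZMod p) (n : ℕ) : D.u 0 b c ^ n = D.u 0 (n * b) (n * c) := by
  induction n with
  | zero => simp [u_zero]
  | succ n ih =>
    rw [pow_succ, ih, u_mul]
    congr 1 <;> push_cast <;> ring

theorem mem_ker_iff {x : X} : x ∈ D.β.ker ↔ ∃ b c, x = D.u 0 b c := by
  constructor
  · intro hx
    have h1 : D.β x = 1 := hx
    have hxU : x ∈ D.U := by
      show D.β x ∈ slU
      rw [h1]; exact Subgroup.one_mem _
    refine ⟨D.t1 x, D.t0 x, ?_⟩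
    have := D.eq_u hxU
    rw [h1] at this
    simpa using this
  · rintro ⟨b, c, rfl⟩
    show D.β _ = 1
    rw [β_u]
    simp

theorem ker_isPGroup : IsPGroup p D.β.ker := by
  intro x
  obtain ⟨b, c, hx⟩ := D.mem_ker_iff.mp x.2
  refine ⟨1, Subtype.ext ?_⟩
  show (x : X) ^ p ^ 1 = 1
  rw [pow_one, hx, u_pow, CharP.cast_eq_zero, zero_mul, zero_mul, u_zero]

theorem β_surjective : Function.Surjective D.β := fun A => by
  obtain ⟨x, h, _⟩ := D.surj A 0 0
  exact ⟨x, h⟩

theorem U_isPGroup : IsPGroup p D.U := by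
  have h1 : IsPGroup p (slU : Subgroup SL(2, ZMod p)) := by
    rw [← coe_sylSLU p]; exact (sylSLU p).2
  exact h1.comap_of_ker_isPGroup D.β D.ker_isPGroup

theorem U_index : ¬ p ∣ D.U.index := by
  show ¬ p ∣ ((slU : Subgroup SL(2, ZMod p)).comap D.β).index
  rw [Subgroup.index_comap_of_surjective _ D.β_surjective, ← coe_sylSLU p]
  exact (sylSLU p).not_dvd_index

/-- conjugation on the translation subgroup -/
theorem t1_conj (g z : X) (hz : D.β z = 1) :
    D.t1 (g * z * g⁻¹) = D.β g 1 0 * D.t0 z + D.β g 1 1 * D.t1 z := by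
  have hy : D.β (g * z * g⁻¹) = 1 := by rw [map_mul, map_mul, hz, mul_one, map_inv, mul_inv_cancel]
  have h1 := D.t1_mul (g * z * g⁻¹) g
  have h2 := D.t1_mul g z
  rw [hy] at h1
  have e : g * z * g⁻¹ * g = g * z := by group
  rw [e, h2] at h1
  have e10 : (1 : SL(2, ZMod p)) 1 0 = 0 := by simp
  have e11 : (1 : SL(2, ZMod p)) 1 1 = 1 := by simp
  rw [e10, e11] at h1
  linear_combination -h1

/-- the graph automorphism of the unitriangular group -/
noncomputable def swapHom : D.U →* D.U where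
  toFun x := ⟨D.u (D.t1 x) (D.β x 0 1) (D.β x 0 1 * D.t1 x - D.t0 x), D.u_mem _ _ _⟩
  map_one' := by
    apply Subtype.ext
    have h := D.u_zero
    have h0 : D.t0 1 = 0 := by rw [← h, t0_u]
    have h1 : D.t1 1 = 0 := by rw [← h, t1_u]
    show D.u (D.t1 1) (D.β 1 0 1) (D.β 1 0 1 * D.t1 1 - D.t0 1) = 1
    rw [h0, h1, map_one, ← h]
    simp
  map_mul' x y := by
    apply Subtype.ext
    have hx := D.eq_u x.2
    have hy := D.eq_u y.2
    set a := D.β x 0 1
    set b := D.t1 x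
    set c := D.t0 x
    set a' := D.β y 0 1
    set b' := D.t1 y
    set c' := D.t0 y
    have hxy : ((x * y : D.U) : X) = D.u (a + a') (b + b') (c + c' + a * b') := by
      rw [Subgroup.coe_mul, hx, hy, u_mul]
    show D.u (D.t1 ((x * y : D.U) : X)) (D.β ((x * y : D.U) : X) 0 1)
      (D.β ((x * y : D.U) : X) 0 1 * D.t1 ((x * y : D.U) : X) - D.t0 ((x * y : D.U) : X)) =
      D.u b a (a * b - c) * D.u b' a' (a' * b' - c')
    rw [hxy, t1_u, t0_u, β_u, tU_01, u_mul]
    congr 1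
    ring

theorem swapHom_u (a b c : ZMod p) :
    ((D.swapHom ⟨D.u a b c, D.u_mem a b c⟩ : D.U) : X) = D.u b a (a * b - c) := by
  show D.u (D.t1 (D.u a b c)) (D.β (D.u a b c) 0 1)
    (D.β (D.u a b c) 0 1 * D.t1 (D.u a b c) - D.t0 (D.u a b c)) = _
  rw [t1_u, t0_u, β_u, tU_01]

theorem swapHom_swapHom (x : D.U) : D.swapHom (D.swapHom x) = x := by
  apply Subtype.ext
  obtain ⟨x, hx⟩ := x
  have h := D.eq_u hx
  generalize D.β x 0 1 = a at h
  generalize D.t1 x = b at h
  generalize D.t0 x = c at h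
  subst h
  have e : D.swapHom ⟨D.u a b c, hx⟩ = ⟨D.u b a (a * b - c), D.u_mem _ _ _⟩ :=
    Subtype.ext (D.swapHom_u a b c)
  rw [e, swapHom_u]
  congr 1
  ring

noncomputable def swap : D.U ≃* D.U :=
  MonoidHom.toMulEquiv D.swapHom D.swapHom (MonoidHom.ext D.swapHom_swapHom)
    (MonoidHom.ext D.swapHom_swapHom)

theorem swap_u (a b c : ZMod p) :
    ((D.swap ⟨D.u a b c, D.u_mem a b c⟩ : D.U) : X) = D.u b a (a * b - c) := D.swapHom_u a b c

end AffData

end Cfsg.Agent.Lib.Helper13
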