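import Cfsg.Agent.Lib.Helper13.QdNeg

set_option autoImplicit false

namespace Cfsg.Agent.Lib.Helper13

open Matrix Matrix.SpecialLinearGroup Cfsg.Agent.Lib.Helper12
open scoped MatrixGroups

variable {p : ℕ} [hp : Fact p.Prime]

theorem sl3_mul_apply (M N : SL(3, ZMod p)) (i j : Fin 3) :
    (M * N) i j = M i 0 * N 0 j + M i 1 * N 1 j + M i 2 * N 2 j := by
  simp [Matrix.mul_apply, Fin.sum_univ_three]

theorem mem_qd_iff (M : SL(3, ZMod p)) :
    M ∈ Cfsg.qd p ↔ M 2 0 = 0 ∧ M 2 1 = 0 ∧ M 2 2 = 1 := by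
  constructor
  · intro h
    unfold Cfsg.qd at h
    induction h using Subgroup.closure_induction with
    | mem x hx => exact hx
    | one => simp
    | mul x y _ _ hx hy =>
      obtain ⟨x0, x1, x2⟩ := hx
      obtain ⟨y0, y1, y2⟩ := hy
      refine ⟨?_, ?_, ?_⟩ <;> rw [sl3_mul_apply, x0, x1, x2] <;> simp [y0, y1, y2]
    | inv x _ hx =>
      obtain ⟨x0, x1, x2⟩ := hx
      have h : ∀ j, (x⁻¹) 2 j = (1 : SL(3, ZMod p)) 2 j := by
        intro j
        rw [← mul_inv_cancel x, sl3_mul_apply, x0, x1, x2]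
        simp
      refine ⟨?_, ?_, ?_⟩ <;> rw [h] <;> simp
  · intro h
    exact Subgroup.subset_closure h

/-- entries -/
def en (x : ↥(Cfsg.qd p)) (i j : Fin 3) : ZMod p := (x : SL(3, ZMod p)) i j

theorem en_mul (x y : ↥(Cfsg.qd p)) (i j : Fin 3) :
    en (x * y) i j = en x i 0 * en y 0 j + en x i 1 * en y 1 j + en x i 2 * en y 2 j :=
  sl3_mul_apply _ _ _ _

theorem en_20 (x : ↥(Cfsg.qd p)) : en x 2 0 = 0 := ((mem_qd_iff x.1).mp x.2).1
theorem en_21 (x : ↥(Cfsg.qd p)) : en x 2 1 = 0 := ((mem_qd_iff x.1).mp x.2).2.1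
theorem en_22 (x : ↥(Cfsg.qd p)) : en x 2 2 = 1 := ((mem_qd_iff x.1).mp x.2).2.2

theorem en_det (x : ↥(Cfsg.qd p)) : en x 0 0 * en x 1 1 - en x 0 1 * en x 1 0 = 1 := by
  have h := x.1.det_coe
  rw [Matrix.det_fin_three] at h
  have x0 : (x.1 : Matrix (Fin 3) (Fin 3) (ZMod p)) 2 0 = 0 := en_20 x
  have x1 : (x.1 : Matrix (Fin 3) (Fin 3) (ZMod p)) 2 1 = 0 := en_21 x
  have x2 : (x.1 : Matrix (Fin 3) (Fin 3) (ZMod p)) 2 2 = 1 := en_22 x
  rw [x0, x1, x2] at h
  show (x.1 : Matrix (Fin 3) (Fin 3) (ZMod p)) 0 0 * (x.1 : Matrix (Fin 3) (Fin 3) (ZMod p)) 1 1 -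
    (x.1 : Matrix (Fin 3) (Fin 3) (ZMod p)) 0 1 * (x.1 : Matrix (Fin 3) (Fin 3) (ZMod p)) 1 0 = 1
  linear_combination h

theorem en_ext {x y : ↥(Cfsg.qd p)} (h : ∀ i j, en x i j = en y i j) : x = y := by
  apply Subtype.ext
  ext i j
  exact h i j

/-- the upper left block -/
def blk (x : ↥(Cfsg.qd p)) : SL(2, ZMod p) :=
  ⟨!![en x 0 0, en x 0 1; en x 1 0, en x 1 1], by
    rw [Matrix.det_fin_two_of]; exact en_det x⟩

theorem blk_00 (x : ↥(Cfsg.qd p)) : blk x 0 0 = en x 0 0 := rfl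
theorem blk_01 (x : ↥(Cfsg.qd p)) : blk x 0 1 = en x 0 1 := rfl
theorem blk_10 (x : ↥(Cfsg.qd p)) : blk x 1 0 = en x 1 0 := rfl
theorem blk_11 (x : ↥(Cfsg.qd p)) : blk x 1 1 = en x 1 1 := rfl

theorem blk_mul (x y : ↥(Cfsg.qd p)) : blk (x * y) = blk x * blk y := by
  apply sl2_ext
  · rw [sl2_mul_00, blk_00, blk_00, blk_00, blk_01, blk_10, en_mul, en_20]; ring
  · rw [sl2_mul_01, blk_01, blk_00, blk_01, blk_01, blk_11, en_mul, en_21]; ring
  · rw [sl2_mul_10, blk_10, blk_10, blk_00, blk_11, blk_10, en_mul, en_20]; ring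
  · rw [sl2_mul_11, blk_11, blk_10, blk_01, blk_11, blk_11, en_mul, en_21]; ring

theorem exists_qd (A : SL(2, ZMod p)) (c b : ZMod p) :
    ∃ x : ↥(Cfsg.qd p), blk x = A ∧ en x 0 2 = c ∧ en x 1 2 = b := by
  have hd := sl2_det A
  have hdet : (!![A 0 0, A 0 1, c; A 1 0, A 1 1, b; 0, 0, 1] :
      Matrix (Fin 3) (Fin 3) (ZMod p)).det = 1 := by
    rw [Matrix.det_fin_three]
    simp
    linear_combination hd
  have hM : (⟨!![A 0 0, A 0 1, c; A 1 0, A 1 1, b; 0, 0, 1], hdet⟩ : SL(3, ZMod p)) ∈ Cfsg.qd p :=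
    (mem_qd_iff _).mpr ⟨rfl, rfl, rfl⟩
  refine ⟨⟨_, hM⟩, ?_, rfl, rfl⟩
  apply sl2_ext <;> rfl

/-- the affine coordinates of `Qd(p)` -/
noncomputable def qdData (p : ℕ) [Fact p.Prime] : AffData p ↥(Cfsg.qd p) where
  β := MonoidHom.mk' blk blk_mul
  t0 := fun x => en x 0 2
  t1 := fun x => en x 1 2
  t0_mul := fun x y => by
    show en (x * y) 0 2 = blk x 0 0 * en y 0 2 + blk x 0 1 * en y 1 2 + en x 0 2
    rw [en_mul, en_22, blk_00, blk_01]; ring
  t1_mul := fun x y => by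
    show en (x * y) 1 2 = blk x 1 0 * en y 0 2 + blk x 1 1 * en y 1 2 + en x 1 2
    rw [en_mul, en_22, blk_10, blk_11]; ring
  ext := fun x y h1 h2 h3 => by
    have h1' : blk x = blk y := h1
    have e00 : en x 0 0 = en y 0 0 := by rw [← blk_00, ← blk_00, h1']
    have e01 : en x 0 1 = en y 0 1 := by rw [← blk_01, ← blk_01, h1']
    have e10 : en x 1 0 = en y 1 0 := by rw [← blk_10, ← blk_10, h1']
    have e11 : en x 1 1 = en y 1 1 := by rw [← blk_11, ← blk_11, h1']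
    apply en_ext
    intro i j
    fin_cases i <;> fin_cases j
    · exact e00
    · exact e01
    · exact h2
    · exact e10
    · exact e11
    · exact h3
    · exact (en_20 x).trans (en_20 y).symm
    · exact (en_21 x).trans (en_21 y).symm
    · exact (en_22 x).trans (en_22 y).symm
  surj := exists_qd

/-- In a group isomorphic to `Qd(p)`, no nontrivial characteristic subgroup of a Sylow
`p`-subgroup controls strong fusion. -/
theorem qd_not_controls {X : Type*} [Group X] (e : X ≃* ↥(Cfsg.qd p)) (T : Sylow p X)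
    {C : Subgroup X} (hCT : C ≤ (T : Subgroup X))
    (hchar : ∀ φ : (T : Subgroup X) ≃* (T : Subgroup X), ∀ x : (T : Subgroup X),
      (x : X) ∈ C → ((φ x : (T : Subgroup X)) : X) ∈ C) (hne : C ≠ ⊥) :
    ¬ Cfsg.ControlsStrongFusion p C := by
  have : Finite X := Finite.of_equiv _ e.symm.toEquiv
  exact AffData.not_controls ((qdData p).comp e) T T.2 T.not_dvd_index hCT hchar hne

/-- the same, for a characteristic subgroup of the group `↥T` -/
theorem qd_not_controls' {X : Type*} [Group X] (e : X ≃* ↥(Cfsg.qd p)) (T : Sylow p X)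
    (C : Subgroup (T : Subgroup X)) [hC : C.Characteristic] (hne : C ≠ ⊥) :
    ¬ Cfsg.ControlsStrongFusion p (C.map (T : Subgroup X).subtype) := by
  apply qd_not_controls e T (Subgroup.map_subtype_le C)
  · rintro φ x ⟨y, hy, hyx⟩
    have : y = x := Subtype.ext hyx
    subst this
    refine ⟨φ y, ?_, rfl⟩
    have h1 := Subgroup.characteristic_iff_map_eq.mp hC φ
    rw [← h1]
    exact ⟨y, hy, rfl⟩
  · intro h
    apply hne
    rwa [Subgroup.map_eq_bot_iff_of_injective _ (Subgroup.subtype_injective _)] at h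

end Cfsg.Agent.Lib.Helper13
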