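import Cfsg.Agent.Lib.Helper13.QdData
import Cfsg.Agent.Lib.Helper13.KInfApps
import Cfsg.Agent.S1987

set_option autoImplicit false

namespace Cfsg.Agent.Lib.Helper13

universe u

variable {p : ℕ} [hp : Fact p.Prime]

theorem qd_sylow_nontrivial {X : Type*} [Group X] (e : X ≃* ↥(Cfsg.qd p)) (T : Sylow p X) :
    Nontrivial (T : Subgroup X) := by
  have : Finite X := Finite.of_equiv _ e.symm.toEquiv
  set D := (qdData p).comp e
  have hVT : D.β.ker ≤ (T : Subgroup X) := D.ker_isPGroup.le_sylow_of_normal T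
  have hz : D.u 0 0 1 ∈ D.β.ker := D.mem_ker_iff.mpr ⟨0, 1, rfl⟩
  refine ⟨⟨⟨D.u 0 0 1, hVT hz⟩, 1, fun h => ?_⟩⟩
  have h1 : D.u 0 0 1 = 1 := congrArg Subtype.val h
  rw [← D.u_zero] at h1
  exact one_ne_zero (D.u_inj h1).2.2

/-- involvement passes from a section to the group -/
theorem involves_of_section {H : Type*} [Group H] {G : Type u} [Group G] (K R : Subgroup G)
    [hR : (R.subgroupOf K).Normal] (h : Cfsg.Involves H (↥K ⧸ R.subgroupOf K)) :
    Cfsg.Involves H G := by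
  obtain ⟨K', R', hR', ⟨e⟩⟩ := h
  have h1 : Sec G (↥K' ⧸ R'.subgroupOf K') := (Sec.mk K R).trans (Sec.mk K' R')
  obtain ⟨K'', R'', hR'', ⟨e'⟩⟩ := h1.exists_equiv
  exact ⟨K'', R'', hR'', ⟨e'.trans e⟩⟩

/-- the characterization of `Qd(p)`-free groups by `K_∞`, given that `Qd(p)`-free groups have
`p`-stable sections -/
theorem qd_free_iff_kInfLower {G : Type u} [Group G] [Finite G] (hp2 : p ≠ 2)
    (hfw : ∀ (X : Type u) [Group X] [Finite X], ¬ Cfsg.Involves ↥(Cfsg.qd p) X →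
      ∀ (K R : Subgroup X) [hR : (R.subgroupOf K).Normal],
        Cfsg.IsNormalizerPStable p (↥K ⧸ R.subgroupOf K)) :
    ¬ Cfsg.Involves ↥(Cfsg.qd p) G ↔ ∀ (K R : Subgroup G) [hR : (R.subgroupOf K).Normal],
      ∀ T : Sylow p (↥K ⧸ R.subgroupOf K), Cfsg.ControlsStrongFusion p
        (Cfsg.inducedFunctor (G := (↥K ⧸ R.subgroupOf K)) Cfsg.kInfLower
          (T : Subgroup (↥K ⧸ R.subgroupOf K))) := by
  constructor
  · intro h K R hR T
    exact Cfsg.Agent.S1987.result hp2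
      (hfw (↥K ⧸ R.subgroupOf K) (fun h' => h (involves_of_section K R h'))) T
  · rintro h ⟨K, R, hR, ⟨e⟩⟩
    obtain ⟨T⟩ : Nonempty (Sylow p (↥K ⧸ R.subgroupOf K)) := inferInstance
    have hnt := qd_sylow_nontrivial e T
    have hchar : (Cfsg.kInfLower ↥(T : Subgroup (↥K ⧸ R.subgroupOf K))).Characteristic :=
      Subgroup.characteristic_iff_map_eq.mpr (fun φ => (kInf_map_equiv φ).1)
    exact qd_not_controls' e T (Cfsg.kInfLower ↥(T : Subgroup (↥K ⧸ R.subgroupOf K)))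
      ((kInfLower_isChar p).1 _ T.2 hnt) (h K R T)

end Cfsg.Agent.Lib.Helper13
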