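import Cfsg.Agent.Lib.Helper5.QD11

set_option autoImplicit false

namespace Cfsg.Agent.Lib.Helper13

open Cfsg Cfsg.Agent.Lib.Helper5

universe u

variable {p : ℕ} [hp : Fact p.Prime]

local notation "SL2" => Matrix.SpecialLinearGroup (Fin 2)

/-- a Sylow subgroup of a `p`-group is everything -/
theorem sylow_eq_top_of_isPGroup {Y : Type*} [Group Y] [Finite Y] (hY : IsPGroup p Y)
    (R : Sylow p Y) : (R : Subgroup Y) = ⊤ := by
  have h1 : IsPGroup p (⊤ : Subgroup Y) := hY.to_subgroup _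
  obtain ⟨Q, hQ⟩ := h1.exists_le_sylow
  have hQ' : (Q : Subgroup Y) = ⊤ := top_le_iff.mp hQ
  apply Subgroup.eq_top_of_card_eq
  rw [Sylow.card_eq_multiplicity R, ← Sylow.card_eq_multiplicity Q, hQ', Subgroup.card_top]

/-- Frattini reduction: a normal `p`-subgroup of a quotient is covered by a `p`-subgroup whose
normalizer covers the quotient. -/
theorem frattini_cover {K Y : Type*} [Group K] [Finite K] [Group Y] (f : K →* Y)
    (hf : Function.Surjective f) (M : Subgroup Y) [hM : M.Normal] (hMp : IsPGroup p M) :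
    ∃ D : Subgroup K, IsPGroup p D ∧ D.map f = M ∧
      ∀ y : Y, ∃ k ∈ Subgroup.normalizer (D : Set K), f k = y := by
  have : Finite Y := Finite.of_surjective f hf
  set V : Subgroup K := M.comap f with hV
  have hVn : V.Normal := hM.comap f
  obtain ⟨R⟩ : Nonempty (Sylow p V) := inferInstance
  set D : Subgroup K := (R : Subgroup V).map V.subtype with hD
  have hDV : D ≤ V := Subgroup.map_subtype_le _
  have hfD : D.map f = M := by
    have hs : Function.Surjective (f.subgroupComap M) :=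
      f.subgroupComap_surjective_of_surjective M hf
    have h1 := sylow_eq_top_of_isPGroup hMp (R.mapSurjective hs)
    rw [Sylow.coe_mapSurjective] at h1
    apply le_antisymm
    · rintro _ ⟨d, hd, rfl⟩
      exact hDV hd
    · intro m hm
      have h2 : (⟨m, hm⟩ : M) ∈ (R : Subgroup V).map (f.subgroupComap M) := by
        rw [h1]; exact Subgroup.mem_top _
      obtain ⟨v, hv, hvm⟩ := h2
      exact ⟨v, ⟨v, hv, rfl⟩, congrArg Subtype.val hvm⟩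
  refine ⟨D, R.2.map _, hfD, fun y => ?_⟩
  obtain ⟨k, rfl⟩ := hf y
  have h3 : k ∈ Subgroup.normalizer (D : Set K) ⊔ V := by
    rw [hD, Sylow.normalizer_sup_eq_top R]; exact Subgroup.mem_top _
  rw [Subgroup.mem_sup_of_normal_right] at h3
  obtain ⟨n, hn, v, hv, rfl⟩ := h3
  have h4 : f v ∈ D.map f := by rw [hfD]; exact hv
  obtain ⟨d, hd, hdv⟩ := h4
  exact ⟨n * d, mul_mem hn (Subgroup.le_normalizer hd), by rw [map_mul, map_mul, hdv]⟩

theorem mem_ker_qdB (q : qd p) : q ∈ (qdB p).ker ↔ ∃ v, q = qdMk (p := p) 1 v := by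
  rw [MonoidHom.mem_ker]
  constructor
  · intro h
    obtain ⟨A, v, rfl⟩ := qdMk_surj q
    rw [qdB_qdMk] at h
    exact ⟨v, by rw [h]⟩
  · rintro ⟨v, rfl⟩
    exact qdB_qdMk _ _

theorem ker_qdB_isPGroup : IsPGroup p (qdB p).ker := by
  rintro ⟨q, hq⟩
  obtain ⟨v, rfl⟩ := (mem_ker_qdB q).mp hq
  refine ⟨1, Subtype.ext ?_⟩
  show (qdMk (p := p) 1 v) ^ p ^ 1 = 1
  rw [pow_one, qdMk_one_pow, ← qdMk_one]
  congr 1
  ext i
  simp

theorem mem_ker_qdB_of_comm (q : qd p) (h : ∀ m ∈ (qdB p).ker, q * m = m * q) :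
    q ∈ (qdB p).ker := by
  obtain ⟨A, v, rfl⟩ := qdMk_surj q
  rw [MonoidHom.mem_ker, qdB_qdMk]
  have h1 : ∀ w : Fin 2 → ZMod p, A.1.mulVec w = w := by
    intro w
    have h2 := h (qdMk 1 w) ((mem_ker_qdB _).mpr ⟨w, rfl⟩)
    rw [qdMk_mul, qdMk_mul] at h2
    have h3 := (qdMk_inj h2).2
    rw [Matrix.SpecialLinearGroup.coe_one, Matrix.one_mulVec, add_comm v w] at h3
    exact add_right_cancel h3
  apply Subtype.ext
  rw [Matrix.SpecialLinearGroup.coe_one]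
  apply Matrix.ext_of_mulVec_single
  intro i
  rw [h1, Matrix.one_mulVec]

/-- the subgroup of elements of `G` acting on `D₀ ≤ K₀` like an element of `N_{K₀}(D₀)` -/
def actSub {G : Type*} [Group G] (K₀ : Subgroup G) (D₀ : Subgroup K₀) : Subgroup G where
  carrier := {g | ∃ k ∈ Subgroup.normalizer (D₀ : Set K₀), ∀ d ∈ D₀,
    g * ((d : K₀) : G) * g⁻¹ = (k : G) * d * (k : G)⁻¹}
  one_mem' := ⟨1, one_mem _, fun d _ => by simp⟩
  mul_mem' := by
    rintro g₁ g₂ ⟨k₁, hk₁, h₁⟩ ⟨k₂, hk₂, h₂⟩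
    refine ⟨k₁ * k₂, mul_mem hk₁ hk₂, fun d hd => ?_⟩
    have hd' : k₂ * d * k₂⁻¹ ∈ D₀ := (Subgroup.mem_normalizer_iff.mp hk₂ d).mp hd
    have e := h₁ _ hd'
    calc g₁ * g₂ * (d : G) * (g₁ * g₂)⁻¹ = g₁ * (g₂ * (d : G) * g₂⁻¹) * g₁⁻¹ := by group
      _ = g₁ * ((k₂ * d * k₂⁻¹ : K₀) : G) * g₁⁻¹ := by rw [h₂ d hd]; rfl
      _ = (k₁ : G) * ((k₂ * d * k₂⁻¹ : K₀) : G) * (k₁ : G)⁻¹ := e
      _ = ((k₁ * k₂ : K₀) : G) * d * ((k₁ * k₂ : K₀) : G)⁻¹ := by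
        simp only [Subgroup.coe_mul, Subgroup.coe_inv]; group
  inv_mem' := by
    rintro g ⟨k, hk, h⟩
    refine ⟨k⁻¹, inv_mem hk, fun d hd => ?_⟩
    have hd' : k⁻¹ * d * k⁻¹⁻¹ ∈ D₀ := (Subgroup.mem_normalizer_iff.mp (inv_mem hk) d).mp hd
    have e := h _ hd'
    have e2 : (k : G) * ((k⁻¹ * d * k⁻¹⁻¹ : K₀) : G) * (k : G)⁻¹ = d := by
      simp only [Subgroup.coe_mul, Subgroup.coe_inv]; group
    rw [e2] at e
    calc g⁻¹ * (d : G) * g⁻¹⁻¹ = g⁻¹ * (g * ((k⁻¹ * d * k⁻¹⁻¹ : K₀) : G) * g⁻¹) * g := by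
          rw [e, inv_inv]
      _ = ((k⁻¹ * d * k⁻¹⁻¹ : K₀) : G) := by group
      _ = ((k⁻¹ : K₀) : G) * d * ((k⁻¹ : K₀) : G)⁻¹ := by
        simp only [Subgroup.coe_mul, Subgroup.coe_inv]

/-- a group involving `Qd(p)` has a `p`-subgroup whose automizer involves `SL₂(p)` -/
theorem sl2_section_of_inv_qd {G : Type*} [Group G] [Finite G] (h : Inv (qd p) G) :
    ∃ Q : Subgroup G, IsPGroup p Q ∧ ∃ (H K : Subgroup G) (_ : (K.subgroupOf H).Normal),
      Subgroup.centralizer (Q : Set G) ≤ K ∧ K ≤ H ∧ H ≤ Subgroup.normalizer (Q : Set G) ∧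
      Nonempty ((↥H ⧸ K.subgroupOf H) ≃* SL2 (ZMod p)) := by
  obtain ⟨K₀, f, hf⟩ := h
  obtain ⟨D₀, hD₀p, hD₀f, hcov⟩ := frattini_cover f hf (qdB p).ker ker_qdB_isPGroup
  set ρ : K₀ →* SL2 (ZMod p) := (qdB p).comp f with hρ
  set H := actSub K₀ D₀ with hH
  -- well-definedness
  have hwd : ∀ (g : G) (k k' : K₀), (∀ d ∈ D₀, g * ((d : K₀) : G) * g⁻¹ = (k : G) * d * (k : G)⁻¹) →
      (∀ d ∈ D₀, g * ((d : K₀) : G) * g⁻¹ = (k' : G) * d * (k' : G)⁻¹) → ρ k = ρ k' := by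
    intro g k k' h1 h2
    have h3 : f (k⁻¹ * k') ∈ (qdB p).ker := by
      apply mem_ker_qdB_of_comm
      intro m hm
      rw [← hD₀f] at hm
      obtain ⟨d, hd, rfl⟩ := hm
      rw [← map_mul, ← map_mul]
      congr 1
      apply Subtype.ext
      have e := (h1 d hd).symm.trans (h2 d hd)
      simp only [Subgroup.coe_mul, Subgroup.coe_inv]
      calc (k : G)⁻¹ * k' * d = (k : G)⁻¹ * ((k' : G) * d * (k' : G)⁻¹) * k' := by group
        _ = (k : G)⁻¹ * ((k : G) * d * (k : G)⁻¹) * k' := by rw [e]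
        _ = (d : G) * ((k : G)⁻¹ * k') := by group
    rw [MonoidHom.mem_ker] at h3
    have h4 : ρ (k⁻¹ * k') = 1 := h3
    rw [map_mul, map_inv, inv_mul_eq_one] at h4
    exact h4
  have hspec : ∀ g : H, ∃ k ∈ Subgroup.normalizer (D₀ : Set K₀), ∀ d ∈ D₀,
    (g : G) * ((d : K₀) : G) * (g : G)⁻¹ = (k : G) * d * (k : G)⁻¹ := fun g => g.2
  choose κ hκN hκ using hspec
  have hΦeq : ∀ (g : H) (k : K₀), (∀ d ∈ D₀,
      (g : G) * ((d : K₀) : G) * (g : G)⁻¹ = (k : G) * d * (k : G)⁻¹) → ρ (κ g) = ρ k :=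
    fun g k hk => hwd g _ _ (hκ g) hk
  let Φ : H →* SL2 (ZMod p) := MonoidHom.mk' (fun g => ρ (κ g)) (by
    intro a b
    rw [← map_mul]
    apply hΦeq
    intro d hd
    have hd' : κ b * d * (κ b)⁻¹ ∈ D₀ := (Subgroup.mem_normalizer_iff.mp (hκN b) d).mp hd
    have e := hκ a _ hd'
    calc ((a * b : H) : G) * (d : G) * ((a * b : H) : G)⁻¹
        = (a : G) * ((b : G) * (d : G) * (b : G)⁻¹) * (a : G)⁻¹ := by
          simp only [Subgroup.coe_mul]; group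
      _ = (a : G) * ((κ b * d * (κ b)⁻¹ : K₀) : G) * (a : G)⁻¹ := by rw [hκ b d hd]; rfl
      _ = (κ a : G) * ((κ b * d * (κ b)⁻¹ : K₀) : G) * (κ a : G)⁻¹ := e
      _ = ((κ a * κ b : K₀) : G) * d * ((κ a * κ b : K₀) : G)⁻¹ := by
        simp only [Subgroup.coe_mul, Subgroup.coe_inv]; group)
  have hΦ : ∀ g : H, Φ g = ρ (κ g) := fun g => rfl
  have hΦs : Function.Surjective Φ := by
    intro A
    obtain ⟨k, hk, hkA⟩ := hcov (qdMk A 0)
    refine ⟨⟨(k : G), k, hk, fun d _ => rfl⟩, ?_⟩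
    rw [hΦ, hΦeq _ k (fun d _ => rfl), hρ, MonoidHom.comp_apply, hkA, qdB_qdMk]
  set K : Subgroup G := Φ.ker.map H.subtype with hK
  have hKH : K.subgroupOf H = Φ.ker := by
    rw [hK]
    exact Subgroup.comap_map_eq_self_of_injective H.subtype_injective _
  have hKn : (K.subgroupOf H).Normal := by rw [hKH]; infer_instance
  refine ⟨D₀.map K₀.subtype, hD₀p.map _, H, K, hKn, ?_, Subgroup.map_subtype_le _, ?_, ?_⟩
  · intro c hc
    have hc' : ∀ d ∈ D₀, c * ((d : K₀) : G) * c⁻¹ = ((1 : K₀) : G) * d * ((1 : K₀) : G)⁻¹ := by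
      intro d hd
      have := Subgroup.mem_centralizer_iff.mp hc (d : G) ⟨d, hd, rfl⟩
      rw [← this]; simp
    refine ⟨⟨c, 1, one_mem _, hc'⟩, ?_, rfl⟩
    show Φ _ = 1
    rw [hΦ, hΦeq _ 1 hc', map_one]
  · have hsub : ∀ g ∈ H, ∀ x ∈ D₀.map K₀.subtype, g * x * g⁻¹ ∈ D₀.map K₀.subtype := by
      rintro g ⟨k, hk, hgk⟩ _ ⟨d, hd, rfl⟩
      refine ⟨k * d * k⁻¹, (Subgroup.mem_normalizer_iff.mp hk d).mp hd, ?_⟩
      exact (hgk d hd).symm
    intro g hg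
    rw [Subgroup.mem_normalizer_iff]
    intro x
    refine ⟨hsub g hg x, fun hx => ?_⟩
    have := hsub g⁻¹ (inv_mem hg) _ hx
    have e : g⁻¹ * (g * x * g⁻¹) * g⁻¹⁻¹ = x := by group
    rwa [e] at this
  · exact ⟨(QuotientGroup.quotientMulEquivOfEq hKH).trans
      (QuotientGroup.quotientKerEquivOfSurjective Φ hΦs)⟩

end Cfsg.Agent.Lib.Helper13
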