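import Cfsg.Agent.Lib.Helper13.QdAff

set_option autoImplicit false

namespace Cfsg.Agent.Lib.Helper13

open Matrix Matrix.SpecialLinearGroup Cfsg.Agent.Lib.Helper12
open scoped MatrixGroups

namespace AffData

variable {p : ℕ} [hp : Fact p.Prime] {X : Type*} [Group X] (D : AffData p X)

theorem exists_nat_mul {b : ZMod p} (hb : b ≠ 0) (d : ZMod p) : ∃ n : ℕ, (n : ZMod p) * b = d := by
  refine ⟨(d / b).val, ?_⟩
  rw [ZMod.natCast_zmod_val]
  field_simp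

/-- a nontrivial normal subgroup of `U` contains the centre -/
theorem center_le {C : Subgroup X} (hCU : C ≤ D.U)
    (hn : ∀ y ∈ D.U, ∀ x ∈ C, y * x * y⁻¹ ∈ C) (hne : C ≠ ⊥) (d : ZMod p) : D.u 0 0 d ∈ C := by
  obtain ⟨x, hx, hx1⟩ : ∃ x : X, x ∈ C ∧ x ≠ 1 := by
    obtain ⟨x, h⟩ := Subgroup.ne_bot_iff_exists_ne_one.mp hne
    exact ⟨x.1, x.2, fun h' => h (Subtype.ext h')⟩
  have h := D.eq_u (hCU hx)
  generalize D.β x 0 1 = a at h
  generalize D.t1 x = b at h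
  generalize D.t0 x = c at h
  subst h
  have key : ∀ a' b' : ZMod p, D.u 0 0 (a' * b - a * b') ∈ C := by
    intro a' b'
    have h1 := C.mul_mem (hn _ (D.u_mem a' b' 0) _ hx) (C.inv_mem hx)
    rw [u_inv, u_inv, u_mul, u_mul, u_mul] at h1
    convert h1 using 2 <;> ring
  by_cases ha : a = 0
  · by_cases hb : b = 0
    · subst ha hb
      have hc : c ≠ 0 := by
        rintro rfl
        exact hx1 D.u_zero
      obtain ⟨n, hn'⟩ := exists_nat_mul hc d
      have := C.pow_mem hx n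
      rwa [u_pow, mul_zero, hn'] at this
    · have := key (d / b) 0
      convert this using 2
      field_simp
      ring
  · have := key 0 (-d / a)
    convert this using 2
    field_simp
    ring

/-- the normalizer of a nontrivial characteristic subgroup of `U` normalizes the centre of `U` -/
theorem t1_conj_eq_zero {C : Subgroup X} (hCU : C ≤ D.U)
    (hchar : ∀ φ : D.U ≃* D.U, ∀ x : D.U, (x : X) ∈ C → ((φ x : D.U) : X) ∈ C) (hne : C ≠ ⊥)
    (n : X) (hnC : n ∈ Subgroup.normalizer (C : Set X)) (c : ZMod p) :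
    D.t1 (n * D.u 0 0 c * n⁻¹) = 0 := by
  have hn : ∀ y ∈ D.U, ∀ x ∈ C, y * x * y⁻¹ ∈ C := by
    intro y hy x hx
    exact hchar (MulAut.conj (⟨y, hy⟩ : D.U)) ⟨x, hCU hx⟩ hx
  have hZ := D.center_le hCU hn hne
  by_contra hb
  have hyC : n * D.u 0 0 c * n⁻¹ ∈ C := (Subgroup.mem_normalizer_iff.mp hnC _).mp (hZ c)
  have hyK : n * D.u 0 0 c * n⁻¹ ∈ D.β.ker := by
    show D.β _ = 1
    rw [map_mul, map_mul, β_u, map_inv]
    simp
  obtain ⟨b, c', hy⟩ := D.mem_ker_iff.mp hyK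
  rw [hy, t1_u] at hb
  rw [hy] at hyC
  -- `V ≤ C`
  have hV : ∀ b' c'' : ZMod p, D.u 0 b' c'' ∈ C := by
    intro b' c''
    obtain ⟨k, hk⟩ := exists_nat_mul hb b'
    have h1 := C.mul_mem (C.pow_mem hyC k) (hZ (c'' - k * c'))
    rw [u_pow, u_mul, hk] at h1
    convert h1 using 2 <;> ring
  -- `U ≤ C`
  have hU : D.U ≤ C := by
    intro x hx
    rw [D.eq_u hx]
    generalize D.β x 0 1 = a
    generalize D.t1 x = b₁
    generalize D.t0 x = c₁
    have h1 := hchar D.swap ⟨D.u 0 a 0, D.u_mem _ _ _⟩ (hV a 0)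
    rw [swap_u] at h1
    have h2 := C.mul_mem h1 (hV b₁ (c₁ - a * b₁))
    rw [u_mul] at h2
    convert h2 using 2 <;> ring
  have hCeq : C = D.U := le_antisymm hCU hU
  -- `n⁻¹ s n ∈ U`
  have hs : n⁻¹ * D.u 1 0 0 * n ∈ D.U := by
    rw [← hCeq]
    have := (Subgroup.mem_normalizer_iff.mp (Subgroup.inv_mem _ hnC) (D.u 1 0 0)).mp (hU (D.u_mem 1 0 0))
    simpa using this
  have h := D.eq_u hs
  generalize D.β (n⁻¹ * D.u 1 0 0 * n) 0 1 = a₂ at h
  generalize D.t1 (n⁻¹ * D.u 1 0 0 * n) = b₂ at h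
  generalize D.t0 (n⁻¹ * D.u 1 0 0 * n) = c₂ at h
  have hcomm : D.u 0 0 c * (n⁻¹ * D.u 1 0 0 * n) = (n⁻¹ * D.u 1 0 0 * n) * D.u 0 0 c := by
    rw [h, u_mul, u_mul]
    congr 1 <;> ring
  have hcomm2 : (n * D.u 0 0 c * n⁻¹) * D.u 1 0 0 = D.u 1 0 0 * (n * D.u 0 0 c * n⁻¹) := by
    calc (n * D.u 0 0 c * n⁻¹) * D.u 1 0 0 = n * (D.u 0 0 c * (n⁻¹ * D.u 1 0 0 * n)) * n⁻¹ := by group
      _ = n * ((n⁻¹ * D.u 1 0 0 * n) * D.u 0 0 c) * n⁻¹ := by rw [hcomm]
      _ = D.u 1 0 0 * (n * D.u 0 0 c * n⁻¹) := by group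
  rw [hy, u_mul, u_mul] at hcomm2
  have := (D.u_inj hcomm2).2.2
  apply hb
  linear_combination -this

/-- no nontrivial characteristic subgroup of `U` controls strong fusion -/
theorem not_controls_U [Finite X] {C : Subgroup X} (hCU : C ≤ D.U)
    (hchar : ∀ φ : D.U ≃* D.U, ∀ x : D.U, (x : X) ∈ C → ((φ x : D.U) : X) ∈ C) (hne : C ≠ ⊥) :
    ¬ Cfsg.ControlsStrongFusion p C := by
  rintro ⟨T', -, hT'⟩
  have hVT : D.β.ker ≤ (T' : Subgroup X) := D.ker_isPGroup.le_sylow_of_normal T'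
  obtain ⟨g, hg, -, -⟩ := D.surj (tL 1) 0 0
  have hz : D.u 0 0 1 ∈ D.β.ker := D.mem_ker_iff.mpr ⟨0, 1, rfl⟩
  obtain ⟨-, h2⟩ := hT' {D.u 0 0 1} (by
    rintro _ rfl
    exact hVT hz)
  obtain ⟨x, hx, hxe⟩ := h2 g (by
    rintro _ ⟨_, rfl, rfl⟩
    exact hVT ((inferInstance : D.β.ker.Normal).conj_mem _ hz g))
  have h3 := hxe _ rfl
  have h4 := D.t1_conj g (D.u 0 0 1) hz
  rw [h3, D.t1_conj_eq_zero hCU hchar hne x hx 1, hg, t0_u, t1_u, tL_10, tL_11] at h4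
  simp at h4

/-- no nontrivial characteristic subgroup of a Sylow `p`-subgroup controls strong fusion -/
theorem not_controls [Finite X] (D : AffData p X) (T : Subgroup X) (hT : IsPGroup p T) (hTi : ¬ p ∣ T.index)
    {C : Subgroup X} (hCT : C ≤ T)
    (hchar : ∀ φ : T ≃* T, ∀ x : T, (x : X) ∈ C → ((φ x : T) : X) ∈ C) (hne : C ≠ ⊥) :
    ¬ Cfsg.ControlsStrongFusion p C := by
  obtain ⟨g, hg⟩ := MulAction.exists_smul_eq X (D.U_isPGroup.toSylow D.U_index) (hT.toSylow hTi)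
  have hTU : T = (D.comp (MulAut.conj g⁻¹)).U := by
    have h1 : ((g • (D.U_isPGroup.toSylow D.U_index) : Sylow p X) : Subgroup X) = T := by
      rw [hg]; rfl
    rw [← h1]
    ext x
    have h2 : ((g • (D.U_isPGroup.toSylow D.U_index) : Sylow p X) : Subgroup X) =
        D.U.map (MulAut.conj g).toMonoidHom := rfl
    rw [h2]
    constructor
    · rintro ⟨y, hy, rfl⟩
      show D.β (MulAut.conj g⁻¹ (MulAut.conj g y)) ∈ slU
      have : MulAut.conj g⁻¹ (MulAut.conj g y) = y := by simp [MulAut.conj_apply, mul_assoc]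
      rw [this]; exact hy
    · intro hx
      refine ⟨MulAut.conj g⁻¹ x, hx, ?_⟩
      simp [MulAut.conj_apply, mul_assoc]
  subst hTU
  exact (D.comp (MulAut.conj g⁻¹)).not_controls_U hCT hchar hne

end AffData

end Cfsg.Agent.Lib.Helper13
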