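import Cfsg.Agent.Lib.Helper17.Hol

set_option autoImplicit false

namespace Cfsg.Agent.Lib.Helper13

open Cfsg Cfsg.Agent.Lib.Helper17

variable {G : Type*} [Group G]

theorem dvd_orderOf_map_of_ne_one {H : Type*} [Group H] (φ : G →* H) {q : ℕ} (hq : q.Prime) {a : G}
    (ha : ∃ k, orderOf a = q ^ k) (h1 : φ a ≠ 1) : q ∣ orderOf (φ a) := by
  obtain ⟨k, hk⟩ := ha
  have h2 : orderOf (φ a) ∣ q ^ k := by
    apply orderOf_dvd_of_pow_eq_one
    rw [← map_pow, ← hk, pow_orderOf_eq_one, map_one]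
  obtain ⟨j, -, hj⟩ := (Nat.dvd_prime_pow hq).mp h2
  rw [hj]
  have hj0 : j ≠ 0 := by
    rintro rfl
    rw [pow_zero, orderOf_eq_one_iff] at hj
    exact h1 hj
  exact dvd_pow_self q hj0

/-- `W ⋊ D` with `|W| = 4` and `D` inducing a `3`-element and a `2`-element on `W` involves `S₄`. -/
theorem involves_perm4_of_config' [Finite G] {W D : Subgroup G} (hW4 : Nat.card W = 4)
    (hDW : D ≤ Subgroup.normalizer (W : Set G)) (hWD : D ⊓ W = ⊥)
    {x a : G} (hx : x ∈ D) (ha : a ∈ D) (hx3 : ∃ k, orderOf x = 3 ^ k)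
    (ha2 : ∃ k, orderOf a = 2 ^ k)
    (hxW : x ∉ Subgroup.centralizer (W : Set G)) (haW : a ∉ Subgroup.centralizer (W : Set G)) :
    Involves (Equiv.Perm (Fin 4)) G := by
  set E := D ⊔ W with hE
  have hDE : D ≤ E := le_sup_left
  have hWE : W ≤ E := le_sup_right
  set D' := D.subgroupOf E with hD'
  set φ := MulAction.toPermHom E (E ⧸ D') with hφ
  have hcardE : Nat.card E = Nat.card D * 4 := by
    have := Cfsg.Agent.Lib.Helper5.card_sup_mul_card_inf D W hDW
    rw [hWD, Subgroup.card_bot, mul_one, hW4] at this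
    exact this
  have hidx : D'.index = 4 := by
    have h1 := Subgroup.card_mul_index D'
    rw [hcardE, hD', card_subgroupOf_of_le hDE] at h1
    exact Nat.eq_of_mul_eq_mul_left Nat.card_pos h1
  have hq4 : Nat.card (E ⧸ D') = 4 := by rw [← Subgroup.index_eq_card]; exact hidx
  have hker : φ.ker = D'.normalCore := (Subgroup.normalCore_eq_ker D').symm
  have hkerD : φ.ker ≤ D' := by rw [hker]; exact Subgroup.normalCore_le D'
  have hcen : ∀ n ∈ φ.ker, (n : G) ∈ Subgroup.centralizer (W : Set G) := by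
    intro n hn
    rw [Subgroup.mem_centralizer_iff]
    intro w hw
    have hnD : (n : G) ∈ D := Subgroup.mem_subgroupOf.mp (hkerD hn)
    have h1 : n * ((⟨w, hWE hw⟩ : E) * n⁻¹ * (⟨w, hWE hw⟩ : E)⁻¹) ∈ φ.ker :=
      φ.ker.mul_mem hn ((inferInstance : φ.ker.Normal).conj_mem _ (φ.ker.inv_mem hn) _)
    have h2 : (n : G) * (w * (n : G)⁻¹ * w⁻¹) ∈ D := Subgroup.mem_subgroupOf.mp (hkerD h1)
    have h3 : (n : G) * (w * (n : G)⁻¹ * w⁻¹) ∈ W := by
      have : (n : G) * (w * (n : G)⁻¹ * w⁻¹) = ((n : G) * w * (n : G)⁻¹) * w⁻¹ := by group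
      rw [this]
      exact W.mul_mem (conj_mem_of_le_normalizer hDW hnD hw) (W.inv_mem hw)
    have h4 : (n : G) * (w * (n : G)⁻¹ * w⁻¹) ∈ D ⊓ W := ⟨h2, h3⟩
    rw [hWD, Subgroup.mem_bot] at h4
    calc w * (n : G) = ((n : G) * (w * (n : G)⁻¹ * w⁻¹))⁻¹ * ((n : G) * w) := by group
      _ = (n : G) * w := by rw [h4, inv_one, one_mul]
  have hφx1 : φ ⟨x, hDE hx⟩ ≠ 1 := fun h => hxW (hcen _ (MonoidHom.mem_ker.mpr h))
  have hφa1 : φ ⟨a, hDE ha⟩ ≠ 1 := fun h => haW (hcen _ (MonoidHom.mem_ker.mpr h))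
  have hox : 3 ∣ orderOf (φ ⟨x, hDE hx⟩) := by
    apply dvd_orderOf_map_of_ne_one φ Nat.prime_three _ hφx1
    obtain ⟨k, hk⟩ := hx3
    exact ⟨k, by rw [← hk]; exact Subgroup.orderOf_mk x (hDE hx)⟩
  have hoa : 2 ∣ orderOf (φ ⟨a, hDE ha⟩) := by
    apply dvd_orderOf_map_of_ne_one φ Nat.prime_two _ hφa1
    obtain ⟨k, hk⟩ := ha2
    exact ⟨k, by rw [← hk]; exact Subgroup.orderOf_mk a (hDE ha)⟩
  have h3 : 3 ∣ Nat.card (D'.map φ) :=
    hox.trans (Subgroup.orderOf_dvd_natCard _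
      (Subgroup.mem_map_of_mem φ (Subgroup.mem_subgroupOf.mpr hx)))
  have h2 : 2 ∣ Nat.card (D'.map φ) :=
    hoa.trans (Subgroup.orderOf_dvd_natCard _
      (Subgroup.mem_map_of_mem φ (Subgroup.mem_subgroupOf.mpr ha)))
  have h6 : 6 ∣ Nat.card (D'.map φ) := by
    have : Nat.Coprime 2 3 := by decide
    exact this.mul_dvd_of_dvd_of_dvd h2 h3
  have hrange : Nat.card φ.range = Nat.card (D'.map φ) * 4 := by
    rw [← Subgroup.index_ker, ← Subgroup.relIndex_mul_index hkerD, Subgroup.relIndex_ker, hidx]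
  have hperm : Nat.card (Equiv.Perm (E ⧸ D')) = 24 := by
    rw [Nat.card_perm, hq4]; rfl
  have htop : φ.range = ⊤ := by
    apply Subgroup.eq_top_of_le_card
    rw [hperm, hrange]
    have := Nat.le_of_dvd Nat.card_pos h6
    omega
  have hsurj : Function.Surjective φ := MonoidHom.range_eq_top.mp htop
  obtain ⟨e⟩ : Nonempty ((E ⧸ D') ≃ Fin 4) := by
    have h := Finite.equivFin (E ⧸ D')
    rw [hq4] at h
    exact ⟨h⟩
  exact involves_of_surjective E (e.permCongrHom.toMonoidHom.comp φ)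
    (e.permCongrHom.surjective.comp hsurj)

theorem perm4_fix_unique : ∀ σ : Equiv.Perm (Fin 4), σ ^ 3 = 1 → σ ≠ 1 →
    ∀ i j, σ i = i → σ j = j → i = j := by decide

theorem perm4_even_fix : ∀ σ : Equiv.Perm (Fin 4), ∀ i, σ i = i → Equiv.Perm.sign σ = 1 →
    σ ^ 3 = 1 := by decide

theorem eq_one_of_pow_coprime {H : Type*} [Group H] {g : H} {m n : ℕ} (hmn : m.Coprime n)
    (hm : g ^ m = 1) (hn : g ^ n = 1) : g = 1 := by
  have h1 := orderOf_dvd_of_pow_eq_one hm
  have h2 := orderOf_dvd_of_pow_eq_one hn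
  have h3 : orderOf g = 1 := Nat.eq_one_of_dvd_coprimes hmn h1 h2
  exact orderOf_eq_one_iff.mp h3

/-- A normal four-subgroup on which an element of odd order and a `2`-element act nontrivially:
`S₄` is involved. -/
theorem involves_perm4_of_normal_four {L : Type*} [Group L] [Finite L] (U : Subgroup L) [U.Normal]
    (hU4 : Nat.card U = 4) {y a : L} (hy : Odd (orderOf y))
    (hyU : y ∉ Subgroup.centralizer (U : Set L)) (ha2 : ∃ k, orderOf a = 2 ^ k)
    (haU : a ∉ Subgroup.centralizer (U : Set L)) : Involves (Equiv.Perm (Fin 4)) L := by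
  classical
  obtain ⟨e⟩ : Nonempty (U ≃ Fin 4) := by
    have h := Finite.equivFin U
    rw [hU4] at h
    exact ⟨h⟩
  set τ : L →* Equiv.Perm (Fin 4) := e.permCongrHom.toMonoidHom.comp (conjPerm U) with hτ
  have hτ1 : ∀ g, τ g = 1 ↔ g ∈ Subgroup.centralizer (U : Set L) := by
    intro g
    rw [← conjPerm_eq_one_iff]
    show e.permCongrHom (conjPerm U g) = 1 ↔ _
    exact EmbeddingLike.map_eq_one_iff
  have hτa : ∀ (g : L) (u : U), τ g (e u) = e (conjPerm U g u) := by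
    intro g u
    show e.permCongrHom (conjPerm U g) (e u) = _
    simp [Equiv.permCongrHom, Equiv.permCongr_apply]
  have hτfix : ∀ g : L, τ g (e 1) = e 1 := by
    intro g
    rw [hτa]
    congr 1
    apply Subtype.ext
    rw [conjPerm_apply]
    simp
  -- `τ y` has order `3`
  have hy3 : (τ y) ^ 3 = 1 := by
    apply orderOf_dvd_iff_pow_eq_one.mp
    have h1 : orderOf (τ y) ∣ orderOf y := orderOf_map_dvd τ y
    have h2 : orderOf (τ y) ∣ 3 * 8 := by
      have := orderOf_dvd_natCard (τ y)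
      rwa [Nat.card_perm, Nat.card_fin] at this
    have h3 : (orderOf (τ y)).Coprime 8 := by
      have h4 : (orderOf y).Coprime 8 := by
        have : (orderOf y).Coprime (2 ^ 3) := Nat.Coprime.pow_right 3 hy.coprime_two_right
        simpa using this
      exact Nat.Coprime.coprime_dvd_left h1 h4
    exact h3.dvd_of_dvd_mul_right h2
  obtain ⟨j, m', hm', hm⟩ := Nat.exists_eq_pow_mul_and_not_dvd (orderOf_pos y).ne' 3 (by norm_num)
  set x := y ^ m' with hx
  have hx3 : ∃ k, orderOf x = 3 ^ k := by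
    have h1 : orderOf x ∣ 3 ^ j := by
      apply orderOf_dvd_of_pow_eq_one
      rw [hx, ← pow_mul, mul_comm, ← hm, pow_orderOf_eq_one]
    obtain ⟨i, -, hi⟩ := (Nat.dvd_prime_pow Nat.prime_three).mp h1
    exact ⟨i, hi⟩
  have hτx3 : (τ x) ^ 3 = 1 := by
    rw [hx, map_pow, ← pow_mul, mul_comm, pow_mul, hy3, one_pow]
  have hτx1 : τ x ≠ 1 := by
    intro h
    apply hyU
    rw [← hτ1]
    rw [hx, map_pow] at h
    exact eq_one_of_pow_coprime ((Nat.Prime.coprime_iff_not_dvd Nat.prime_three).mpr hm').symm h hy3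
  have hxU : x ∉ Subgroup.centralizer (U : Set L) := fun h => hτx1 ((hτ1 x).mpr h)
  haveI : Fact (Nat.Prime 3) := ⟨Nat.prime_three⟩
  obtain ⟨P, hP⟩ := IsPGroup.exists_le_sylow (isPGroup_zpowers_of_orderOf hx3)
  have hxP : x ∈ (P : Subgroup L) := hP (Subgroup.mem_zpowers x)
  set D := Subgroup.normalizer ((P : Subgroup L) : Set L) with hD
  have hPU : (P : Subgroup L) ⊓ U = ⊥ := by
    apply Subgroup.inf_eq_bot_of_coprime
    obtain ⟨n, hn⟩ := IsPGroup.iff_card.mp P.2
    rw [hn, hU4]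
    exact Nat.Coprime.pow_left n (by decide)
  have hDU : D ⊓ U = ⊥ := by
    rw [eq_bot_iff]
    rintro u ⟨huD, huU⟩
    have h1 : u * x * u⁻¹ * x⁻¹ ∈ (P : Subgroup L) ⊓ U := by
      refine ⟨?_, ?_⟩
      · exact (P : Subgroup L).mul_mem ((Subgroup.mem_normalizer_iff.mp huD x).mp hxP)
          ((P : Subgroup L).inv_mem hxP)
      · have e1 : u * x * u⁻¹ * x⁻¹ = u * (x * u⁻¹ * x⁻¹) := by group
        rw [e1]
        exact U.mul_mem huU ((inferInstance : U.Normal).conj_mem _ (U.inv_mem huU) x)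
    rw [hPU, Subgroup.mem_bot] at h1
    have h2 : x * u * x⁻¹ = u := by
      calc x * u * x⁻¹ = (u * x * u⁻¹ * x⁻¹)⁻¹ * u := by group
        _ = u := by rw [h1]; simp
    have h3 : τ x (e ⟨u, huU⟩) = e ⟨u, huU⟩ := by
      rw [hτa]
      congr 1
      apply Subtype.ext
      rw [conjPerm_apply]
      exact h2
    have h4 := perm4_fix_unique (τ x) hτx3 hτx1 _ _ h3 (hτfix x)
    have h5 := e.injective h4
    exact congrArg Subtype.val h5
  -- the sign homomorphism
  set s : L →* ℤˣ := Equiv.Perm.sign.comp τ with hs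
  have hPs : (P : Subgroup L) ≤ s.ker := by
    intro z hz
    rw [MonoidHom.mem_ker]
    obtain ⟨k, hk⟩ := P.2 ⟨z, hz⟩
    have hk' : z ^ 3 ^ k = 1 := congrArg Subtype.val hk
    rcases Int.units_eq_one_or (s z) with h | h
    · exact h
    · exfalso
      have h1 : (s z) ^ 3 ^ k = 1 := by rw [← map_pow, hk', map_one]
      rw [h, Odd.neg_one_pow (Odd.pow (by decide))] at h1
      exact absurd h1 (by decide)
  have has : a ∉ s.ker := by
    intro h
    rw [MonoidHom.mem_ker] at h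
    have h1 := perm4_even_fix (τ a) _ (hτfix a) h
    obtain ⟨k, hk⟩ := ha2
    have h2 : (τ a) ^ 2 ^ k = 1 := by rw [← map_pow, ← hk, pow_orderOf_eq_one, map_one]
    exact haU ((hτ1 a).mp (eq_one_of_pow_coprime (Nat.Coprime.pow_left k (by decide)) h2 h1))
  have hfr := Sylow.normalizer_sup_eq_top (P.subtype hPs)
  rw [Sylow.coe_subtype, Subgroup.map_subgroupOf_eq_of_le hPs] at hfr
  obtain ⟨d, hdD, hds⟩ : ∃ d ∈ D, d ∉ s.ker := by
    by_contra hcon
    push Not at hcon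
    have h1 : D ≤ s.ker := hcon
    rw [sup_eq_right.mpr h1] at hfr
    exact has (hfr ▸ Subgroup.mem_top a)
  have hsd : s d = -1 := by
    rcases Int.units_eq_one_or (s d) with h | h
    · exact absurd (MonoidHom.mem_ker.mpr h) hds
    · exact h
  obtain ⟨k, m, hmo, hkm⟩ := Nat.exists_eq_two_pow_mul_odd (orderOf_pos d).ne'
  set t := d ^ m with ht
  have htD : t ∈ D := pow_mem hdD m
  have ht2 : ∃ k, orderOf t = 2 ^ k := by
    have h1 : orderOf t ∣ 2 ^ k := by
      apply orderOf_dvd_of_pow_eq_one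
      rw [ht, ← pow_mul, mul_comm, ← hkm, pow_orderOf_eq_one]
    obtain ⟨i, -, hi⟩ := (Nat.dvd_prime_pow Nat.prime_two).mp h1
    exact ⟨i, hi⟩
  have htU : t ∉ Subgroup.centralizer (U : Set L) := by
    intro h
    have h1 : s t = 1 := by
      show Equiv.Perm.sign (τ t) = 1
      rw [(hτ1 t).mpr h, map_one]
    rw [ht, map_pow, hsd, hmo.neg_one_pow] at h1
    exact absurd h1 (by decide)
  exact involves_perm4_of_config' hU4
    (by rw [Subgroup.normalizer_eq_top_iff.mpr inferInstance]; exact le_top) hDU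
    (Subgroup.le_normalizer hxP) htD hx3 ht2 hxU htU

end Cfsg.Agent.Lib.Helper13
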