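import Mathlib
import Cfsg.Agent.Lib.Helper17.Core
import Cfsg.Agent.Lib.Helper15.Gaschutz

set_option autoImplicit false

open scoped commutatorElement

namespace Cfsg.Agent.Lib.Helper13

open Cfsg Cfsg.Agent.Lib.Helper17

section tate

variable {G : Type*} [Group G] [Finite G] {p : ℕ} [hp : Fact p.Prime]

/-- the lifting step in the proof of Tate's theorem, by Gaschütz's theorem applied to a pull-back -/
theorem tate_lift (M : Subgroup G) [M.Normal]
    (hM : M ≤ Subgroup.closure {g : G | g ∈ M ∧ (orderOf g).Coprime p})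
    (H : Subgroup G) (hH : ¬ p ∣ H.index) (L₁ : Subgroup H) [L₁.Normal]
    (hR : pResidual p H ≤ L₁) (hL₁ : L₁ ≤ M.subgroupOf H)
    (hcent : ⁅M.subgroupOf H, (⊤ : Subgroup H)⁆ ≤ L₁)
    (hNG : ∀ X : Subgroup H, L₁ ≤ X → X ⊔ M.subgroupOf H = ⊤ → X = ⊤) :
    M.subgroupOf H ≤ L₁ := by
  classical
  let E := H ⧸ L₁
  let ρ : E →* G ⧸ M := QuotientGroup.lift L₁ ((QuotientGroup.mk' M).comp H.subtype)
    (fun x hx => (QuotientGroup.eq_one_iff _).mpr (hL₁ hx))
  have hρ : ∀ h : H, ρ (QuotientGroup.mk h) = ((h : G) : G ⧸ M) := fun h => rfl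
  let Eh : Subgroup (G × E) := MonoidHom.eqLocus ((QuotientGroup.mk' M).comp (MonoidHom.fst G E))
    (ρ.comp (MonoidHom.snd G E))
  have hmem : ∀ x : G × E, x ∈ Eh ↔ ((x.1 : G) : G ⧸ M) = ρ x.2 := fun x => Iff.rfl
  let pr1 : Eh →* G := (MonoidHom.fst G E).comp Eh.subtype
  let pr2 : Eh →* E := (MonoidHom.snd G E).comp Eh.subtype
  have hext : ∀ x y : Eh, pr1 x = pr1 y → pr2 x = pr2 y → x = y := by
    intro x y h1 h2
    exact Subtype.ext (Prod.ext h1 h2)
  let K : Subgroup Eh := pr1.ker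
  have hEp : IsPGroup p E := by
    rw [isPGroup_iff_pow_pow_eq_one]
    intro x
    obtain ⟨h, rfl⟩ := QuotientGroup.mk_surjective x
    obtain ⟨k, hk⟩ := exists_pow_mem_pResidual (p := p) h
    exact ⟨k, by rw [← QuotientGroup.mk_pow]; exact (QuotientGroup.eq_one_iff _).mpr (hR hk)⟩
  -- elements of the kernel
  have hK : ∀ x : Eh, x ∈ K → ∃ l : H, l ∈ M.subgroupOf H ∧ pr2 x = QuotientGroup.mk l := by
    intro x hx
    obtain ⟨l, hl⟩ := QuotientGroup.mk_surjective (pr2 x)
    refine ⟨l, ?_, hl.symm⟩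
    have h1 : ((pr1 x : G) : G ⧸ M) = ρ (pr2 x) := (hmem x.1).mp x.2
    have h2 : pr1 x = 1 := hx
    rw [h2, ← hl, hρ] at h1
    exact Subgroup.mem_subgroupOf.mpr ((QuotientGroup.eq_one_iff (N := M) (l : G)).mp h1.symm)
  have hcen : ∀ l : H, l ∈ M.subgroupOf H → ∀ e : E, (QuotientGroup.mk l : E) * e = e * QuotientGroup.mk l := by
    intro l hl e
    obtain ⟨h, rfl⟩ := QuotientGroup.mk_surjective e
    rw [← QuotientGroup.mk_mul, ← QuotientGroup.mk_mul, QuotientGroup.eq]
    have h1 : ⁅h⁻¹, l⁻¹⁆ ∈ L₁ := by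
      have h2 := hcent (Subgroup.commutator_mem_commutator (inv_mem hl) (Subgroup.mem_top h⁻¹))
      have h3 := L₁.inv_mem h2
      rwa [commutatorElement_inv] at h3
    convert h1 using 1
    simp [commutatorElement_def, mul_assoc]
  have hKcomm : IsMulCommutative K := by
    refine ⟨⟨fun a b => ?_⟩⟩
    apply Subtype.ext
    apply hext
    · have ha : pr1 a.1 = 1 := a.2
      have hb : pr1 b.1 = 1 := b.2
      show pr1 (a.1 * b.1) = pr1 (b.1 * a.1)
      rw [map_mul, map_mul, ha, hb]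
    · obtain ⟨l, hl, e⟩ := hK a.1 a.2
      show pr2 (a.1 * b.1) = pr2 (b.1 * a.1)
      rw [map_mul, map_mul, e, hcen l hl]
  have hKp : IsPGroup p K := by
    rw [isPGroup_iff_pow_pow_eq_one]
    intro x
    obtain ⟨k, hk⟩ := (isPGroup_iff_pow_pow_eq_one.mp hEp) (pr2 x.1)
    refine ⟨k, ?_⟩
    apply Subtype.ext
    apply hext
    · have hx : pr1 x.1 = 1 := x.2
      show pr1 (x.1 ^ p ^ k) = pr1 1
      rw [map_pow, hx, one_pow, map_one]
    · show pr2 (x.1 ^ p ^ k) = pr2 1
      rw [map_pow, hk, map_one]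
  let s : H →* Eh := (H.subtype.prod (QuotientGroup.mk' L₁)).codRestrict Eh (fun h => (hmem _).mpr rfl)
  have hs1 : ∀ h : H, pr1 (s h) = h := fun h => rfl
  have hs2 : ∀ h : H, pr2 (s h) = QuotientGroup.mk h := fun h => rfl
  let U : Subgroup Eh := H.comap pr1
  have hKU : K ≤ U := by
    intro x hx
    have h2 : pr1 x = 1 := hx
    show pr1 x ∈ H
    rw [h2]; exact H.one_mem
  have hUi : U.index ∣ H.index := by
    have h1 : U.index = H.relIndex pr1.range := Subgroup.index_comap H pr1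
    rw [h1]
    have h2 : H ≤ pr1.range := fun h hh => ⟨s ⟨h, hh⟩, rfl⟩
    exact ⟨_, (Subgroup.relIndex_mul_index h2).symm⟩
  have hcop : (Nat.card K).Coprime U.index := by
    obtain ⟨n, hn⟩ := IsPGroup.iff_card.mp hKp
    rw [hn]
    apply Nat.Coprime.pow_left
    rw [Nat.Prime.coprime_iff_not_dvd hp.out]
    exact fun h => hH (h.trans hUi)
  obtain ⟨C, hC⟩ := Cfsg.Agent.Lib.Helper15.gaschutz_exists K U hKU hcop s.range
    (by
      rintro _ ⟨h, rfl⟩
      show pr1 (s h) ∈ H
      rw [hs1]; exact h.2)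
    (by
      rw [eq_bot_iff]
      rintro _ ⟨⟨h, rfl⟩, hx⟩
      have h2 : pr1 (s h) = 1 := hx
      rw [hs1] at h2
      have h3 : h = 1 := Subtype.ext h2
      rw [h3, map_one]
      exact Subgroup.mem_bot.mpr rfl)
    (by
      apply le_antisymm
      · refine sup_le hKU ?_
        rintro _ ⟨h, rfl⟩
        show pr1 (s h) ∈ H
        rw [hs1]; exact h.2
      · intro x hx
        have hx' : pr1 x ∈ H := hx
        have e : x = (x * (s ⟨pr1 x, hx'⟩)⁻¹) * s ⟨pr1 x, hx'⟩ := by group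
        rw [e]
        refine Subgroup.mul_mem_sup ?_ ⟨_, rfl⟩
        show pr1 (x * (s ⟨pr1 x, hx'⟩)⁻¹) = 1
        rw [map_mul, map_inv, hs1, mul_inv_cancel])
  have hdisj : ∀ x : Eh, x ∈ K → x ∈ C → x = 1 := by
    intro x h1 h2
    have := hC.disjoint.le_bot (Subgroup.mem_inf.mpr ⟨h1, h2⟩)
    exact Subgroup.mem_bot.mp this
  have hdec : ∀ x : Eh, ∃ k ∈ K, ∃ c ∈ C, k * c = x := by
    intro x
    have h1 : x ∈ K ⊔ C := by rw [hC.sup_eq_top]; exact Subgroup.mem_top x
    exact Subgroup.mem_sup_of_normal_left.mp h1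
  -- step 1 : `M × 1 ≤ C`
  have step1 : ∀ g ∈ M, ∃ x ∈ C, pr1 x = g ∧ pr2 x = 1 := by
    let D : Subgroup G := (C.map Eh.subtype).comap (MonoidHom.inl G E)
    have hD : M ≤ D := by
      refine hM.trans ((Subgroup.closure_le _).mpr ?_)
      rintro g ⟨hgM, hg⟩
      have hgE : ((g, 1) : G × E) ∈ Eh := by
        rw [hmem]
        show (g : G ⧸ M) = ρ 1
        rw [map_one]
        exact (QuotientGroup.eq_one_iff _).mpr hgM
      obtain ⟨k, hk, c, hc, e⟩ := hdec ⟨(g, 1), hgE⟩
      have hk1 : pr1 k = 1 := hk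
      have hc1 : pr1 c = g := by
        have := congrArg pr1 e
        rw [map_mul, hk1, one_mul] at this
        exact this
      have hcn : c ^ orderOf g = 1 := by
        apply hdisj _ _ (C.pow_mem hc _)
        show pr1 (c ^ orderOf g) = 1
        rw [map_pow, hc1, pow_orderOf_eq_one]
      have hc2 : pr2 c = 1 := by
        have h1 : pr2 c ^ orderOf g = 1 := by rw [← map_pow, hcn, map_one]
        obtain ⟨j, hj⟩ := (isPGroup_iff_pow_pow_eq_one.mp hEp) (pr2 c)
        have h2 : orderOf (pr2 c) ∣ Nat.gcd (orderOf g) (p ^ j) :=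
          Nat.dvd_gcd (orderOf_dvd_of_pow_eq_one h1) (orderOf_dvd_of_pow_eq_one hj)
        rw [Nat.Coprime.pow_right j hg] at h2
        exact orderOf_eq_one_iff.mp (Nat.dvd_one.mp h2)
      exact ⟨c, hc, Prod.ext hc1 hc2⟩
    intro g hg
    obtain ⟨x, hx, e⟩ := hD hg
    exact ⟨x, hx, congrArg Prod.fst e, congrArg Prod.snd e⟩
  -- step 2 : `C` maps onto `E`
  have step2 : (C.map pr2).comap (QuotientGroup.mk' L₁) = ⊤ := by
    apply hNG
    · intro l hl
      show (QuotientGroup.mk' L₁) l ∈ C.map pr2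
      rw [(QuotientGroup.eq_one_iff l).mpr hl |> fun h => (h : (QuotientGroup.mk' L₁) l = 1)]
      exact Subgroup.one_mem _
    · rw [eq_top_iff]
      intro h _
      obtain ⟨k, hk, c, hc, e⟩ := hdec (s h)
      obtain ⟨l, hl, e2⟩ := hK k hk
      have h1 : (QuotientGroup.mk h : E) = QuotientGroup.mk l * pr2 c := by
        rw [← hs2, ← e, map_mul, e2]
      have h2 : l⁻¹ * h ∈ (C.map pr2).comap (QuotientGroup.mk' L₁) := by
        show (QuotientGroup.mk' L₁) (l⁻¹ * h) ∈ C.map pr2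
        refine ⟨c, hc, ?_⟩
        show pr2 c = (QuotientGroup.mk (l⁻¹ * h) : E)
        rw [QuotientGroup.mk_mul, h1, QuotientGroup.mk_inv, inv_mul_cancel_left]
      have e3 : h = l * (l⁻¹ * h) := by group
      rw [e3, sup_comm]
      exact Subgroup.mul_mem_sup hl h2
  intro l hl
  have h1 : l ∈ (C.map pr2).comap (QuotientGroup.mk' L₁) := by rw [step2]; exact Subgroup.mem_top l
  obtain ⟨c, hc, e⟩ := h1
  have e' : pr2 c = (QuotientGroup.mk l : E) := e
  have h2 : pr1 c ∈ M := by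
    have h3 : ((pr1 c : G) : G ⧸ M) = ρ (pr2 c) := (hmem c.1).mp c.2
    rw [e', hρ, (QuotientGroup.eq_one_iff _).mpr (Subgroup.mem_subgroupOf.mp hl)] at h3
    exact (QuotientGroup.eq_one_iff _).mp h3
  obtain ⟨x, hx, hx1, hx2⟩ := step1 _ h2
  have h4 : c * x⁻¹ = 1 := by
    apply hdisj _ _ (C.mul_mem hc (C.inv_mem hx))
    show pr1 (c * x⁻¹) = 1
    rw [map_mul, map_inv, hx1, mul_inv_cancel]
  have h5 : c = x := by rwa [mul_inv_eq_one] at h4
  rw [h5, hx2] at e'
  exact (QuotientGroup.eq_one_iff l).mp e'.symm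

/-- Tate's theorem, abstract form -/
theorem tate_core (M : Subgroup G) [M.Normal]
    (hM : M ≤ Subgroup.closure {g : G | g ∈ M ∧ (orderOf g).Coprime p})
    (H : Subgroup G) (hH : ¬ p ∣ H.index) (hRM : pResidual p H ≤ M.subgroupOf H)
    (hNG : ∀ X : Subgroup H, ⁅M.subgroupOf H, (⊤ : Subgroup H)⁆ ⊔ pResidual p H ≤ X →
      X ⊔ M.subgroupOf H = ⊤ → X = ⊤) :
    M.subgroupOf H ≤ pResidual p H := by
  have h1 := tate_lift M hM H hH (⁅M.subgroupOf H, (⊤ : Subgroup H)⁆ ⊔ pResidual p H) le_sup_right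
    (sup_le (Subgroup.commutator_le_left _ _) hRM) le_sup_left hNG
  have hnil : Group.IsNilpotent (H ⧸ pResidual p H) :=
    (pResidual_quotient_isPGroup (G := H) (p := p)).isNilpotent
  obtain ⟨n, hn⟩ := Subgroup.nilpotent_iff_lowerCentralSeries.mp hnil
  have h2 : (M.subgroupOf H).map (QuotientGroup.mk' (pResidual p H)) ≤
      ⁅(M.subgroupOf H).map (QuotientGroup.mk' (pResidual p H)), ⊤⁆ := by
    refine (Subgroup.map_mono h1).trans ?_
    rw [Subgroup.map_sup, Subgroup.map_commutator, QuotientGroup.map_mk'_self, sup_bot_eq]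
    exact Subgroup.commutator_mono le_rfl le_top
  have key : ∀ k, (M.subgroupOf H).map (QuotientGroup.mk' (pResidual p H)) ≤
      Subgroup.lowerCentralSeries (⊤ : Subgroup (H ⧸ pResidual p H)) k := by
    intro k
    induction k with
    | zero => rw [Subgroup.lowerCentralSeries_zero]; exact le_top
    | succ k ih => exact h2.trans (Subgroup.commutator_mono ih le_rfl)
  have h3 := key n
  rw [hn, le_bot_iff, Subgroup.map_eq_bot_iff, QuotientGroup.ker_mk'] at h3
  exact h3

theorem exists_normal_index_p_of_pGroup {Q : Type*} [Group Q] [Finite Q] (hQ : IsPGroup p Q)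
    [Nontrivial Q] : ∃ Y : Subgroup Q, Y.Normal ∧ Y.index = p := by
  obtain ⟨m, hm⟩ := IsPGroup.iff_card.mp hQ
  have hm0 : m ≠ 0 := by
    rintro rfl
    rw [pow_zero] at hm
    exact absurd hm (Finite.one_lt_card (α := Q)).ne'
  obtain ⟨K, hK⟩ := Sylow.exists_subgroup_card_pow_prime p (n := m - 1) (G := Q)
    (by rw [hm]; exact pow_dvd_pow p (by omega))
  have hKi : K.index = p := by
    have h1 := K.card_mul_index
    rw [hK, hm] at h1
    have h2 : p ^ m = p ^ (m - 1) * p := by rw [← pow_succ, Nat.sub_add_cancel (by omega)]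
    rw [h2] at h1
    exact Nat.eq_of_mul_eq_mul_left (pow_pos hp.out.pos _) h1
  refine ⟨K, ?_, hKi⟩
  apply Subgroup.normal_of_index_eq_minFac_card
  rw [hKi, hm, Nat.Prime.pow_minFac hp.out hm0]

/-- Tate's theorem: if `M ∩ H` lies in every normal subgroup of index `p` of `H`, then
`M ∩ H ≤ O^p(H)` -/
theorem tate_index_p (M : Subgroup G) [M.Normal]
    (hM : M ≤ Subgroup.closure {g : G | g ∈ M ∧ (orderOf g).Coprime p})
    (H : Subgroup G) (hH : ¬ p ∣ H.index) (hRM : pResidual p H ≤ M.subgroupOf H)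
    (hY : ∀ Y : Subgroup H, Y.Normal → Y.index = p → M.subgroupOf H ≤ Y) :
    M.subgroupOf H ≤ pResidual p H := by
  apply tate_core M hM H hH hRM
  intro X hX hXL
  by_contra hne
  have hXn : X.Normal := by
    rw [← Subgroup.normalizer_eq_top_iff, eq_top_iff, ← hXL]
    refine sup_le Subgroup.le_normalizer ?_
    intro l hl
    rw [Subgroup.mem_normalizer_iff]
    have hc : ∀ x : H, ∀ l' ∈ M.subgroupOf H, ⁅l', x⁆ ∈ X := fun x l' hl' =>
      hX ((le_sup_left : _ ≤ ⁅M.subgroupOf H, (⊤ : Subgroup H)⁆ ⊔ pResidual p H)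
        (Subgroup.commutator_mem_commutator hl' (Subgroup.mem_top x)))
    intro x
    constructor
    · intro hx
      have e : l * x * l⁻¹ = ⁅l, x⁆ * x := by simp [commutatorElement_def]
      rw [e]
      exact X.mul_mem (hc x l hl) hx
    · intro hx
      have e : x = ⁅l⁻¹, l * x * l⁻¹⁆ * (l * x * l⁻¹) := by
        simp [commutatorElement_def, mul_assoc]
      rw [e]
      exact X.mul_mem (hc _ _ (inv_mem hl)) hx
  have hQp : IsPGroup p (H ⧸ X) := by
    rw [isPGroup_iff_pow_pow_eq_one]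
    intro x
    obtain ⟨h, rfl⟩ := QuotientGroup.mk_surjective x
    obtain ⟨k, hk⟩ := exists_pow_mem_pResidual (p := p) h
    exact ⟨k, by
      rw [← QuotientGroup.mk_pow]
      exact (QuotientGroup.eq_one_iff _).mpr (hX ((le_sup_right : pResidual p H ≤ _) hk))⟩
  have hnt : Nontrivial (H ⧸ X) := by
    by_contra hcon
    rw [not_nontrivial_iff_subsingleton] at hcon
    exact hne (QuotientGroup.subgroup_eq_top_of_subsingleton X hcon)
  obtain ⟨Y, hYn, hYi⟩ := exists_normal_index_p_of_pGroup hQp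
  have h1 := hY (Y.comap (QuotientGroup.mk' X)) (hYn.comap _)
    (by rw [Subgroup.index_comap_of_surjective _ (QuotientGroup.mk'_surjective X)]; exact hYi)
  have h2 : X ≤ Y.comap (QuotientGroup.mk' X) := by
    intro x hx
    show (QuotientGroup.mk' X) x ∈ Y
    have : (QuotientGroup.mk' X) x = 1 := (QuotientGroup.eq_one_iff x).mpr hx
    rw [this]; exact Y.one_mem
  have h3 : Y.comap (QuotientGroup.mk' X) = ⊤ := by
    rw [eq_top_iff, ← hXL]; exact sup_le h2 h1
  have h4 : (Y.comap (QuotientGroup.mk' X)).index = p := by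
    rw [Subgroup.index_comap_of_surjective _ (QuotientGroup.mk'_surjective X)]; exact hYi
  rw [h3, Subgroup.index_top] at h4
  exact hp.out.one_lt.ne h4

/-- a `p`-element of `O^p(G)` lies in the derived subgroup -/
theorem mem_commutator_of_mem_pResidual {x : G} (hx : x ∈ pResidual p G) {k : ℕ}
    (hk : x ^ p ^ k = 1) : x ∈ commutator G := by
  set n := ordCompl[p] (Nat.card G) with hn
  let ψ : G →* Abelianization G := (powMonoidHom n).comp Abelianization.of
  have h1 : pResidual p G ≤ ψ.ker := by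
    rw [pResidual_le_iff]
    intro g hg
    have h2 : orderOf g ∣ ordProj[p] (Nat.card G) * n := by
      rw [Nat.ordProj_mul_ordCompl_eq_self]; exact orderOf_dvd_natCard g
    have h3 : orderOf g ∣ n := (Nat.Coprime.pow_right _ hg).dvd_of_dvd_mul_left h2
    show (Abelianization.of g) ^ n = 1
    rw [← map_pow, orderOf_dvd_iff_pow_eq_one.mp h3, map_one]
  have h2 : (Abelianization.of x) ^ n = 1 := h1 hx
  have h3 : (Abelianization.of x) ^ p ^ k = 1 := by rw [← map_pow, hk, map_one]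
  have h4 : orderOf (Abelianization.of x) ∣ Nat.gcd n (p ^ k) :=
    Nat.dvd_gcd (orderOf_dvd_of_pow_eq_one h2) (orderOf_dvd_of_pow_eq_one h3)
  have h5 : Nat.Coprime n (p ^ k) :=
    Nat.Coprime.pow_right _ (Nat.coprime_ordCompl hp.out (Nat.card_pos (α := G)).ne').symm
  rw [h5] at h4
  have h6 := orderOf_eq_one_iff.mp (Nat.dvd_one.mp h4)
  rw [← Abelianization.ker_of]
  exact h6

theorem pResidual_le_closure :
    pResidual p G ≤ Subgroup.closure {g : G | g ∈ pResidual p G ∧ (orderOf g).Coprime p} :=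
  (Subgroup.closure_le _).mpr fun _ hg =>
    Subgroup.subset_closure ⟨mem_pResidual_of_coprime hg, hg⟩

theorem pResidual_le_subgroupOf (H : Subgroup G) :
    pResidual p H ≤ (pResidual p G).subgroupOf H := by
  rw [pResidual_le_iff]
  intro g hg
  apply Subgroup.mem_subgroupOf.mpr
  apply mem_pResidual_of_coprime
  rwa [Subgroup.orderOf_coe]

/-- Tate's theorem: control of transfer implies control of the hyperfocal subgroup -/
theorem tate_commutator (P : Sylow p G) (H : Subgroup G) (hPH : (P : Subgroup G) ≤ H)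
    (h : (P : Subgroup G) ⊓ commutator G ≤ ⁅H, H⁆) :
    pResidual p G ⊓ H = (pResidual p H).map H.subtype := by
  have hH : ¬ p ∣ H.index := fun hd => P.not_dvd_index (hd.trans (Subgroup.index_dvd_of_le hPH))
  have main : (pResidual p G).subgroupOf H ≤ pResidual p H := by
    apply tate_index_p _ pResidual_le_closure H hH (pResidual_le_subgroupOf H)
    intro Y hYn hYi l hl
    have hQp : IsPGroup p (H ⧸ Y) := IsPGroup.of_card (n := 1) (by
      rw [pow_one, ← Subgroup.index_eq_card]; exact hYi)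
    have hR : pResidual p H ≤ Y := pResidual_le_of_isPGroup_quotient hQp
    have hC : commutator H ≤ Y := by
      have : Fact (Nat.card (H ⧸ Y)).Prime := ⟨by
        rw [← Subgroup.index_eq_card, hYi]; exact hp.out⟩
      have hcyc : IsCyclic (H ⧸ Y) := isCyclic_of_prime_card (p := Nat.card (H ⧸ Y)) rfl
      rw [← Subgroup.Normal.quotient_commutative_iff_commutator_le]
      exact ⟨⟨fun a b => (IsCyclic.commGroup (α := H ⧸ Y)).mul_comm a b⟩⟩
    let P' : Sylow p H := P.subtype hPH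
    have h1 : l ∈ pResidual p H ⊔ (P' : Subgroup H) := by
      rw [pResidual_sup_sylow]; exact Subgroup.mem_top l
    obtain ⟨r, hr, u, hu, rfl⟩ := Subgroup.mem_sup_of_normal_left.mp h1
    refine Y.mul_mem (hR hr) (hC ?_)
    have hu1 : u ∈ (pResidual p G).subgroupOf H := by
      have := mul_mem (inv_mem (pResidual_le_subgroupOf H hr)) hl
      simpa using this
    have huP : (u : G) ∈ (P : Subgroup G) := by
      have : u ∈ (P : Subgroup G).subgroupOf H := hu
      exact Subgroup.mem_subgroupOf.mp this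
    obtain ⟨k, hk⟩ := (isPGroup_iff_pow_pow_eq_one.mp P.2) ⟨u, huP⟩
    have hk' : (u : G) ^ p ^ k = 1 := congrArg Subtype.val hk
    have h2 := h (Subgroup.mem_inf.mpr ⟨huP,
      mem_commutator_of_mem_pResidual (Subgroup.mem_subgroupOf.mp hu1) hk'⟩)
    rw [← Subgroup.map_subtype_commutator] at h2
    obtain ⟨u', hu', e⟩ := h2
    have : u' = u := Subtype.ext e
    rwa [this] at hu'
  apply le_antisymm
  · rintro x ⟨hx1, hx2⟩
    exact ⟨⟨x, hx2⟩, main (Subgroup.mem_subgroupOf.mpr hx1), rfl⟩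
  · rintro _ ⟨x, hx, rfl⟩
    exact ⟨Subgroup.mem_subgroupOf.mp (pResidual_le_subgroupOf H hx), x.2⟩

end tate

end Cfsg.Agent.Lib.Helper13
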