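import Mathlib
import Cfsg.Agent.Lib.Helper20.FpfAut
import Cfsg.Agent.S0033
import Cfsg.Agent.S0058
import Cfsg.Agent.Lib.Helper1.Wielandt
import Cfsg.Agent.Lib.Helper13.Conj

set_option autoImplicit false
set_option linter.unusedSectionVars false
set_option linter.style.haveILetI false

namespace Cfsg.Agent.Lib.Helper13.Ward

open Cfsg.Agent.Lib.Helper20 (prod_twist smul_prod_fixed)

section mod

variable {X V : Type*} [Group X] [Finite X] [CommGroup V] [Finite V] [MulDistribMulAction X V]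

/-- fixed points of a subgroup. -/
def fx (K : Subgroup X) : Subgroup V where
  carrier := {v | ∀ k ∈ K, k • v = v}
  one_mem' := fun k _ => smul_one k
  mul_mem' := fun {a b} ha hb k hk => by rw [smul_mul', ha k hk, hb k hk]
  inv_mem' := fun {a} ha k hk => by rw [smul_inv', ha k hk]

/-- kernel of the action on a subgroup. -/
def kr (U : Subgroup V) : Subgroup X where
  carrier := {g | ∀ u ∈ U, g • u = u}
  one_mem' := fun u _ => one_smul _ u
  mul_mem' := fun {a b} ha hb u hu => by rw [mul_smul, hb u hu, ha u hu]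
  inv_mem' := fun {a} ha u hu => by rw [inv_smul_eq_iff, ha u hu]

theorem mem_fx {K : Subgroup X} {v : V} : v ∈ fx (V := V) K ↔ ∀ k ∈ K, k • v = v := Iff.rfl

theorem mem_kr {U : Subgroup V} {g : X} : g ∈ kr (X := X) U ↔ ∀ u ∈ U, g • u = u := Iff.rfl

theorem commute_of_pow {a k : X} {r i : ℕ} (hr : r.Prime) (har : a ^ r = 1) (hi0 : 0 < i)
    (hir : i < r) (h : a ^ i * k * (a ^ i)⁻¹ = k) : a * k * a⁻¹ = k := by
  have hcop : Nat.Coprime i r := (Nat.coprime_of_lt_prime hi0.ne' hir hr).symm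
  obtain ⟨m, -, hm⟩ := Nat.exists_mul_mod_eq_one_of_coprime hcop hr.one_lt
  have h1 : Commute (a ^ i) k := by
    show a ^ i * k = k * a ^ i
    calc a ^ i * k = (a ^ i * k * (a ^ i)⁻¹) * a ^ i := by group
      _ = k * a ^ i := by rw [h]
  have h2 : Commute ((a ^ i) ^ m) k := h1.pow_left m
  have h3 : (a ^ i) ^ m = a := by
    rw [← pow_mul, pow_eq_pow_mod (i * m) har, hm, pow_one]
  rw [h3] at h2
  rw [h2.eq]; group

/-- **Frobenius averaging lemma**, prime order version. -/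
theorem frob_avg (a : X) (r : ℕ) (hr : r.Prime) (har : a ^ r = 1) (U : Subgroup V) (K : Subgroup X)
    (haK : ∀ k ∈ K, a * k * a⁻¹ ∈ K) (hK : ∀ k ∈ K, a * k * a⁻¹ = k → k = 1)
    (haU : ∀ u ∈ U, a • u ∈ U) (hKU : ∀ k ∈ K, ∀ u ∈ U, k • u ∈ U)
    (hU : ∀ u ∈ U, a • u = u → u = 1) (hcop : (Nat.card K).Coprime (Nat.card U)) :
    ∀ k ∈ K, ∀ u ∈ U, k • u = u := by
  classical
  have : Fintype K := Fintype.ofFinite K
  obtain ⟨r', rfl⟩ : ∃ r', r = r' + 1 := ⟨r - 1, by have := hr.pos; omega⟩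
  have hpowU : ∀ (i : ℕ), ∀ u ∈ U, a ^ i • u ∈ U := by
    intro i
    induction i with
    | zero => intro u hu; simpa using hu
    | succ n ih => intro u hu; rw [pow_succ', mul_smul]; exact haU _ (ih u hu)
  have hN : ∀ u ∈ U, ∏ i ∈ Finset.range (r' + 1), a ^ i • u = 1 := by
    intro u hu
    apply hU _ (Subgroup.prod_mem _ (fun i _ => hpowU i u hu))
    rw [Finset.smul_prod']
    have h1 : ∀ i, a • a ^ i • u = a ^ (i + 1) • u := fun i => by rw [pow_succ', mul_smul]
    simp only [h1]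
    rw [Finset.prod_range_succ (fun i => a ^ (i + 1) • u),
      Finset.prod_range_succ' (fun i => a ^ i • u), har]
    simp
  have hpowK : ∀ (i : ℕ), ∀ k ∈ K, a ^ i * k * (a ^ i)⁻¹ ∈ K := by
    intro i
    induction i with
    | zero => intro k hk; simpa using hk
    | succ n ih =>
      intro k hk
      have := haK _ (ih k hk)
      convert this using 1
      rw [pow_succ']; group
  intro l hl v hv
  have hkey : (∏ i ∈ Finset.range r', ∏ k : K, (k : X) • (a ^ (i + 1) • v)) * v ^ (Nat.card K)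
      = 1 := by
    have h1 : ∏ k : K, ((k : X)⁻¹ • ∏ i ∈ Finset.range (r' + 1), a ^ i • ((k : X) • v)) = 1 := by
      apply Finset.prod_eq_one
      intro k _
      rw [hN _ (hKU k k.2 v hv), smul_one]
    have h2 : ∀ k : K, ((k : X)⁻¹ • ∏ i ∈ Finset.range (r' + 1), a ^ i • ((k : X) • v)) =
        ∏ i ∈ Finset.range (r' + 1), (((k : X)⁻¹ * (MulAut.conj (a ^ i)) k) • (a ^ i • v)) := by
      intro k
      rw [Finset.smul_prod']
      apply Finset.prod_congr rfl
      intro i _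
      simp only [MulAut.conj_apply, ← mul_smul]
      congr 1; group
    have h3 : ∏ k : K, ∏ i ∈ Finset.range (r' + 1),
        (((k : X)⁻¹ * (MulAut.conj (a ^ i)) k) • (a ^ i • v)) =
        (∏ i ∈ Finset.range r', ∏ k : K, (k : X) • (a ^ (i + 1) • v)) * v ^ (Nat.card K) := by
      rw [Finset.prod_comm, Finset.prod_range_succ']
      congr 1
      · apply Finset.prod_congr rfl
        intro i hi
        exact prod_twist (MulAut.conj (a ^ (i + 1))) K
          (fun k hk => by rw [MulAut.conj_apply]; exact hpowK (i + 1) k hk)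
          (fun k hk h => hK k hk (commute_of_pow hr har (Nat.succ_pos i)
            (by have := Finset.mem_range.1 hi; omega) (by rw [MulAut.conj_apply] at h; exact h))) _
      · simp [Finset.prod_const, Finset.card_univ, Nat.card_eq_fintype_card]
    rw [← h3, ← h1]
    exact (Finset.prod_congr rfl (fun k _ => h2 k)).symm
  have hfix : l • (v ^ (Nat.card K)) = v ^ (Nat.card K) := by
    have h3 : v ^ (Nat.card K) =
        (∏ i ∈ Finset.range r', ∏ k : K, (k : X) • (a ^ (i + 1) • v))⁻¹ := by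
      rw [eq_inv_iff_mul_eq_one, mul_comm]; exact hkey
    rw [h3, smul_inv', Finset.smul_prod']
    congr 1
    apply Finset.prod_congr rfl
    intro i _
    exact smul_prod_fixed K ⟨l, hl⟩ _
  rw [smul_pow'] at hfix
  have := (powCoprime (G := U) hcop.symm).injective (a₁ := ⟨l • v, hKU l hl v hv⟩)
    (a₂ := ⟨v, hv⟩) (Subtype.ext hfix)
  exact congrArg Subtype.val this

/-- separation by the norm: if `y` normalizes `K` and fixes `∏ w i`, where `w i₀` is `K`-fixed and
all other `w i` have trivial `K`-norm, then `y` fixes `(w i₀)^|K|`. -/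
theorem norm_sep {ι : Type*} (s : Finset ι) (w : ι → V) (i₀ : ι) (hi₀ : i₀ ∈ s) (K : Subgroup X)
    [Fintype K] (h0 : ∀ k ∈ K, k • w i₀ = w i₀)
    (h1 : ∀ i ∈ s, i ≠ i₀ → ∏ k : K, (k : X) • w i = 1) (y : X)
    (hyK : ∀ k ∈ K, y * k * y⁻¹ ∈ K) (hy : y • (∏ i ∈ s, w i) = ∏ i ∈ s, w i) :
    y • (w i₀ ^ (Nat.card K)) = w i₀ ^ (Nat.card K) := by
  classical
  have hN : ∏ k : K, (k : X) • (∏ i ∈ s, w i) = w i₀ ^ (Nat.card K) := by
    simp only [Finset.smul_prod']
    rw [Finset.prod_comm, Finset.prod_eq_single_of_mem i₀ hi₀ (fun i hi hne => h1 i hi hne)]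
    rw [Finset.prod_congr rfl (fun (k : K) _ => h0 k k.2), Finset.prod_const, Finset.card_univ,
      Nat.card_eq_fintype_card]
  rw [← hN, Finset.smul_prod']
  let f : K → K := fun k => ⟨y * k * y⁻¹, hyK k k.2⟩
  have hinj : Function.Injective f := by
    intro k l hkl
    have : y * (k : X) * y⁻¹ = y * l * y⁻¹ := congrArg Subtype.val hkl
    apply Subtype.ext
    simpa using this
  have hbij : Function.Bijective f := ⟨hinj, Finite.surjective_of_injective hinj⟩
  rw [← Function.Bijective.prod_comp hbij (fun k : K => (k : X) • (∏ i ∈ s, w i))]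
  apply Finset.prod_congr rfl
  intro k _
  show y • (k : X) • _ = (y * k * y⁻¹) • _
  conv_rhs => rw [← hy]
  simp only [← mul_smul]
  congr 1; group

end mod

section grp

variable {X : Type*} [Group X] [Finite X]

theorem nz_conj {H : Subgroup X} {a x : X} (ha : a ∈ Subgroup.normalizer (H : Set X))
    (hx : x ∈ H) : a * x * a⁻¹ ∈ H :=
  (Subgroup.mem_normalizer_iff.1 ha x).1 hx

theorem nz_conj' {H : Subgroup X} {a x : X} (ha : a ∈ Subgroup.normalizer (H : Set X))
    (hx : x ∈ H) : a⁻¹ * x * a ∈ H := by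
  have := nz_conj (Subgroup.inv_mem _ ha) hx
  simpa using this

theorem mem_nz (H : Subgroup X) (a : X) (h : ∀ x ∈ H, a * x * a⁻¹ ∈ H) :
    a ∈ Subgroup.normalizer (H : Set X) := by
  have h1 : cj H a⁻¹ ≤ H := by
    intro x hx
    rw [mem_cj] at hx
    have := h _ hx
    convert this using 1; group
  have h2 := cj_eq_of_le_of_finite h1
  have h3 := mem_normalizer_iff_cj.2 h2
  simpa using Subgroup.inv_mem _ h3

theorem fpf_comm_surj (a : X) (S : Subgroup X) (haS : ∀ x ∈ S, a * x * a⁻¹ ∈ S)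
    (hf : ∀ x ∈ S, a * x * a⁻¹ = x → x = 1) : ∀ x ∈ S, ∃ y ∈ S, y⁻¹ * (a * y * a⁻¹) = x :=
  fun x hx => Cfsg.Agent.Lib.Helper20.fpf_surj (MulAut.conj a) S haS hf x hx

/-- elements normalizing `M` and centralizing `Q` modulo `M`. -/
def cm (Q M : Subgroup X) : Subgroup X where
  carrier := {g | g ∈ Subgroup.normalizer (M : Set X) ∧ ∀ y ∈ Q, g * y * g⁻¹ * y⁻¹ ∈ M}
  one_mem' := ⟨Subgroup.one_mem _, fun y _ => by simp⟩
  mul_mem' := by
    rintro g h ⟨hg, hg'⟩ ⟨hh, hh'⟩
    refine ⟨Subgroup.mul_mem _ hg hh, fun y hy => ?_⟩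
    have h1 : g * (h * y * h⁻¹ * y⁻¹) * g⁻¹ ∈ M := nz_conj hg (hh' y hy)
    have := M.mul_mem h1 (hg' y hy)
    convert this using 1; group
  inv_mem' := by
    rintro g ⟨hg, hg'⟩
    refine ⟨Subgroup.inv_mem _ hg, fun y hy => ?_⟩
    have h1 : (g * y * g⁻¹ * y⁻¹)⁻¹ ∈ M := M.inv_mem (hg' y hy)
    have h2 := nz_conj' hg h1
    convert h2 using 1; group

theorem le_cm {T Q M : Subgroup X} (hT : T ≤ Subgroup.normalizer (M : Set X)) (h : ⁅T, Q⁆ ≤ M) :
    T ≤ cm Q M :=
  fun _ hg => ⟨hT hg, fun _ hy => h (Subgroup.commutator_mem_commutator hg hy)⟩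

theorem comm_le_of_le_cm {T Q M : Subgroup X} (h : T ≤ cm Q M) : ⁅T, Q⁆ ≤ M :=
  (Subgroup.commutator_le).2 fun _ hg y hy => (h hg).2 y hy

theorem conj_mem_cm {Q M : Subgroup X} {x g : X} (hxQ : x ∈ Subgroup.normalizer (Q : Set X))
    (hxM : x ∈ Subgroup.normalizer (M : Set X)) (hg : g ∈ cm Q M) : x * g * x⁻¹ ∈ cm Q M := by
  refine ⟨Subgroup.mul_mem _ (Subgroup.mul_mem _ hxM hg.1) (Subgroup.inv_mem _ hxM),
    fun y hy => ?_⟩
  have h1 := hg.2 _ (nz_conj' hxQ hy)
  have h2 := nz_conj hxM h1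
  convert h2 using 1; group

theorem nz_sup {Y S : Subgroup X} {a : X} (haY : a ∈ Subgroup.normalizer (Y : Set X))
    (haS : a ∈ Subgroup.normalizer (S : Set X)) :
    a ∈ Subgroup.normalizer ((Y ⊔ S : Subgroup X) : Set X) := by
  apply mem_nz
  have : Y ⊔ S ≤ ((Y ⊔ S).comap (MulAut.conj a).toMonoidHom) := by
    apply sup_le
    · intro y hy; exact Subgroup.mem_sup_left (nz_conj haY hy)
    · intro y hy; exact Subgroup.mem_sup_right (nz_conj haS hy)
  exact fun x hx => this hx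

/-- Thompson's theorem in ambient form, for a product of two subgroups of coprime orders. -/
theorem thompson_comm (Y S : Subgroup X) (a : X) (r : ℕ) (hr : r.Prime)
    (har : a ^ r = 1) (hSY : S ≤ Subgroup.normalizer (Y : Set X))
    (haY : a ∈ Subgroup.normalizer (Y : Set X)) (haS : a ∈ Subgroup.normalizer (S : Set X))
    (hcop : (Nat.card Y).Coprime (Nat.card S))
    (hY0 : ∀ y ∈ Y, a * y * a⁻¹ = y → y = 1) (hS0 : ∀ x ∈ S, a * x * a⁻¹ = x → x = 1) :
    ⁅Y, S⁆ = ⊥ := by
  have hdisj : Y ⊓ S = ⊥ := (Subgroup.disjoint_of_coprime_natCard hcop).eq_bot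
  have haH := nz_sup haY haS
  set H := Y ⊔ S with hH
  set φ : H ≃* H := H.normalizerMonoidHom ⟨a, haH⟩ with hφ
  have hφapp : ∀ q : H, ((φ q : H) : X) = a * q * a⁻¹ := fun q => rfl
  have hfix : ∀ q : H, φ q = q → q = 1 := by
    intro q hq
    have h1 : a * q * a⁻¹ = q := by rw [← hφapp, hq]
    have hq2 : (q : X) ∈ ((Y ⊔ S : Subgroup X) : Set X) := q.2
    rw [Subgroup.coe_mul_of_right_le_normalizer_left _ _ hSY] at hq2
    obtain ⟨y, hy, x, hx, hyx⟩ := hq2
    have hy' : y ∈ Y := hy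
    have hx' : x ∈ S := hx
    have hyx' : y * x = q := hyx
    rw [← hyx'] at h1
    have h2 : y⁻¹ * (a * y * a⁻¹) = x * (a * x * a⁻¹)⁻¹ := by
      have : (a * y * a⁻¹) * (a * x * a⁻¹) = y * x := by rw [← h1]; group
      calc y⁻¹ * (a * y * a⁻¹) = y⁻¹ * ((a * y * a⁻¹) * (a * x * a⁻¹)) * (a * x * a⁻¹)⁻¹ := by
            group
        _ = x * (a * x * a⁻¹)⁻¹ := by rw [this]; group
    have h3 : y⁻¹ * (a * y * a⁻¹) ∈ Y ⊓ S := by
      refine ⟨Y.mul_mem (Y.inv_mem hy') (nz_conj haY hy'), ?_⟩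
      show _ ∈ S
      rw [h2]
      exact S.mul_mem hx' (S.inv_mem (nz_conj haS hx'))
    rw [hdisj, Subgroup.mem_bot] at h3
    have h4 : a * y * a⁻¹ = y := by
      calc a * y * a⁻¹ = y * (y⁻¹ * (a * y * a⁻¹)) := by group
        _ = y := by rw [h3, mul_one]
    have h5 : a * x * a⁻¹ = x := by
      rw [h3] at h2
      have : x = a * x * a⁻¹ := by
        calc x = (x * (a * x * a⁻¹)⁻¹) * (a * x * a⁻¹) := by group
          _ = a * x * a⁻¹ := by rw [← h2, one_mul]
      exact this.symm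
    apply Subtype.ext
    rw [← hyx', hY0 y hy' h4, hS0 x hx' h5]
    simp
  by_cases hφ1 : φ = 1
  · have hall : ∀ q : H, q = 1 := fun q => hfix q (by rw [hφ1]; rfl)
    rw [Subgroup.commutator_eq_bot_iff_le_centralizer]
    intro y hy
    have := congrArg Subtype.val (hall ⟨y, Subgroup.mem_sup_left hy⟩)
    have hy1 : y = 1 := this
    rw [hy1]; exact Subgroup.one_mem _
  · have hord : orderOf φ = r := by
      haveI : Fact r.Prime := ⟨hr⟩
      apply orderOf_eq_prime _ hφ1
      rw [hφ, ← map_pow]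
      have : (⟨a, haH⟩ : Subgroup.normalizer (H : Set X)) ^ r = 1 := by
        apply Subtype.ext
        show a ^ r = 1
        exact har
      rw [this, map_one]
    have hnil : Group.IsNilpotent H := Cfsg.Agent.S0033.result φ hfix r hr hord
    exact Cfsg.Agent.Lib.Helper1.commutator_eq_bot_of_nilpotent_coprime H Y S hnil le_sup_left
      le_sup_right hSY hcop.symm

/-- elementary abelian of order `r²`. -/
structure EA (r : ℕ) (A : Subgroup X) : Prop where
  prime : r.Prime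
  comm : ∀ a ∈ A, ∀ b ∈ A, a * b = b * a
  exp : ∀ a ∈ A, a ^ r = 1
  card : Nat.card A = r ^ 2

namespace EA

variable {r : ℕ} {A : Subgroup X}

theorem isMulComm (h : EA r A) : IsMulCommutative A :=
  ⟨⟨fun a b => Subtype.ext (h.comm a a.2 b b.2)⟩⟩

theorem card_zpowers_le (h : EA r A) {a : X} (ha : a ∈ A) : Nat.card (Subgroup.zpowers a) ≤ r := by
  rw [Nat.card_zpowers]
  exact Nat.le_of_dvd h.prime.pos (orderOf_dvd_of_pow_eq_one (h.exp a ha))

theorem card_zpowers (h : EA r A) {a : X} (ha : a ∈ A) (ha1 : a ≠ 1) :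
    Nat.card (Subgroup.zpowers a) = r := by
  haveI : Fact r.Prime := ⟨h.prime⟩
  rw [Nat.card_zpowers]
  exact orderOf_eq_prime (h.exp a ha) ha1

theorem not_cyclic (h : EA r A) : ¬ IsCyclic A := by
  intro hc
  obtain ⟨g, hg⟩ := hc.exists_generator
  have h1 : orderOf g = Nat.card A := orderOf_eq_card_of_forall_mem_zpowers hg
  have h2 : orderOf g ∣ r := by
    apply orderOf_dvd_of_pow_eq_one
    apply Subtype.ext
    exact h.exp g g.2
  rw [h1, h.card] at h2
  have := Nat.le_of_dvd h.prime.pos h2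
  have h3 := h.prime.one_lt
  nlinarith

theorem exists_ind (h : EA r A) {a : X} (ha : a ∈ A) : ∃ a' ∈ A, a' ∉ Subgroup.zpowers a := by
  by_contra hcon
  have h1 : A ≤ Subgroup.zpowers a := fun x hx => by
    by_contra hx2
    exact hcon ⟨x, hx, hx2⟩
  have h2 := Subgroup.card_le_of_le h1
  rw [h.card] at h2
  have h3 := h.card_zpowers_le ha
  have h4 := h.prime.one_lt
  nlinarith

theorem sup_eq (h : EA r A) {a a' : X} (ha : a ∈ A) (ha1 : a ≠ 1) (ha' : a' ∈ A)
    (hind : a' ∉ Subgroup.zpowers a) : Subgroup.zpowers a ⊔ Subgroup.zpowers a' = A := by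
  have hle : Subgroup.zpowers a ⊔ Subgroup.zpowers a' ≤ A :=
    sup_le ((Subgroup.zpowers_le).2 ha) ((Subgroup.zpowers_le).2 ha')
  have hlt : Subgroup.zpowers a < Subgroup.zpowers a ⊔ Subgroup.zpowers a' := by
    refine lt_of_le_of_ne le_sup_left fun heq => hind ?_
    rw [heq]
    exact Subgroup.mem_sup_right (Subgroup.mem_zpowers a')
  have h1 : Nat.card (Subgroup.zpowers a) <
      Nat.card (Subgroup.zpowers a ⊔ Subgroup.zpowers a' : Subgroup X) :=
    Set.Finite.card_lt_card (Set.toFinite _) hlt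
  rw [h.card_zpowers ha ha1] at h1
  have h2 : Nat.card (Subgroup.zpowers a ⊔ Subgroup.zpowers a' : Subgroup X) ∣ r ^ 2 := by
    rw [← h.card]; exact Subgroup.card_dvd_of_le hle
  obtain ⟨k, hk, hk2⟩ := (Nat.dvd_prime_pow h.prime).1 h2
  apply Subgroup.eq_of_le_of_card_ge hle
  rw [h.card, hk2]
  rw [hk2] at h1
  have hk1 : 1 < k := by
    by_contra hcon
    have : k ≤ 1 := by omega
    have := Nat.pow_le_pow_right h.prime.pos this
    rw [pow_one] at this
    omega
  have : k = 2 := by omega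
  rw [this]

theorem mem_zpowers_symm (h : EA r A) {a a' : X} (ha : a ∈ A) (ha' : a' ∈ A) (ha1' : a' ≠ 1)
    (hm : a' ∈ Subgroup.zpowers a) : a ∈ Subgroup.zpowers a' := by
  have hle : Subgroup.zpowers a' ≤ Subgroup.zpowers a := (Subgroup.zpowers_le).2 hm
  have := Subgroup.eq_of_le_of_card_ge hle (by
    rw [h.card_zpowers ha' ha1']; exact h.card_zpowers_le ha)
  rw [this]; exact Subgroup.mem_zpowers a

theorem fix_of_mem_zpowers {a a' y : X} (hm : a' ∈ Subgroup.zpowers a) (hy : a * y * a⁻¹ = y) :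
    a' * y * a'⁻¹ = y := by
  have h1 : Commute a y := by
    show a * y = y * a
    calc a * y = (a * y * a⁻¹) * a := by group
      _ = y * a := by rw [hy]
  obtain ⟨k, rfl⟩ := Subgroup.mem_zpowers_iff.1 hm
  have h2 : Commute (a ^ k) y := h1.zpow_left k
  rw [h2.eq]; group

theorem eq_one_of_fix (h : EA r A) {Y : Subgroup X} (hY : Y ⊓ Subgroup.centralizer (A : Set X) = ⊥)
    {a a' : X} (ha : a ∈ A) (ha1 : a ≠ 1) (ha' : a' ∈ A) (hind : a' ∉ Subgroup.zpowers a)
    {y : X} (hy : y ∈ Y) (h1 : a * y * a⁻¹ = y) (h2 : a' * y * a'⁻¹ = y) : y = 1 := by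
  have h3 : y ∈ Y ⊓ Subgroup.centralizer (A : Set X) := by
    refine ⟨hy, ?_⟩
    have h4 : A ≤ Subgroup.centralizer ({y} : Set X) := by
      rw [← h.sup_eq ha ha1 ha' hind]
      apply sup_le
      · rw [Subgroup.zpowers_le, Subgroup.mem_centralizer_singleton_iff]
        calc a * y = (a * y * a⁻¹) * a := by group
          _ = y * a := by rw [h1]
      · rw [Subgroup.zpowers_le, Subgroup.mem_centralizer_singleton_iff]
        calc a' * y = (a' * y * a'⁻¹) * a' := by group
          _ = y * a' := by rw [h2]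
    show y ∈ Subgroup.centralizer (A : Set X)
    rw [Subgroup.mem_centralizer_iff]
    intro b hb
    have := Subgroup.mem_centralizer_singleton_iff.1 (h4 hb)
    exact this
  rw [hY, Subgroup.mem_bot] at h3
  exact h3

theorem gen_le (h : EA r A) (K M : Subgroup X) (hAK : A ≤ Subgroup.normalizer (K : Set X))
    (hcop : (Nat.card A).Coprime (Nat.card K))
    (hM : ∀ a ∈ A, a ≠ 1 → ∀ y ∈ K, a * y * a⁻¹ = y → y ∈ M) : K ≤ M := by
  haveI := h.isMulComm
  have h1 := Cfsg.Agent.S0058.result A K h.not_cyclic hAK hcop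
  rw [← h1]
  apply iSup₂_le
  rintro a ⟨ha, ha1⟩ y ⟨hy, hy2⟩
  apply hM a ha ha1 y hy
  have := Subgroup.mem_centralizer_singleton_iff.1 hy2
  rw [← this]; group

end EA

end grp

end Cfsg.Agent.Lib.Helper13.Ward
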