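import Mathlib
import Cfsg.Agent.Lib.Helper13.WardA
import Cfsg.Agent.S0026
import Cfsg.Agent.S0027

set_option autoImplicit false
set_option linter.unusedSectionVars false
set_option linter.style.haveILetI false

namespace Cfsg.Agent.Lib.Helper13.Ward

open Cfsg.Agent.Lib.Helper20 (prod_twist smul_prod_fixed)
open Cfsg.Agent.Lib.Helper1 (le_normalizer_commutator)
open scoped commutatorElement

variable {X V : Type*} [Group X] [Finite X] [CommGroup V] [Finite V] [MulDistribMulAction X V]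

theorem card_lt' {G : Type*} [Group G] [Finite G] {H K : Subgroup G} (h : H < K) :
    Nat.card H < Nat.card K :=
  Set.Finite.card_lt_card (Set.toFinite _) h

/-- `C_Y(a)`. -/
def Ca (Y : Subgroup X) (a : X) : Subgroup X := Y ⊓ Subgroup.centralizer ({a} : Set X)

theorem mem_Ca {Y : Subgroup X} {a y : X} : y ∈ Ca Y a ↔ y ∈ Y ∧ a * y * a⁻¹ = y := by
  unfold Ca
  rw [Subgroup.mem_inf, Subgroup.mem_centralizer_singleton_iff]
  constructor
  · rintro ⟨h1, h2⟩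
    exact ⟨h1, by rw [← h2]; group⟩
  · rintro ⟨h1, h2⟩
    refine ⟨h1, ?_⟩
    calc y * a = (a * y * a⁻¹) * a := by rw [h2]
      _ = a * y := by group

theorem Ca_le (Y : Subgroup X) (a : X) : Ca Y a ≤ Y := inf_le_left

/-- fixed points of one element. -/
def fe (a : X) : Subgroup V where
  carrier := {v | a • v = v}
  one_mem' := smul_one a
  mul_mem' := fun {x y} hx hy => by
    show a • (x * y) = x * y
    rw [smul_mul', hx, hy]
  inv_mem' := fun {x} hx => by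
    show a • x⁻¹ = x⁻¹
    rw [smul_inv', hx]

theorem mem_fe {a : X} {v : V} : v ∈ fe (V := V) a ↔ a • v = v := Iff.rfl

theorem mem_fx_iff_le_stab {K : Subgroup X} {v : V} :
    v ∈ fx (V := V) K ↔ K ≤ MulAction.stabilizer X v := Iff.rfl

theorem eq_one_of_pow_card {U : Subgroup V} {n : ℕ} (hcop : n.Coprime (Nat.card U)) {u : V}
    (hu : u ∈ U) (h : u ^ n = 1) : u = 1 := by
  have h1 : orderOf u ∣ n := orderOf_dvd_of_pow_eq_one h
  have h2 : orderOf u ∣ Nat.card U := Subgroup.orderOf_dvd_natCard U hu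
  have h3 : orderOf u ∣ 1 := by
    have := Nat.dvd_gcd h1 h2
    rwa [hcop] at this
  exact orderOf_eq_one_iff.1 (Nat.dvd_one.1 h3)

theorem eq_of_pow_eq {U : Subgroup V} {n : ℕ} (hcop : n.Coprime (Nat.card U)) {u v : V}
    (hu : u ∈ U) (hv : v ∈ U) (h : u ^ n = v ^ n) : u = v := by
  have := (powCoprime (G := U) hcop.symm).injective (a₁ := ⟨u, hu⟩) (a₂ := ⟨v, hv⟩)
    (Subtype.ext h)
  exact congrArg Subtype.val this

theorem smul_prod_pow (a : X) (r : ℕ) (hr : 0 < r) (har : a ^ r = 1) (w : V) :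
    a • (∏ i ∈ Finset.range r, a ^ i • w) = ∏ i ∈ Finset.range r, a ^ i • w := by
  obtain ⟨r', rfl⟩ : ∃ r', r = r' + 1 := ⟨r - 1, by omega⟩
  rw [Finset.smul_prod']
  have h1 : ∀ i, a • a ^ i • w = a ^ (i + 1) • w := fun i => by rw [pow_succ', mul_smul]
  simp only [h1]
  rw [Finset.prod_range_succ (fun i => a ^ (i + 1) • w),
    Finset.prod_range_succ' (fun i => a ^ i • w), har]
  simp

/-- a subgroup stabilizing `U` normalizes the kernel on `U`. -/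
theorem le_nz_kr {T : Subgroup X} {U : Subgroup V} (h : ∀ g ∈ T, ∀ u ∈ U, g • u ∈ U) :
    T ≤ Subgroup.normalizer ((kr (X := X) U : Subgroup X) : Set X) := by
  intro g hg
  apply mem_nz
  intro k hk u hu
  rw [mul_smul, mul_smul, hk _ (h _ (T.inv_mem hg) u hu), smul_inv_smul]

theorem nz_inf {Y Z : Subgroup X} {g : X} (h1 : g ∈ Subgroup.normalizer (Y : Set X))
    (h2 : g ∈ Subgroup.normalizer (Z : Set X)) :
    g ∈ Subgroup.normalizer ((Y ⊓ Z : Subgroup X) : Set X) := by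
  apply mem_nz
  intro x hx
  exact ⟨nz_conj h1 hx.1, nz_conj h2 hx.2⟩

/-- `g ∈ N(K)` maps `fx K` into itself. -/
theorem smul_mem_fx {K : Subgroup X} {g : X} (hg : g ∈ Subgroup.normalizer (K : Set X)) {v : V}
    (hv : v ∈ fx (V := V) K) : g • v ∈ fx (V := V) K := by
  intro k hk
  have h1 := hv _ (nz_conj' hg hk)
  calc k • g • v = g • (g⁻¹ * k * g) • v := by simp only [← mul_smul]; congr 1; group
    _ = g • v := by rw [h1]

theorem nz_lcs {T Q : Subgroup X} (h : T ≤ Subgroup.normalizer (Q : Set X)) (i : ℕ) :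
    T ≤ Subgroup.normalizer ((Q.lowerCentralSeries i : Subgroup X) : Set X) := by
  induction i with
  | zero => exact h
  | succ n ih => exact le_normalizer_commutator ih h

theorem norm_smul (Q : Subgroup X) [Fintype Q] {g : X}
    (hg : g ∈ Subgroup.normalizer (Q : Set X)) (u : V) :
    ∏ y : Q, (y : X) • (g • u) = g • ∏ y : Q, (y : X) • u := by
  rw [Finset.smul_prod']
  let f : Q → Q := fun k => ⟨g * k * g⁻¹, nz_conj hg k.2⟩
  have hinj : Function.Injective f := by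
    intro k l hkl
    have : g * (k : X) * g⁻¹ = g * l * g⁻¹ := congrArg Subtype.val hkl
    apply Subtype.ext
    simpa using this
  have hbij : Function.Bijective f := ⟨hinj, Finite.surjective_of_injective hinj⟩
  rw [← Function.Bijective.prod_comp hbij (fun k : Q => (k : X) • (g • u))]
  apply Finset.prod_congr rfl
  intro k _
  show (g * k * g⁻¹) • g • u = g • (k : X) • u
  simp only [← mul_smul]
  congr 1; group

/-- kernel of the norm. -/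
def nk (U : Subgroup V) (Q : Subgroup X) [Fintype Q] : Subgroup V where
  carrier := {u | u ∈ U ∧ ∏ y : Q, (y : X) • u = 1}
  one_mem' := ⟨U.one_mem, by simp⟩
  mul_mem' := fun {a b} ha hb => ⟨U.mul_mem ha.1 hb.1, by
    simp only [smul_mul', Finset.prod_mul_distrib, ha.2, hb.2, mul_one]⟩
  inv_mem' := fun {a} ha => ⟨U.inv_mem ha.1, by
    simp only [smul_inv', Finset.prod_inv_distrib, ha.2, inv_one]⟩

/-- the configuration. -/
structure Cfg (A : Subgroup X) (U : Subgroup V) (Q S : Subgroup X) : Prop where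
  AQ : A ≤ Subgroup.normalizer (Q : Set X)
  AS : A ≤ Subgroup.normalizer (S : Set X)
  SQ : S ≤ Subgroup.normalizer (Q : Set X)
  QU : ∀ g ∈ Q, ∀ u ∈ U, g • u ∈ U
  SU : ∀ g ∈ S, ∀ u ∈ U, g • u ∈ U
  AU : ∀ g ∈ A, ∀ u ∈ U, g • u ∈ U
  cAQ : (Nat.card A).Coprime (Nat.card Q)
  cAS : (Nat.card A).Coprime (Nat.card S)
  cQS : (Nat.card Q).Coprime (Nat.card S)
  cQU : (Nat.card Q).Coprime (Nat.card U)
  nQ : ∃ n, Q.lowerCentralSeries n = ⊥
  fQ : Q ⊓ Subgroup.centralizer (A : Set X) = ⊥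
  fS : S ⊓ Subgroup.centralizer (A : Set X) = ⊥
  fU : ∀ u ∈ U, (∀ a ∈ A, a • u = u) → u = 1

namespace Cfg

variable {A : Subgroup X} {U : Subgroup V} {Q S : Subgroup X}

theorem subQ (h : Cfg A U Q S) {Q' : Subgroup X} (hle : Q' ≤ Q)
    (hA : A ≤ Subgroup.normalizer (Q' : Set X)) (hS : S ≤ Subgroup.normalizer (Q' : Set X)) :
    Cfg A U Q' S :=
  { h with
    AQ := hA
    SQ := hS
    QU := fun g hg => h.QU g (hle hg)
    cAQ := h.cAQ.coprime_dvd_right (Subgroup.card_dvd_of_le hle)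
    cQS := h.cQS.coprime_dvd_left (Subgroup.card_dvd_of_le hle)
    cQU := h.cQU.coprime_dvd_left (Subgroup.card_dvd_of_le hle)
    nQ := by
      obtain ⟨n, hn⟩ := h.nQ
      exact ⟨n, le_bot_iff.1 (hn ▸ Subgroup.lowerCentralSeries_mono n hle)⟩
    fQ := le_bot_iff.1 (h.fQ ▸ inf_le_inf_right _ hle) }

theorem subS (h : Cfg A U Q S) {S' : Subgroup X} (hle : S' ≤ S)
    (hA : A ≤ Subgroup.normalizer (S' : Set X)) : Cfg A U Q S' :=
  { h with
    AS := hA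
    SQ := hle.trans h.SQ
    SU := fun g hg => h.SU g (hle hg)
    cAS := h.cAS.coprime_dvd_right (Subgroup.card_dvd_of_le hle)
    cQS := h.cQS.coprime_dvd_right (Subgroup.card_dvd_of_le hle)
    fS := le_bot_iff.1 (h.fS ▸ inf_le_inf_right _ hle) }

theorem subU (h : Cfg A U Q S) {U' : Subgroup V} (hle : U' ≤ U)
    (hQ : ∀ g ∈ Q, ∀ u ∈ U', g • u ∈ U') (hS : ∀ g ∈ S, ∀ u ∈ U', g • u ∈ U')
    (hA : ∀ g ∈ A, ∀ u ∈ U', g • u ∈ U') : Cfg A U' Q S :=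
  { h with
    QU := hQ
    SU := hS
    AU := hA
    cQU := h.cQU.coprime_dvd_right (Subgroup.card_dvd_of_le hle)
    fU := fun u hu => h.fU u (hle hu) }

theorem solvQ (h : Cfg A U Q S) : Group.IsSolvable Q := by
  have : Group.IsNilpotent Q := (Subgroup.isNilpotent_iff_lowerCentralSeries _).2 h.nQ
  infer_instance

end Cfg

/-- minimal counterexample. -/
structure MC (A : Subgroup X) (U : Subgroup V) (Q S : Subgroup X) : Prop extends Cfg A U Q S where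
  ih : ∀ (U' : Subgroup V) (Q' S' : Subgroup X),
    Nat.card U' + Nat.card Q' + Nat.card S' < Nat.card U + Nat.card Q + Nat.card S →
    Cfg A U' Q' S' → ⁅Q', S'⁆ ≤ kr U'
  ne : ¬ ⁅Q, S⁆ ≤ kr U

namespace MC

variable {A : Subgroup X} {U : Subgroup V} {Q S : Subgroup X} {r : ℕ}

theorem ihQ (h : MC A U Q S) {Q' : Subgroup X} (hlt : Q' < Q)
    (hA : A ≤ Subgroup.normalizer (Q' : Set X)) (hS : S ≤ Subgroup.normalizer (Q' : Set X)) :
    ⁅Q', S⁆ ≤ kr U :=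
  h.ih U Q' S (by have := card_lt' hlt; omega) (h.toCfg.subQ hlt.le hA hS)

theorem ihS (h : MC A U Q S) {S' : Subgroup X} (hlt : S' < S)
    (hA : A ≤ Subgroup.normalizer (S' : Set X)) : ⁅Q, S'⁆ ≤ kr U :=
  h.ih U Q S' (by have := card_lt' hlt; omega) (h.toCfg.subS hlt.le hA)

theorem QS_eq (h : MC A U Q S) : ⁅Q, S⁆ = Q := by
  have hle : ⁅Q, S⁆ ≤ Q := Subgroup.le_normalizer_iff_commutator_le_left.mp h.SQ
  by_contra hne
  have hlt : ⁅Q, S⁆ < Q := lt_of_le_of_ne hle hne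
  have h1 := h.ihQ hlt (le_normalizer_commutator h.AQ h.AS)
    (le_normalizer_commutator h.SQ Subgroup.le_normalizer)
  rw [Cfsg.Agent.S0027.result S Q h.SQ h.cQS.symm (Or.inr h.solvQ)] at h1
  exact h.ne h1

theorem Q_not_le (h : MC A U Q S) : ¬ Q ≤ kr U := by
  have := h.ne
  rwa [h.QS_eq] at this

theorem ihU (h : MC A U Q S) {U' : Subgroup V} (hlt : U' < U)
    (hQ : ∀ g ∈ Q, ∀ u ∈ U', g • u ∈ U') (hS : ∀ g ∈ S, ∀ u ∈ U', g • u ∈ U')
    (hA : ∀ g ∈ A, ∀ u ∈ U', g • u ∈ U') : Q ≤ kr U' := by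
  have := h.ih U' Q S (by have := card_lt' hlt; omega) (h.toCfg.subU hlt.le hQ hS hA)
  rwa [h.QS_eq] at this

theorem norm_one (h : MC A U Q S) [Fintype Q] : ∀ u ∈ U, ∏ y : Q, (y : X) • u = 1 := by
  by_cases hU2 : nk U Q = U
  · intro u hu
    rw [← hU2] at hu
    exact hu.2
  exfalso
  have hle : nk U Q ≤ U := fun u hu => hu.1
  have hlt : nk U Q < U := lt_of_le_of_ne hle hU2
  have hinv : ∀ T : Subgroup X, T ≤ Subgroup.normalizer (Q : Set X) →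
      (∀ g ∈ T, ∀ u ∈ U, g • u ∈ U) → ∀ g ∈ T, ∀ u ∈ nk U Q, g • u ∈ nk U Q := by
    intro T hT hTU g hg u hu
    refine ⟨hTU g hg u hu.1, ?_⟩
    rw [norm_smul Q (hT hg), hu.2, smul_one]
  have h1 := h.ihU hlt (hinv Q Subgroup.le_normalizer h.QU) (hinv S h.SQ h.SU) (hinv A h.AQ h.AU)
  have hcard : ∀ n : V, (∀ y ∈ Q, y • n = n) → ∏ y : Q, (y : X) • n = n ^ (Nat.card Q) := by
    intro n hn
    rw [Finset.prod_congr rfl (fun (y : Q) _ => hn y y.2), Finset.prod_const, Finset.card_univ,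
      Nat.card_eq_fintype_card]
  have hinj : ∀ u ∈ U, ∏ y : Q, (y : X) • u = 1 → u = 1 := by
    intro u hu hN
    have hu2 : u ∈ nk U Q := ⟨hu, hN⟩
    rw [hcard u (fun y hy => h1 hy u hu2)] at hN
    exact eq_one_of_pow_card h.cQU hu hN
  apply h.Q_not_le
  intro y hy u hu
  set n := ∏ y : Q, (y : X) • u with hn
  have hnU : n ∈ U := Subgroup.prod_mem _ (fun y _ => h.QU y y.2 u hu)
  have hnfix : ∀ y ∈ Q, y • n = n := fun y hy => smul_prod_fixed Q ⟨y, hy⟩ u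
  have h2 : n * (u ^ (Nat.card Q))⁻¹ = 1 := by
    apply hinj _ (U.mul_mem hnU (U.inv_mem (U.pow_mem hu _)))
    simp only [smul_mul', smul_inv', smul_pow', Finset.prod_mul_distrib, Finset.prod_inv_distrib,
      Finset.prod_pow]
    rw [hcard n hnfix, ← hn, mul_inv_cancel]
  have h3 : n = u ^ (Nat.card Q) := mul_inv_eq_one.1 h2
  have h4 := hnfix y hy
  rw [h3, smul_pow'] at h4
  exact eq_of_pow_eq h.cQU (h.QU y hy u hu) hu h4

theorem fxQ (h : MC A U Q S) : ∀ u ∈ U, (∀ y ∈ Q, y • u = u) → u = 1 := by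
  classical
  have : Fintype Q := Fintype.ofFinite Q
  intro u hu hfix
  have h1 := h.norm_one u hu
  rw [Finset.prod_congr rfl (fun (y : Q) _ => hfix y y.2), Finset.prod_const, Finset.card_univ,
    ← Nat.card_eq_fintype_card] at h1
  exact eq_one_of_pow_card h.cQU hu h1

theorem irr (h : MC A U Q S) {U' : Subgroup V} (hle : U' ≤ U)
    (hQ : ∀ g ∈ Q, ∀ u ∈ U', g • u ∈ U') (hS : ∀ g ∈ S, ∀ u ∈ U', g • u ∈ U')
    (hA : ∀ g ∈ A, ∀ u ∈ U', g • u ∈ U') (hne : U' ≠ ⊥) : U' = U := by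
  by_contra hcon
  have h1 := h.ihU (lt_of_le_of_ne hle hcon) hQ hS hA
  apply hne
  rw [eq_bot_iff]
  intro u hu
  exact h.fxQ u (hle hu) (fun y hy => h1 hy u hu)

/-- `R = C_Q(U)`. -/
theorem nzR (_h : MC A U Q S) {T : Subgroup X} (hT : T ≤ Subgroup.normalizer (Q : Set X))
    (hTU : ∀ g ∈ T, ∀ u ∈ U, g • u ∈ U) :
    T ≤ Subgroup.normalizer ((Q ⊓ kr U : Subgroup X) : Set X) :=
  fun _ hg => nz_inf (hT hg) (le_nz_kr hTU hg)

theorem not_comm_le (h : MC A U Q S) : ¬ ⁅S, Q⁆ ≤ Q ⊓ kr U := by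
  intro hcon
  apply h.ne
  rw [Subgroup.commutator_comm]
  exact hcon.trans inf_le_right

theorem nz_Ca (hA : EA r A) {Y : Subgroup X} (hY : A ≤ Subgroup.normalizer (Y : Set X)) {a : X}
    (ha : a ∈ A) : A ≤ Subgroup.normalizer ((Ca Y a : Subgroup X) : Set X) := by
  intro c hc
  apply mem_nz
  intro x hx
  rw [mem_Ca] at hx ⊢
  refine ⟨nz_conj (hY hc) hx.1, ?_⟩
  have hac : a * c = c * a := hA.comm a ha c hc
  calc a * (c * x * c⁻¹) * a⁻¹ = (a * c) * x * (a * c)⁻¹ := by group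
    _ = c * (a * x * a⁻¹) * c⁻¹ := by rw [hac]; group
    _ = c * x * c⁻¹ := by rw [hx.2]

/-- Step 3: some `b ∈ A#` centralizes `S`. -/
theorem exists_b (hA : EA r A) (h : MC A U Q S) :
    ∃ b ∈ A, b ≠ 1 ∧ ∀ x ∈ S, b * x * b⁻¹ = x := by
  by_contra hcon
  apply h.not_comm_le
  apply comm_le_of_le_cm
  apply hA.gen_le S _ h.AS h.cAS
  intro a ha ha1 x hx hax
  have hlt : Ca S a < S := by
    refine lt_of_le_of_ne (Ca_le S a) fun heq => hcon ⟨a, ha, ha1, fun x hx => ?_⟩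
    rw [← heq] at hx
    exact (mem_Ca.1 hx).2
  have h1 := h.ihS hlt (nz_Ca hA h.AS ha)
  have h2 : ⁅Ca S a, Q⁆ ≤ Q ⊓ kr U := by
    rw [Subgroup.commutator_comm]
    exact le_inf (Subgroup.le_normalizer_iff_commutator_le_left.mp ((Ca_le S a).trans h.SQ)) h1
  exact le_cm ((Ca_le S a).trans (h.nzR h.SQ h.SU)) h2 (mem_Ca.2 ⟨hx, hax⟩)

theorem S_le_cm {a : X} {S Q M : Subgroup X} (haS : a ∈ Subgroup.normalizer (S : Set X))
    (hf : ∀ x ∈ S, a * x * a⁻¹ = x → x = 1)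
    (hconj : ∀ y ∈ S, y⁻¹ * a * y ∈ cm Q M) (ha : a ∈ cm Q M) : S ≤ cm Q M := by
  intro z hz
  obtain ⟨y, hy, hyz⟩ := fpf_comm_surj a S (fun x hx => nz_conj haS hx) hf z hz
  rw [← hyz]
  have := (cm Q M).mul_mem (hconj y hy) ((cm Q M).inv_mem ha)
  convert this using 1; group

theorem comm_zpowers_eq_one {a y z : X} (hz : z ∈ Subgroup.zpowers a) (hy : a * y * a⁻¹ = y) :
    ⁅y, z⁆ = 1 := by
  have h1 := EA.fix_of_mem_zpowers hz hy
  rw [commutatorElement_def]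
  calc y * z * y⁻¹ * z⁻¹ = y * (z * y * z⁻¹)⁻¹ := by group
    _ = 1 := by rw [h1, mul_inv_cancel]

theorem U_eq_one_of_fix (hA : EA r A) (h : MC A U Q S) {a a' : X} (ha : a ∈ A) (ha1 : a ≠ 1)
    (ha' : a' ∈ A) (hind : a' ∉ Subgroup.zpowers a) {u : V} (hu : u ∈ U) (h1 : a • u = u)
    (h2 : a' • u = u) : u = 1 := by
  apply h.fU u hu
  have h3 : A ≤ MulAction.stabilizer X u := by
    rw [← hA.sup_eq ha ha1 ha' hind]
    exact sup_le ((Subgroup.zpowers_le).2 h1) ((Subgroup.zpowers_le).2 h2)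
  exact fun c hc => h3 hc

theorem fpfS (hA : EA r A) (h : MC A U Q S) {b : X} (hb : b ∈ A) (hb1 : b ≠ 1)
    (hbS : ∀ x ∈ S, b * x * b⁻¹ = x) {a : X} (ha : a ∈ A) (hab : a ∉ Subgroup.zpowers b) :
    ∀ x ∈ S, a * x * a⁻¹ = x → x = 1 :=
  fun x hx hax => hA.eq_one_of_fix h.fS hb hb1 ha hab hx (hbS x hx) hax

/-- Step 5: `[C_U(a), C_Q(a)] = 1`. -/
theorem VQ (hA : EA r A) (h : MC A U Q S) {a : X} (ha : a ∈ A) (ha1 : a ≠ 1) :
    ∀ u ∈ U, a • u = u → ∀ y ∈ Q, a * y * a⁻¹ = y → y • u = u := by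
  obtain ⟨a', ha', hind⟩ := hA.exists_ind ha
  intro u hu hau y hy hay
  refine frob_avg a' r hA.prime (hA.exp a' ha') (U ⊓ fe a) (Ca Q a) ?_ ?_ ?_ ?_ ?_ ?_ y
    (mem_Ca.2 ⟨hy, hay⟩) u ⟨hu, hau⟩
  · exact fun k hk => nz_conj (nz_Ca hA h.AQ ha ha') hk
  · exact fun k hk hk2 => hA.eq_one_of_fix h.fQ ha ha1 ha' hind (mem_Ca.1 hk).1 (mem_Ca.1 hk).2 hk2
  · intro v hv
    refine ⟨h.AU a' ha' v hv.1, ?_⟩
    show a • a' • v = a' • v
    have hv2 : a • v = v := hv.2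
    rw [← mul_smul, hA.comm a ha a' ha', mul_smul, hv2]
  · intro k hk v hv
    refine ⟨h.QU k (Ca_le _ _ hk) v hv.1, ?_⟩
    show a • k • v = k • v
    have hv2 : a • v = v := hv.2
    have hk2 : a * k = k * a := by
      calc a * k = (a * k * a⁻¹) * a := by group
        _ = k * a := by rw [(mem_Ca.1 hk).2]
    rw [← mul_smul, hk2, mul_smul, hv2]
  · exact fun v hv hv2 => U_eq_one_of_fix hA h ha ha1 ha' hind hv.1 hv.2 hv2
  · exact (h.cQU.coprime_dvd_left (Subgroup.card_dvd_of_le (Ca_le Q a))).coprime_dvd_right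
      (Subgroup.card_dvd_of_le inf_le_left)

theorem QbS (hA : EA r A) (h : MC A U Q S) {b : X} (hb : b ∈ A) (hb1 : b ≠ 1)
    (hbS : ∀ x ∈ S, b * x * b⁻¹ = x) : ⁅Ca Q b, S⁆ = ⊥ := by
  obtain ⟨a, ha, hind⟩ := hA.exists_ind hb
  refine thompson_comm (Ca Q b) S a r hA.prime (hA.exp a ha) ?_ (nz_Ca hA h.AQ hb ha) (h.AS ha)
    (h.cQS.coprime_dvd_left (Subgroup.card_dvd_of_le (Ca_le Q b))) ?_
    (fpfS hA h hb hb1 hbS ha hind)
  · intro x hx
    apply mem_nz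
    intro y hy
    rw [mem_Ca] at hy ⊢
    refine ⟨nz_conj (h.SQ hx) hy.1, ?_⟩
    calc b * (x * y * x⁻¹) * b⁻¹ = (b * x * b⁻¹) * (b * y * b⁻¹) * (b * x * b⁻¹)⁻¹ := by group
      _ = x * y * x⁻¹ := by rw [hbS x hx, hy.2]
  · exact fun y hy hay =>
      hA.eq_one_of_fix h.fQ hb hb1 ha hind (mem_Ca.1 hy).1 (mem_Ca.1 hy).2 hay

theorem Ua_of (hA : EA r A) (h : MC A U Q S) {a₁ : X} (ha₁ : a₁ ∈ A) (h11 : a₁ ≠ 1)
    (hne : ¬ Ca Q a₁ ≤ kr U) {a : X} (ha : a ∈ A) (hind : a ∉ Subgroup.zpowers a₁) :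
    ∃ u ∈ U, u ≠ 1 ∧ a • u = u := by
  by_contra hcon
  apply hne
  intro k hk u hu
  exact frob_avg a r hA.prime (hA.exp a ha) U (Ca Q a₁)
    (fun k hk => nz_conj (nz_Ca hA h.AQ ha₁ ha) hk)
    (fun k hk hak => hA.eq_one_of_fix h.fQ ha₁ h11 ha hind (mem_Ca.1 hk).1 (mem_Ca.1 hk).2 hak)
    (h.AU a ha) (fun k hk => h.QU k (Ca_le _ _ hk))
    (fun u hu hau => by by_contra hu1; exact hcon ⟨u, hu, hu1, hau⟩)
    (h.cQU.coprime_dvd_left (Subgroup.card_dvd_of_le (Ca_le Q a₁))) k hk u hu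

theorem exists_a1 (hA : EA r A) (h : MC A U Q S) : ∃ a₁ ∈ A, a₁ ≠ 1 ∧ ¬ Ca Q a₁ ≤ kr U := by
  by_contra hcon
  apply h.Q_not_le
  apply hA.gen_le Q _ h.AQ h.cAQ
  intro a ha ha1 y hy hay
  by_contra hy2
  exact hcon ⟨a, ha, ha1, fun hle => hy2 (hle (mem_Ca.2 ⟨hy, hay⟩))⟩

theorem exists_a2 (hA : EA r A) (h : MC A U Q S) {b : X} (hb : b ∈ A) (hb1 : b ≠ 1)
    (hbS : ∀ x ∈ S, b * x * b⁻¹ = x) {a₁ : X} (ha₁ : a₁ ∈ A) (h11 : a₁ ≠ 1) :
    ∃ a₂ ∈ A, a₂ ∉ Subgroup.zpowers a₁ ∧ ¬ Ca Q a₂ ≤ kr U := by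
  by_contra hcon
  have hcon' : ∀ a₂ ∈ A, a₂ ∉ Subgroup.zpowers a₁ → Ca Q a₂ ≤ kr U := fun a₂ h2 h3 => by
    by_contra h4; exact hcon ⟨a₂, h2, h3, h4⟩
  have hgen : ∀ D : Subgroup X, Ca Q a₁ ≤ D → Q ⊓ kr U ≤ D → Q ≤ D := by
    intro D h1 h2
    apply hA.gen_le Q _ h.AQ h.cAQ
    intro a ha ha1 y hy hay
    by_cases hm : a ∈ Subgroup.zpowers a₁
    · apply h1
      rw [mem_Ca]
      exact ⟨hy, EA.fix_of_mem_zpowers (hA.mem_zpowers_symm ha₁ ha ha1 hm) hay⟩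
    · exact h2 ⟨hy, hcon' a ha hm (mem_Ca.2 ⟨hy, hay⟩)⟩
  have hQR := h.nzR Subgroup.le_normalizer h.QU
  have hSR := h.nzR h.SQ h.SU
  have hAR := h.nzR h.AQ h.AU
  by_cases hm : a₁ ∈ Subgroup.zpowers b
  · apply h.ne
    refine (comm_le_of_le_cm (hgen (cm S (Q ⊓ kr U)) ?_ ?_)).trans inf_le_right
    · apply le_cm ((Ca_le Q a₁).trans hQR)
      have h1 : Ca Q a₁ ≤ Ca Q b := by
        intro y hy
        rw [mem_Ca] at hy ⊢
        exact ⟨hy.1, EA.fix_of_mem_zpowers (hA.mem_zpowers_symm hb ha₁ h11 hm) hy.2⟩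
      calc ⁅Ca Q a₁, S⁆ ≤ ⁅Ca Q b, S⁆ := Subgroup.commutator_mono h1 le_rfl
        _ = ⊥ := QbS hA h hb hb1 hbS
        _ ≤ _ := bot_le
    · exact le_cm Subgroup.le_normalizer (Subgroup.le_normalizer_iff_commutator_le_left.mp hSR)
  · apply h.not_comm_le
    apply comm_le_of_le_cm
    have hz : Subgroup.zpowers a₁ ≤ Subgroup.normalizer ((Q ⊓ kr U : Subgroup X) : Set X) :=
      (Subgroup.zpowers_le).2 (hAR ha₁)
    have h1 : Q ≤ cm (Subgroup.zpowers a₁) (Q ⊓ kr U) := by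
      apply hgen
      · apply le_cm ((Ca_le Q a₁).trans hQR)
        rw [Subgroup.commutator_le]
        intro y hy z hz
        rw [comm_zpowers_eq_one hz (mem_Ca.1 hy).2]
        exact Subgroup.one_mem _
      · exact le_cm Subgroup.le_normalizer (Subgroup.le_normalizer_iff_commutator_le_left.mp hz)
    have h2 : ⁅Subgroup.zpowers a₁, Q⁆ ≤ Q ⊓ kr U := by
      rw [Subgroup.commutator_comm]; exact comm_le_of_le_cm h1
    have h3 : a₁ ∈ cm Q (Q ⊓ kr U) := le_cm hz h2 (Subgroup.mem_zpowers a₁)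
    apply S_le_cm (h.AS ha₁) (fpfS hA h hb hb1 hbS ha₁ hm) _ h3
    intro y hy
    have := conj_mem_cm (Subgroup.inv_mem _ (h.SQ hy)) (Subgroup.inv_mem _ (hSR hy)) h3
    simpa using this

/-- Step 6. -/
theorem Ua (hA : EA r A) (h : MC A U Q S) {b : X} (hb : b ∈ A) (hb1 : b ≠ 1)
    (hbS : ∀ x ∈ S, b * x * b⁻¹ = x) {a : X} (ha : a ∈ A) (ha1 : a ≠ 1) :
    ∃ u ∈ U, u ≠ 1 ∧ a • u = u := by
  obtain ⟨a₁, ha₁, h11, hne1⟩ := exists_a1 hA h
  obtain ⟨a₂, ha₂, hind2, hne2⟩ := exists_a2 hA h hb hb1 hbS ha₁ h11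
  by_cases hm : a ∈ Subgroup.zpowers a₁
  · have h21 : a₂ ≠ 1 := fun h0 => hind2 (h0 ▸ Subgroup.one_mem _)
    apply Ua_of hA h ha₂ h21 hne2 ha
    intro hm2
    have h3 := hA.mem_zpowers_symm ha₂ ha ha1 hm2
    exact hind2 (((Subgroup.zpowers_le).2 hm) h3)
  · exact Ua_of hA h ha₁ h11 hne1 ha hm

/-- Step 7, key lemma. -/
theorem T1 (hA : EA r A) (h : MC A U Q S) {b : X} (hb : b ∈ A) (hb1 : b ≠ 1)
    (hbS : ∀ x ∈ S, b * x * b⁻¹ = x) {Z : Subgroup X} (hZQ : Z ≤ Q)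
    (hAZ : A ≤ Subgroup.normalizer (Z : Set X)) (hZS : ⁅Z, S⁆ ≤ kr U) (hZQ' : ⁅Z, Q⁆ ≤ kr U) :
    Z ≤ kr U := by
  apply hA.gen_le Z _ hAZ (h.cAQ.coprime_dvd_right (Subgroup.card_dvd_of_le hZQ))
  intro a ha ha1 z hz haz
  have hinv : ∀ T : Subgroup X, (∀ g ∈ T, ∀ u ∈ U, g • u ∈ U) → ⁅Z, T⁆ ≤ kr U →
      ∀ g ∈ T, ∀ u ∈ U ⊓ fx (Ca Z a), g • u ∈ U ⊓ fx (Ca Z a) := by
    intro T hTU hZT g hg u hu
    refine ⟨hTU g hg u hu.1, ?_⟩
    intro z' hz'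
    have hc : ⁅z'⁻¹, g⁻¹⁆ ∈ kr U :=
      hZT (Subgroup.commutator_mem_commutator (Z.inv_mem (Ca_le _ _ hz')) (T.inv_mem hg))
    have h1 : z' • g • u = g • z' • ⁅z'⁻¹, g⁻¹⁆ • u := by
      simp only [← mul_smul, commutatorElement_def]; congr 1; group
    rw [h1, hc u hu.1, hu.2 z' hz']
  obtain ⟨u₀, hu₀, hu₀1, hau₀⟩ := Ua hA h hb hb1 hbS ha ha1
  have hU0 : U ⊓ fx (Ca Z a) = U := by
    apply h.irr inf_le_left (hinv Q h.QU hZQ') (hinv S h.SU hZS)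
    · intro g hg u hu
      exact ⟨h.AU g hg u hu.1, smul_mem_fx (nz_Ca hA hAZ ha hg) hu.2⟩
    · intro hbot
      have : u₀ ∈ U ⊓ fx (Ca Z a) :=
        ⟨hu₀, fun z' hz' => VQ hA h ha ha1 u₀ hu₀ hau₀ z' (hZQ (Ca_le _ _ hz')) (mem_Ca.1 hz').2⟩
      rw [hbot, Subgroup.mem_bot] at this
      exact hu₀1 this
  intro u hu
  rw [← hU0] at hu
  exact hu.2 z (mem_Ca.2 ⟨hz, haz⟩)

theorem lcs_le (hA : EA r A) (h : MC A U Q S) {b : X} (hb : b ∈ A) (hb1 : b ≠ 1)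
    (hbS : ∀ x ∈ S, b * x * b⁻¹ = x) : ⁅Q, Q⁆ ≤ kr U := by
  obtain ⟨n, hn⟩ := h.nQ
  have hne1 : Q.lowerCentralSeries 1 ≠ Q := by
    intro heq
    have : ∀ j, Q.lowerCentralSeries j = Q := by
      intro j
      induction j with
      | zero => rfl
      | succ k ih => rw [Subgroup.lowerCentralSeries_succ, ih]; exact heq
    apply h.Q_not_le
    rw [← this n, hn]; exact bot_le
  have key : ∀ d i, i + d = n → 1 ≤ i → Q.lowerCentralSeries i ≤ kr U := by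
    intro d
    induction d with
    | zero =>
      intro i hi _
      have : i = n := by omega
      rw [this, hn]; exact bot_le
    | succ d ih =>
      intro i hi h1
      have h2 := ih (i + 1) (by omega) (by omega)
      have hle1 : Q.lowerCentralSeries i ≤ Q.lowerCentralSeries 1 :=
        Subgroup.lowerCentralSeries_antitone Q h1
      have hlt : Q.lowerCentralSeries i < Q :=
        lt_of_le_of_lt hle1 (lt_of_le_of_ne (Subgroup.lowerCentralSeries_antitone Q (Nat.zero_le 1)) hne1)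
      exact T1 hA h hb hb1 hbS hlt.le (nz_lcs h.AQ i) (h.ihQ hlt (nz_lcs h.AQ i) (nz_lcs h.SQ i)) h2
  by_cases hin : 1 ≤ n
  · exact key (n - 1) 1 (by omega) le_rfl
  · have h0 : n = 0 := by omega
    rw [h0] at hn
    have hQ : Q = ⊥ := hn
    exact absurd (hQ ▸ bot_le) h.Q_not_le

end MC

/-- the family of subgroups between `C_Q(U)` and `Q` with nontrivial fixed points. -/
def Fam (U : Subgroup V) (Q : Subgroup X) (K : Subgroup X) : Prop :=
  Q ⊓ kr U ≤ K ∧ K ≤ Q ∧ U ⊓ fx K ≠ ⊥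

theorem exists_pow_pow_eq {a : X} {r i : ℕ} (hr : r.Prime) (har : a ^ r = 1) (hi0 : 0 < i)
    (hir : i < r) : ∃ m : ℕ, (a ^ i) ^ m = a := by
  have hcop : Nat.Coprime i r := (Nat.coprime_of_lt_prime hi0.ne' hir hr).symm
  obtain ⟨m, -, hm⟩ := Nat.exists_mul_mod_eq_one_of_coprime hcop hr.one_lt
  exact ⟨m, by rw [← pow_mul, pow_eq_pow_mod (i * m) har, hm, pow_one]⟩

theorem exists_ne_one_of_ne_bot {W : Subgroup V} (h : W ≠ ⊥) : ∃ w ∈ W, w ≠ 1 := by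
  by_contra hcon
  apply h
  rw [eq_bot_iff]
  intro w hw
  by_contra hw1
  exact hcon ⟨w, hw, hw1⟩

section fam

variable {U : Subgroup V} {Q : Subgroup X}

theorem nzK (hQ' : ⁅Q, Q⁆ ≤ kr U) {K : Subgroup X} (h1 : Q ⊓ kr U ≤ K) (h2 : K ≤ Q) :
    Q ≤ Subgroup.normalizer (K : Set X) := by
  intro y hy
  apply mem_nz
  intro k hk
  have hc : ⁅y, k⁆ ∈ ⁅Q, Q⁆ := Subgroup.commutator_mem_commutator hy (h2 hk)
  have hc2 : ⁅y, k⁆ ∈ Q := by
    rw [commutatorElement_def]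
    exact Q.mul_mem (Q.mul_mem (Q.mul_mem hy (h2 hk)) (Q.inv_mem hy)) (Q.inv_mem (h2 hk))
  have := K.mul_mem (h1 ⟨hc2, hQ' hc⟩) hk
  convert this using 1
  rw [commutatorElement_def]; group

theorem sep {K : Subgroup X} (hK : Maximal (Fam U Q) K) {K' : Subgroup X} (h1 : K' ≤ Q)
    (h2 : ¬ K' ≤ K) {u : V} (hu : u ∈ U) (hu1 : u ∈ fx (V := V) K) (hu2 : u ∈ fx (V := V) K') :
    u = 1 := by
  by_contra hne
  apply h2
  have hF : Fam U Q (K ⊔ K') := by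
    refine ⟨hK.prop.1.trans le_sup_left, sup_le hK.prop.2.1 h1, fun hbot => hne ?_⟩
    have : u ∈ U ⊓ fx (K ⊔ K') := ⟨hu, mem_fx_iff_le_stab.2
      (sup_le (mem_fx_iff_le_stab.1 hu1) (mem_fx_iff_le_stab.1 hu2))⟩
    rw [hbot, Subgroup.mem_bot] at this
    exact this
  exact le_sup_right.trans (hK.le_of_ge hF le_sup_left)

theorem sep1 {K : Subgroup X} (hK : Maximal (Fam U Q) K) {y : X} (hy : y ∈ Q) (hyK : y ∉ K)
    {u : V} (hu : u ∈ U) (hu1 : u ∈ fx (V := V) K) (hu2 : y • u = u) : u = 1 := by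
  apply sep hK (K' := Subgroup.zpowers y) ((Subgroup.zpowers_le).2 hy)
    (fun hle => hyK (hle (Subgroup.mem_zpowers y))) hu hu1
  rw [mem_fx_iff_le_stab, Subgroup.zpowers_le]
  exact hu2

theorem Fam_cj {K : Subgroup X} (hK : Fam U Q K) {g : X}
    (hgQ : g ∈ Subgroup.normalizer (Q : Set X))
    (hgR : g ∈ Subgroup.normalizer ((Q ⊓ kr U : Subgroup X) : Set X))
    (hgU : ∀ u ∈ U, g⁻¹ • u ∈ U) : Fam U Q (cj K g) := by
  refine ⟨?_, ?_, ?_⟩
  · calc Q ⊓ kr U = cj (Q ⊓ kr U) g := (mem_normalizer_iff_cj.1 hgR).symm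
      _ ≤ cj K g := cj_mono hK.1 g
  · calc cj K g ≤ cj Q g := cj_mono hK.2.1 g
      _ = Q := mem_normalizer_iff_cj.1 hgQ
  · obtain ⟨u, hu, hu1⟩ := exists_ne_one_of_ne_bot hK.2.2
    intro hbot
    have : g⁻¹ • u ∈ U ⊓ fx (cj K g) := by
      refine ⟨hgU u hu.1, fun k hk => ?_⟩
      have h1 := hu.2 _ (mem_cj.1 hk)
      calc k • g⁻¹ • u = g⁻¹ • (g * k * g⁻¹) • u := by
            simp only [← mul_smul]; congr 1; group
        _ = g⁻¹ • u := by rw [h1]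
    rw [hbot, Subgroup.mem_bot, inv_smul_eq_iff, smul_one] at this
    exact hu1 this

theorem Mx_cj {K T : Subgroup X} (hK : Maximal (Fam U Q) K)
    (hTQ : T ≤ Subgroup.normalizer (Q : Set X)) (hTU : ∀ g ∈ T, ∀ u ∈ U, g • u ∈ U) {g : X}
    (hg : g ∈ T) : Maximal (Fam U Q) (cj K g) := by
  have hTR : T ≤ Subgroup.normalizer ((Q ⊓ kr U : Subgroup X) : Set X) :=
    fun _ hg => nz_inf (hTQ hg) (le_nz_kr hTU hg)
  refine ⟨Fam_cj hK.prop (hTQ hg) (hTR hg) (hTU _ (T.inv_mem hg)), fun K' hK' hle => ?_⟩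
  have h1 : Fam U Q (cj K' g⁻¹) :=
    Fam_cj hK' (hTQ (T.inv_mem hg)) (hTR (T.inv_mem hg)) (by simpa using hTU g hg)
  have h2 : K ≤ cj K' g⁻¹ := cj_le_iff.1 hle
  have h3 := hK.le_of_ge h1 h2
  have h4 := cj_le_iff.1 h3
  simpa using h4

theorem cm_cj {K : Subgroup X} {g x : X} (hg : g ∈ cm Q K)
    (hx : x ∈ Subgroup.normalizer (Q : Set X)) : x * g * x⁻¹ ∈ cm Q (cj K x⁻¹) := by
  refine ⟨?_, fun y hy => ?_⟩
  · rw [← cj_normalizer, mem_cj]
    convert hg.1 using 1; group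
  · rw [mem_cj]
    have := hg.2 _ (nz_conj' hx hy)
    convert this using 1; group

end fam

/-- minimal counterexample together with `b`. -/
structure MB (r : ℕ) (A : Subgroup X) (U : Subgroup V) (Q S : Subgroup X) (b : X) : Prop
    extends MC A U Q S where
  hA : EA r A
  hb : b ∈ A
  hb1 : b ≠ 1
  hbS : ∀ x ∈ S, b * x * b⁻¹ = x

namespace MB

variable {A : Subgroup X} {U : Subgroup V} {Q S : Subgroup X} {r : ℕ} {b : X}

theorem hQ' (m : MB r A U Q S b) : ⁅Q, Q⁆ ≤ kr U := MC.lcs_le m.hA m.toMC m.hb m.hb1 m.hbS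

theorem not_le (m : MB r A U Q S b) {K : Subgroup X} (hK : Maximal (Fam U Q) K) : ¬ Q ≤ K := by
  intro hle
  obtain ⟨u, hu, hu1⟩ := exists_ne_one_of_ne_bot hK.prop.2.2
  exact hu1 (m.fxQ u hu.1 (fun y hy => hu.2 y (hle hy)))

theorem dich (m : MB r A U Q S b) {K : Subgroup X} (hK : Maximal (Fam U Q) K) {a : X}
    (ha : a ∈ A) (ha1 : a ≠ 1) : Ca Q a ≤ K ∨ a ∈ cm Q K := by
  classical
  by_contra hcon
  rw [not_or] at hcon
  obtain ⟨hc1, hc2⟩ := hcon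
  obtain ⟨y₀, hy₀, hy₀K⟩ := SetLike.not_le_iff_exists.1 hc1
  have hQK : Q ≤ Subgroup.normalizer (K : Set X) := nzK m.hQ' hK.prop.1 hK.prop.2.1
  obtain ⟨w, hw, hw1⟩ := exists_ne_one_of_ne_bot hK.prop.2.2
  have hr := m.hA.prime
  by_cases haK : a ∈ Subgroup.normalizer (K : Set X)
  · have hex : ∃ a₂ ∈ A, a₂ ∉ Subgroup.zpowers a ∧ ¬ Ca Q a₂ ≤ K := by
      by_contra hcon
      have hcon' : ∀ a₂ ∈ A, a₂ ∉ Subgroup.zpowers a → Ca Q a₂ ≤ K := fun a₂ h2 h3 => by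
        by_contra h4; exact hcon ⟨a₂, h2, h3, h4⟩
      apply hc2
      have hz : Subgroup.zpowers a ≤ Subgroup.normalizer (K : Set X) := (Subgroup.zpowers_le).2 haK
      have h1 : Q ≤ cm (Subgroup.zpowers a) K := by
        apply m.hA.gen_le Q _ m.AQ m.cAQ
        intro c hc hc1 y hy hcy
        by_cases hm : c ∈ Subgroup.zpowers a
        · refine ⟨hQK hy, fun z hz => ?_⟩
          have := MC.comm_zpowers_eq_one hz
            (EA.fix_of_mem_zpowers (m.hA.mem_zpowers_symm ha hc hc1 hm) hcy)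
          rw [commutatorElement_def] at this
          rw [this]; exact K.one_mem
        · have hyK : y ∈ K := hcon' c hc hm (mem_Ca.2 ⟨hy, hcy⟩)
          refine ⟨hQK hy, fun z hz' => ?_⟩
          have := K.mul_mem hyK (nz_conj (hz hz') (K.inv_mem hyK))
          convert this using 1; group
      have h2 : ⁅Subgroup.zpowers a, Q⁆ ≤ K := by
        rw [Subgroup.commutator_comm]; exact comm_le_of_le_cm h1
      exact le_cm hz h2 (Subgroup.mem_zpowers a)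
    obtain ⟨a₂, ha₂, hind, hne⟩ := hex
    obtain ⟨y₂, hy₂, hy₂K⟩ := SetLike.not_le_iff_exists.1 hne
    have hfix : ∃ u ∈ U ⊓ fx K, u ≠ 1 ∧ a • u = u := by
      by_contra hcon
      have := frob_avg a r hr (m.hA.exp a ha) (U ⊓ fx K) (Ca Q a₂)
        (fun k hk => nz_conj (MC.nz_Ca m.hA m.AQ ha₂ ha) hk)
        (fun k hk hak => m.hA.eq_one_of_fix m.fQ ha ha1 ha₂ hind (mem_Ca.1 hk).1 hak
          (mem_Ca.1 hk).2)
        (fun u hu => ⟨m.AU a ha u hu.1, smul_mem_fx haK hu.2⟩)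
        (fun k hk u hu => ⟨m.QU k (Ca_le _ _ hk) u hu.1, smul_mem_fx (hQK (Ca_le _ _ hk)) hu.2⟩)
        (fun u hu hau => by by_contra hu1; exact hcon ⟨u, hu, hu1, hau⟩)
        ((m.cQU.coprime_dvd_left (Subgroup.card_dvd_of_le (Ca_le Q a₂))).coprime_dvd_right
          (Subgroup.card_dvd_of_le inf_le_left)) y₂ hy₂ w hw
      exact hw1 (sep1 hK (Ca_le _ _ hy₂) hy₂K hw.1 hw.2 this)
    obtain ⟨u, hu, hu1, hau⟩ := hfix
    exact hu1 (sep1 hK (Ca_le _ _ hy₀) hy₀K hu.1 hu.2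
      (MC.VQ m.hA m.toMC ha ha1 u hu.1 hau y₀ (mem_Ca.1 hy₀).1 (mem_Ca.1 hy₀).2))
  · have : Fintype K := Fintype.ofFinite K
    have har := m.hA.exp a ha
    have hpowU : ∀ i : ℕ, a ^ i • w ∈ U := fun i => m.AU _ (A.pow_mem ha i) w hw.1
    have hAR := m.nzR m.AQ m.AU
    have key := norm_sep (Finset.range r) (fun i => a ^ i • w) 0 (Finset.mem_range.2 hr.pos) K
      (by intro k hk; simpa using hw.2 k hk)
      (by
        intro i hi hi0
        have hir := Finset.mem_range.1 hi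
        have hgA : (a ^ i)⁻¹ ∈ A := A.inv_mem (A.pow_mem ha i)
        have hK'Q : cj K (a ^ i)⁻¹ ≤ Q := by
          calc cj K (a ^ i)⁻¹ ≤ cj Q (a ^ i)⁻¹ := cj_mono hK.prop.2.1 _
            _ = Q := mem_normalizer_iff_cj.1 (m.AQ hgA)
        have hRK' : Q ⊓ kr U ≤ cj K (a ^ i)⁻¹ := by
          calc Q ⊓ kr U = cj (Q ⊓ kr U) (a ^ i)⁻¹ := (mem_normalizer_iff_cj.1 (hAR hgA)).symm
            _ ≤ cj K (a ^ i)⁻¹ := cj_mono hK.prop.1 _
        have hQK' := nzK m.hQ' hRK' hK'Q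
        have hnle : ¬ cj K (a ^ i)⁻¹ ≤ K := by
          intro hle
          have h1 := mem_normalizer_iff_cj.2 (cj_eq_of_le_of_finite hle)
          have h2 : a ^ i ∈ Subgroup.normalizer (K : Set X) := by
            simpa using Subgroup.inv_mem _ h1
          obtain ⟨j, hj⟩ := exists_pow_pow_eq hr har (Nat.pos_of_ne_zero hi0) hir
          apply haK
          rw [← hj]
          exact Subgroup.pow_mem _ h2 j
        have hwi : a ^ i • w ∈ fx (V := V) (cj K (a ^ i)⁻¹) := by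
          intro z hz
          have h1 := hw.2 _ (mem_cj.1 hz)
          calc z • a ^ i • w = a ^ i • ((a ^ i)⁻¹ * z * (a ^ i)⁻¹⁻¹) • w := by
                simp only [← mul_smul]; congr 1; group
            _ = a ^ i • w := by rw [h1]
        apply sep hK hK'Q hnle
        · exact Subgroup.prod_mem _ (fun k _ => m.QU k (hK.prop.2.1 k.2) _ (hpowU i))
        · exact fun k hk => smul_prod_fixed K ⟨k, hk⟩ _
        · exact Subgroup.prod_mem _ (fun k _ => smul_mem_fx (hQK' (hK.prop.2.1 k.2)) hwi))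
      y₀ (fun k hk => nz_conj (hQK (Ca_le _ _ hy₀)) hk)
      (MC.VQ m.hA m.toMC ha ha1 _ (Subgroup.prod_mem _ (fun i _ => hpowU i))
        (smul_prod_pow a r hr.pos har w) y₀ (mem_Ca.1 hy₀).1 (mem_Ca.1 hy₀).2)
    simp only [pow_zero, one_smul, smul_pow'] at key
    have h5 := eq_of_pow_eq (m.cQU.coprime_dvd_left (Subgroup.card_dvd_of_le hK.prop.2.1))
      (m.QU y₀ (Ca_le _ _ hy₀) w hw.1) hw.1 key
    exact hw1 (sep1 hK (Ca_le _ _ hy₀) hy₀K hw.1 hw.2 h5)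

theorem exists_a_cm (m : MB r A U Q S b) {K : Subgroup X} (hK : Maximal (Fam U Q) K) :
    ∃ a ∈ A, a ≠ 1 ∧ a ∈ cm Q K := by
  by_contra hcon
  apply m.not_le hK
  apply m.hA.gen_le Q _ m.AQ m.cAQ
  intro a ha ha1 y hy hay
  rcases m.dich hK ha ha1 with h1 | h1
  · exact h1 (mem_Ca.2 ⟨hy, hay⟩)
  · exact absurd ⟨a, ha, ha1, h1⟩ hcon

theorem b_not_cm (m : MB r A U Q S b) {K : Subgroup X} (hK : Maximal (Fam U Q) K) :
    b ∉ cm Q K := by
  intro hbK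
  have hzb : Subgroup.zpowers b ≤ cm Q K := (Subgroup.zpowers_le).2 hbK
  have h1 : ⁅Q, Subgroup.zpowers b⁆ ≤ K := by
    rw [Subgroup.commutator_comm]; exact comm_le_of_le_cm hzb
  have hAz : A ≤ Subgroup.normalizer ((Subgroup.zpowers b : Subgroup X) : Set X) := by
    intro c hc
    apply mem_nz
    intro z hz
    have hzA : z ∈ A := ((Subgroup.zpowers_le).2 m.hb) hz
    rw [m.hA.comm c hc z hzA]
    simpa using hz
  have hSz : S ≤ Subgroup.normalizer ((Subgroup.zpowers b : Subgroup X) : Set X) := by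
    intro x hx
    apply mem_nz
    intro z hz
    have h2 := EA.fix_of_mem_zpowers hz (m.hbS x hx)
    have h3 : x * z * x⁻¹ = z := by
      calc x * z * x⁻¹ = (z * x * z⁻¹) * z * x⁻¹ := by rw [h2]
        _ = z := by group
    rw [h3]; exact hz
  have hQR := m.nzR Subgroup.le_normalizer m.QU
  have hSR := m.nzR m.SQ m.SU
  have hAR := m.nzR m.AQ m.AU
  set Q₀ := ⁅Q, Subgroup.zpowers b⁆ ⊔ (Q ⊓ kr U) with hQ₀
  have hQ₀K : Q₀ ≤ K := sup_le h1 hK.prop.1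
  have hlt : Q₀ < Q := lt_of_le_of_ne (hQ₀K.trans hK.prop.2.1) (fun heq => m.not_le hK (heq ▸ hQ₀K))
  have h2 := m.ihQ hlt
    (fun c hc => nz_sup (le_normalizer_commutator m.AQ hAz hc) (hAR hc))
    (fun c hc => nz_sup (le_normalizer_commutator m.SQ hSz hc) (hSR hc))
  have h3 : ⁅Q₀, S⁆ ≤ Q ⊓ kr U :=
    le_inf ((Subgroup.commutator_mono hlt.le le_rfl).trans
      (Subgroup.le_normalizer_iff_commutator_le_left.mp m.SQ)) h2
  have hzQ : Subgroup.zpowers b ≤ Subgroup.normalizer (Q : Set X) :=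
    (Subgroup.zpowers_le).2 (m.AQ m.hb)
  have h4 := Cfsg.Agent.S0026.result (Subgroup.zpowers b) Q hzQ
    (m.cAQ.coprime_dvd_left (Subgroup.card_dvd_of_le ((Subgroup.zpowers_le).2 m.hb)))
    (Or.inr m.solvQ)
  have h6 : ⁅Q, Subgroup.zpowers b⁆ ⊔ Q ⊓ Subgroup.centralizer
      ((Subgroup.zpowers b : Subgroup X) : Set X) ≤ cm S (Q ⊓ kr U) := by
    apply sup_le
    · exact le_sup_left.trans (le_cm (hlt.le.trans hQR) h3)
    · have h5 : Q ⊓ Subgroup.centralizer ((Subgroup.zpowers b : Subgroup X) : Set X) ≤ Ca Q b := by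
        intro y hy
        rw [mem_Ca]
        refine ⟨hy.1, ?_⟩
        have := Subgroup.mem_centralizer_iff.1 hy.2 b (Subgroup.mem_zpowers b)
        rw [this]; group
      apply h5.trans
      apply le_cm ((Ca_le Q b).trans hQR)
      rw [MC.QbS m.hA m.toMC m.hb m.hb1 m.hbS]
      exact bot_le
  rw [h4] at h6
  exact m.ne ((comm_le_of_le_cm h6).trans inf_le_right)

theorem not_mem_zpowers_b (m : MB r A U Q S b) {K : Subgroup X} (hK : Maximal (Fam U Q) K) {a : X}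
    (ha : a ∈ A) (ha1 : a ≠ 1) (haK : a ∈ cm Q K) : a ∉ Subgroup.zpowers b := by
  intro hm
  have h1 := m.hA.mem_zpowers_symm m.hb ha ha1 hm
  exact m.b_not_cm hK (((Subgroup.zpowers_le).2 haK) h1)

/-- (f): `a` also centralizes `Q` modulo every `S`-conjugate of `K`. -/
theorem cm_conj (m : MB r A U Q S b) {K : Subgroup X} (hK : Maximal (Fam U Q) K) {a : X}
    (ha : a ∈ A) (haK : a ∈ cm Q K) {x : X} (hx : x ∈ S) : a ∈ cm Q (cj K x⁻¹) := by
  have hK3 : Maximal (Fam U Q) (cj K x⁻¹) := Mx_cj hK m.SQ m.SU (S.inv_mem hx)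
  obtain ⟨a₁, ha₁, h11, ha₁K⟩ := m.exists_a_cm hK3
  have hind := m.not_mem_zpowers_b hK3 ha₁ h11 ha₁K
  have hf := MC.fpfS m.hA m.toMC m.hb m.hb1 m.hbS ha₁ hind
  set D := cm Q (cj K x⁻¹) with hD
  have hc : x * a * x⁻¹ ∈ D := cm_cj haK (m.SQ hx)
  set c := x * a * x⁻¹ with hcdef
  have haa : a₁ * a = a * a₁ := m.hA.comm a₁ ha₁ a ha
  -- z = c⁻¹ (a₁ c a₁⁻¹) ∈ S ⊓ D
  have hzD : c⁻¹ * (a₁ * c * a₁⁻¹) ∈ D :=
    D.mul_mem (D.inv_mem hc) (D.mul_mem (D.mul_mem ha₁K hc) (D.inv_mem ha₁K))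
  have hzS : c⁻¹ * (a₁ * c * a₁⁻¹) ∈ S := by
    have hx' : a₁ * x * a₁⁻¹ ∈ S := nz_conj (m.AS ha₁) hx
    have h1 : a⁻¹ * (x⁻¹ * (a₁ * x * a₁⁻¹)) * a ∈ S :=
      nz_conj' (m.AS ha) (S.mul_mem (S.inv_mem hx) hx')
    have h2 := S.mul_mem (S.mul_mem hx h1) (S.inv_mem hx')
    convert h2 using 1
    have e1 : a₁ * c * a₁⁻¹ = (a₁ * x * a₁⁻¹) * (a₁ * a * a₁⁻¹) * (a₁ * x * a₁⁻¹)⁻¹ := by
      rw [hcdef]; group
    have e2 : a₁ * a * a₁⁻¹ = a := by rw [haa]; group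
    rw [e1, e2, hcdef]; group
  obtain ⟨y, hy, hyz⟩ := fpf_comm_surj a₁ (S ⊓ D)
    (fun t ht => ⟨nz_conj (m.AS ha₁) ht.1,
      D.mul_mem (D.mul_mem ha₁K ht.2) (D.inv_mem ha₁K)⟩)
    (fun t ht => hf t ht.1) _ ⟨hzS, hzD⟩
  -- g = c y⁻¹ commutes with a₁
  have hg : a₁ * (c * y⁻¹) * a₁⁻¹ = c * y⁻¹ := by
    have e1 : a₁ * c * a₁⁻¹ = c * (y⁻¹ * (a₁ * y * a₁⁻¹)) := by rw [hyz]; group
    calc a₁ * (c * y⁻¹) * a₁⁻¹ = (a₁ * c * a₁⁻¹) * (a₁ * y * a₁⁻¹)⁻¹ := by group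
      _ = c * y⁻¹ := by rw [e1]; group
  have htS : a⁻¹ * (c * y⁻¹) ∈ S := by
    have h1 : a⁻¹ * x * a ∈ S := nz_conj' (m.AS ha) hx
    have := S.mul_mem (S.mul_mem h1 (S.inv_mem hx)) (S.inv_mem hy.1)
    convert this using 1
    rw [hcdef]; group
  have ht1 : a⁻¹ * (c * y⁻¹) = 1 := by
    apply hf _ htS
    have e2 : a₁ * a⁻¹ * a₁⁻¹ = a⁻¹ := by
      have : a₁ * a⁻¹ = a⁻¹ * a₁ := by
        calc a₁ * a⁻¹ = a⁻¹ * (a * a₁) * a⁻¹ := by group
          _ = a⁻¹ * (a₁ * a) * a⁻¹ := by rw [haa]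
          _ = a⁻¹ * a₁ := by group
      rw [this]; group
    calc a₁ * (a⁻¹ * (c * y⁻¹)) * a₁⁻¹ = (a₁ * a⁻¹ * a₁⁻¹) * (a₁ * (c * y⁻¹) * a₁⁻¹) := by group
      _ = a⁻¹ * (c * y⁻¹) := by rw [e2, hg]
  have hag : a = c * y⁻¹ := by
    calc a = a * (a⁻¹ * (c * y⁻¹)) := by rw [ht1, mul_one]
      _ = c * y⁻¹ := by group
  rw [hag]
  exact D.mul_mem hc (D.inv_mem hy.2)

theorem false (m : MB r A U Q S b) : False := by
  have hU : U ≠ ⊥ := by
    intro hbot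
    apply m.Q_not_le
    intro y _ u hu
    rw [hbot, Subgroup.mem_bot] at hu
    rw [hu, smul_one]
  have hR : Fam U Q (Q ⊓ kr U) := by
    refine ⟨le_rfl, inf_le_left, ?_⟩
    have : U ⊓ fx (Q ⊓ kr U) = U := by
      apply inf_eq_left.2
      intro u hu k hk
      exact hk.2 u hu
    rw [this]; exact hU
  obtain ⟨K, hK⟩ := (Set.toFinite {K : Subgroup X | Fam U Q K}).exists_maximal ⟨_, hR⟩
  have hK' : Maximal (Fam U Q) K := hK
  obtain ⟨a, ha, ha1, haK⟩ := m.exists_a_cm hK'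
  have hind := m.not_mem_zpowers_b hK' ha ha1 haK
  have hf := MC.fpfS m.hA m.toMC m.hb m.hb1 m.hbS ha hind
  have h1 : S ≤ cm Q K := by
    apply MC.S_le_cm (m.AS ha) hf _ haK
    intro y hy
    have h2 := m.cm_conj hK' ha haK hy
    have h3 := cm_cj h2 (Subgroup.inv_mem _ (m.SQ hy))
    rw [cj_cj] at h3
    simpa using h3
  apply m.not_le hK'
  have h2 := comm_le_of_le_cm h1
  rw [Subgroup.commutator_comm, m.QS_eq] at h2
  exact h2

end MB

/-- **Configuration lemma.** -/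
theorem config {r : ℕ} {A : Subgroup X} (hA : EA r A) :
    ∀ (n : ℕ) (U : Subgroup V) (Q S : Subgroup X), Nat.card U + Nat.card Q + Nat.card S = n →
      Cfg A U Q S → ⁅Q, S⁆ ≤ kr U := by
  intro n
  induction n using Nat.strong_induction_on with
  | _ n ih =>
  intro U Q S hn hC
  by_contra hne
  have hMC : MC A U Q S :=
    { hC with
      ih := fun U' Q' S' hlt hC' => ih _ (hn ▸ hlt) U' Q' S' rfl hC'
      ne := hne }
  obtain ⟨b, hb, hb1, hbS⟩ := MC.exists_b hA hMC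
  exact MB.false (r := r) (b := b) { hMC with hA := hA, hb := hb, hb1 := hb1, hbS := hbS }

end Cfsg.Agent.Lib.Helper13.Ward
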