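import Mathlib
import Cfsg.Agent.Lib.Helper13.WardB
import Cfsg.Agent.Lib.Helper17.Core
import Cfsg.Agent.S0009
import Cfsg.Agent.S0022
import Cfsg.Agent.S0023

set_option autoImplicit false
set_option linter.unusedSectionVars false
set_option linter.style.haveILetI false

namespace Cfsg.Agent.Lib.Helper13.Ward

open Cfsg.Agent.Lib.Helper1 (le_normalizer_commutator)
open Cfsg.Agent.Lib.Helper17 (pCore_isPGroup pCore_characteristic)
open scoped commutatorElement

section nilcrit

variable {G : Type*} [Group G] [Finite G]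

theorem lcs_eq_bot_of_le_ucs : ∀ (N k : ℕ),
    (⊤ : Subgroup G).lowerCentralSeries k ≤ Subgroup.upperCentralSeries G N →
    (⊤ : Subgroup G).lowerCentralSeries (k + N) = ⊥ := by
  intro N
  induction N with
  | zero =>
    intro k h
    rw [Subgroup.upperCentralSeries_zero] at h
    simpa using h
  | succ N ih =>
    intro k h
    have h1 : (⊤ : Subgroup G).lowerCentralSeries (k + 1) ≤ Subgroup.upperCentralSeries G N := by
      rw [Subgroup.lowerCentralSeries_succ, Subgroup.commutator_le]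
      intro x hx y _
      exact Subgroup.mem_upperCentralSeries_succ_iff.1 (h hx) y
    have := ih (k + 1) h1
    rwa [show k + 1 + N = k + (N + 1) by omega] at this

/-- nilpotency criterion. -/
theorem nilcrit (Sy : ∀ (s : ℕ) [Fact s.Prime], Sylow s G)
    (h : ∀ (q s : ℕ) [Fact q.Prime] [Fact s.Prime], q ≠ s →
      ⁅Cfsg.pCore q G, (Sy s : Subgroup G)⁆ = ⊥)
    (K : Subgroup G) [K.Normal] (hK : Group.IsNilpotent K) (k : ℕ)
    (hk : (⊤ : Subgroup G).lowerCentralSeries k ≤ K) :
    ∃ n, (⊤ : Subgroup G).lowerCentralSeries n = ⊥ := by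
  have hA : ∀ q : ℕ, q.Prime → Cfsg.pCore q G ≤ Subgroup.upperCentralSeries G (Nat.card G) := by
    intro q hq
    haveI : Fact q.Prime := ⟨hq⟩
    set Y := Cfsg.pCore q G with hY
    haveI hYn : Y.Normal := inferInstance
    set D := Subgroup.centralizer (Y : Set G) with hD
    haveI hDn : D.Normal := inferInstance
    set T : Subgroup G := (Sy q : Subgroup G) with hT
    have hTD : T ⊔ D = ⊤ := by
      rw [← Subgroup.index_eq_one, Nat.eq_one_iff_not_exists_prime_dvd]
      intro s hs hdvd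
      haveI : Fact s.Prime := ⟨hs⟩
      by_cases hsq : s = q
      · subst hsq
        exact (Sy s).not_dvd_index (hdvd.trans (Subgroup.index_dvd_of_le le_sup_left))
      · have h1 := h q s (fun h0 => hsq h0.symm)
        rw [Subgroup.commutator_comm, Subgroup.commutator_eq_bot_iff_le_centralizer] at h1
        exact (Sy s).not_dvd_index (hdvd.trans (Subgroup.index_dvd_of_le (h1.trans le_sup_right)))
    have hsub : ∀ n : ℕ, ∀ Y' : Subgroup G, Y' ≤ Y → Y'.Normal → Nat.card Y' ≤ n →
        Y' ≤ Subgroup.upperCentralSeries G n := by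
      intro n
      induction n with
      | zero =>
        intro Y' _ _ hc
        have := Nat.card_pos (α := Y')
        omega
      | succ n ih =>
        intro Y' hle hn hc
        by_cases hbot : Y' = ⊥
        · rw [hbot]; exact bot_le
        have h1 : ⁅Y', (⊤ : Subgroup G)⁆ ≤ ⁅Y', T⁆ := by
          rw [Subgroup.commutator_le]
          intro y hy g _
          have hg : g ∈ ((T ⊔ D : Subgroup G) : Set G) := by rw [hTD]; trivial
          rw [Subgroup.coe_mul_of_left_le_normalizer_right T D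
            (by rw [Subgroup.normalizer_eq_top]; exact le_top)] at hg
          obtain ⟨t, ht, d, hd, rfl⟩ := hg
          have hd' : d * y⁻¹ = y⁻¹ * d :=
            (Subgroup.mem_centralizer_iff.1 hd y⁻¹ (Y.inv_mem (hle hy))).symm
          have : ⁅y, t * d⁆ = ⁅y, t⁆ := by
            rw [commutatorElement_def, commutatorElement_def]
            calc y * (t * d) * y⁻¹ * (t * d)⁻¹ = y * t * (d * y⁻¹) * d⁻¹ * t⁻¹ := by group
              _ = y * t * y⁻¹ * t⁻¹ := by rw [hd']; group
          rw [this]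
          exact Subgroup.commutator_mem_commutator hy ht
        have h2 : ⁅Y', T⁆ < Y' := Cfsg.Agent.Lib.Helper1.commutator_lt_of_isPGroup (p := q) (pCore_isPGroup.to_le hle)
          (Sy q).2 (by rw [Subgroup.normalizer_eq_top]; exact le_top) hbot
        have h3 : ⁅Y', (⊤ : Subgroup G)⁆ < Y' := lt_of_le_of_lt h1 h2
        have h4 := ih ⁅Y', (⊤ : Subgroup G)⁆ (h3.le.trans hle) inferInstance
          (by have := card_lt' h3; omega)
        intro x hx
        rw [Subgroup.mem_upperCentralSeries_succ_iff]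
        intro y
        exact h4 (Subgroup.commutator_mem_commutator hx (Subgroup.mem_top y))
    exact (hsub (Nat.card Y) Y le_rfl hYn le_rfl).trans
      (Subgroup.upperCentralSeries_mono G (Subgroup.card_le_card_group Y))
  have hB : K ≤ Subgroup.upperCentralSeries G (Nat.card G) := by
    have h1 : K ≤ Cfsg.fittingSubgroup G := le_sSup ⟨inferInstance, hK⟩
    rw [Cfsg.Agent.S0009.result] at h1
    exact h1.trans (iSup_le fun p => hA p p.2)
  exact ⟨_, lcs_eq_bot_of_le_ucs _ k (hk.trans hB)⟩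

end nilcrit

universe u

/-- hypotheses of Ward's theorem, in ambient form. -/
structure Hyp (r : ℕ) {Γ : Type u} [Group Γ] (G A : Subgroup Γ) : Prop where
  ea : EA r A
  cop : (Nat.card A).Coprime (Nat.card G)
  fpf : G ⊓ Subgroup.centralizer (A : Set Γ) = ⊥
  solv : Group.IsSolvable G

theorem Hyp.quot {r : ℕ} {Γ : Type u} [Group Γ] [Finite Γ] {G A : Subgroup Γ} [G.Normal]
    (h : Hyp r G A) (N : Subgroup Γ) [N.Normal] (hN : N ≤ G) :
    Hyp r (G.map (QuotientGroup.mk' N)) (A.map (QuotientGroup.mk' N)) := by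
  set π := QuotientGroup.mk' N with hπ
  have hAG : A ⊓ G = ⊥ := (Subgroup.disjoint_of_coprime_natCard h.cop).eq_bot
  have hcardA : Nat.card (A.map π) = Nat.card A := by
    have hinj : Function.Injective (π.comp A.subtype) := by
      rw [injective_iff_map_eq_one]
      intro a ha
      have h1 : (a : Γ) ∈ N := (QuotientGroup.eq_one_iff (a : Γ)).1 ha
      have h2 : (a : Γ) ∈ A ⊓ G := ⟨a.2, hN h1⟩
      rw [hAG, Subgroup.mem_bot] at h2
      exact Subtype.ext h2
    have h3 : A.map π = (π.comp A.subtype).range := by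
      rw [MonoidHom.range_eq_map, ← Subgroup.map_map, ← MonoidHom.range_eq_map,
        Subgroup.range_subtype]
    rw [h3]
    exact (Nat.card_congr (MonoidHom.ofInjective hinj).toEquiv).symm
  refine ⟨⟨h.ea.prime, ?_, ?_, by rw [hcardA, h.ea.card]⟩, ?_, ?_, ?_⟩
  · rintro _ ⟨a, ha, rfl⟩ _ ⟨b, hb, rfl⟩
    rw [← map_mul, ← map_mul, h.ea.comm a ha b hb]
  · rintro _ ⟨a, ha, rfl⟩
    rw [← map_pow, h.ea.exp a ha, map_one]
  · rw [hcardA]; exact h.cop.coprime_dvd_right (Subgroup.card_map_dvd G π)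
  · rw [eq_bot_iff]
    rintro _ ⟨⟨k, hk, rfl⟩, hc⟩
    have hfix : ∀ a ∈ A, a * k * a⁻¹ * k⁻¹ ∈ N := by
      intro a ha
      rw [← QuotientGroup.eq_one_iff]
      have h1 : π a * π k = π k * π a := Subgroup.mem_centralizer_iff.1 hc (π a) ⟨a, ha, rfl⟩
      show π (a * k * a⁻¹ * k⁻¹) = 1
      rw [map_mul, map_mul, map_mul, h1, map_inv, map_inv]
      group
    obtain ⟨c, hc1, hc2⟩ := Cfsg.Agent.S0022.result A G
      (by rw [Subgroup.normalizer_eq_top]; exact le_top) h.cop (Or.inr h.solv) N hN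
      (by rw [Subgroup.normalizer_eq_top]; exact le_top)
      (by rw [Subgroup.normalizer_eq_top]; exact le_top) k hk hfix
    rw [h.fpf, Subgroup.mem_bot] at hc1
    rw [hc1, mul_one] at hc2
    rw [Subgroup.mem_bot]
    exact (QuotientGroup.eq_one_iff k).2 (by simpa using N.inv_mem hc2)
  · haveI := h.solv
    exact Group.isSolvable_of_surjective (π.subgroupMap_surjective G)

theorem exists_prime_exp {Γ : Type u} [Group Γ] [Finite Γ] {V : Subgroup Γ} [V.Normal]
    (hV1 : V ≠ ⊥) (hVab : ∀ x ∈ V, ∀ y ∈ V, x * y = y * x)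
    (hmin : ∀ M : Subgroup Γ, M.Normal → M ≤ V → M = ⊥ ∨ M = V) :
    ∃ p : ℕ, p.Prime ∧ ∀ v ∈ V, v ^ p = 1 := by
  have hcard : Nat.card V ≠ 1 := by
    intro h
    exact hV1 ((Subgroup.card_eq_one).1 h)
  set p := (Nat.card V).minFac with hp
  have hpp : p.Prime := Nat.minFac_prime hcard
  haveI : Fact p.Prime := ⟨hpp⟩
  refine ⟨p, hpp, ?_⟩
  let W : Subgroup Γ :=
    { carrier := {v | v ∈ V ∧ v ^ p = 1}
      one_mem' := ⟨V.one_mem, one_pow _⟩
      mul_mem' := fun {a b} ha hb => ⟨V.mul_mem ha.1 hb.1, by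
        have : Commute a b := hVab a ha.1 b hb.1
        rw [this.mul_pow, ha.2, hb.2, mul_one]⟩
      inv_mem' := fun {a} ha => ⟨V.inv_mem ha.1, by rw [inv_pow, ha.2, inv_one]⟩ }
  have hWn : W.Normal := by
    constructor
    intro v hv g
    refine ⟨Subgroup.Normal.conj_mem inferInstance v hv.1 g, ?_⟩
    rw [conj_pow, hv.2]; group
  have hWV : W ≤ V := fun v hv => hv.1
  obtain ⟨x, hx⟩ := exists_prime_orderOf_dvd_card' (G := V) p (Nat.minFac_dvd _)
  rcases hmin W hWn hWV with h | h
  · exfalso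
    have hxW : (x : Γ) ∈ W := by
      refine ⟨x.2, ?_⟩
      have : x ^ p = 1 := by rw [← hx]; exact pow_orderOf_eq_one x
      exact congrArg Subtype.val this
    rw [h, Subgroup.mem_bot] at hxW
    have hx1 : x = 1 := Subtype.ext hxW
    rw [hx1, orderOf_one] at hx
    exact hpp.one_lt.ne hx
  · intro v hv
    rw [← h] at hv
    exact hv.2

theorem key {r : ℕ} {Γ : Type u} [Group Γ] [Finite Γ] {G A V : Subgroup Γ} [G.Normal] [V.Normal]
    (h : Hyp r G A) (hVG : V ≤ G) (hV1 : V ≠ ⊥) (hVab : ∀ x ∈ V, ∀ y ∈ V, x * y = y * x)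
    (hmin : ∀ M : Subgroup Γ, M.Normal → M ≤ V → M = ⊥ ∨ M = V) (k m : ℕ)
    (hkm : (G.lowerCentralSeries k).lowerCentralSeries m ≤ V) :
    ∃ n, G.lowerCentralSeries n ≤ Subgroup.centralizer (V : Set Γ) := by
  classical
  obtain ⟨p, hpp, hexp⟩ := exists_prime_exp hV1 hVab hmin
  haveI : Fact p.Prime := ⟨hpp⟩
  have hVp : IsPGroup p V := fun g => ⟨1, by
    rw [pow_one]; exact Subtype.ext (hexp g g.2)⟩
  set N := G ⊓ Subgroup.centralizer (V : Set Γ) with hN
  haveI hNn : N.Normal := inferInstance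
  have hVN : V ≤ N := le_inf hVG (by
    intro x hx
    rw [Subgroup.mem_centralizer_iff]
    intro y hy
    exact hVab y hy x hx)
  set π := QuotientGroup.mk' N with hπ
  have hq := h.quot N inf_le_left
  let instV : CommGroup ↥V :=
    { (inferInstance : Group ↥V) with
      mul_comm := fun a b => Subtype.ext (hVab a a.2 b b.2) }
  let ψ : Γ ⧸ N →* MulAut ↥V := QuotientGroup.lift N (MulAut.conjNormal (H := V)) (by
    intro d hd
    ext v
    have := Subgroup.mem_centralizer_iff.1 hd.2 v v.2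
    simp only [MulAut.conjNormal_apply, MulAut.one_apply]
    rw [← this]; group)
  let instA : MulDistribMulAction (Γ ⧸ N) ↥V := MulDistribMulAction.compHom ↥V ψ
  have hact : ∀ (g : Γ) (v : ↥V), (((g : Γ ⧸ N) • v : ↥V) : Γ) = g * v * g⁻¹ := by
    intro g v
    rfl
  set Gb := G.map π with hGb
  set Ab := A.map π with hAb
  haveI hGbn : Gb.Normal := Subgroup.Normal.map inferInstance π (QuotientGroup.mk'_surjective N)
  have hAbG : Ab ≤ Subgroup.normalizer (Gb : Set (Γ ⧸ N)) := by
    rw [Subgroup.normalizer_eq_top]; exact le_top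
  have hfaith : Gb ⊓ kr (X := Γ ⧸ N) (⊤ : Subgroup ↥V) = ⊥ := by
    rw [eq_bot_iff]
    rintro _ ⟨⟨g, hg, rfl⟩, hk⟩
    rw [Subgroup.mem_bot]
    apply (QuotientGroup.eq_one_iff g).2
    refine ⟨hg, ?_⟩
    show g ∈ Subgroup.centralizer (V : Set Γ)
    rw [Subgroup.mem_centralizer_iff]
    intro v hv
    have h1 := congrArg Subtype.val (hk ⟨v, hv⟩ (Subgroup.mem_top _))
    have h2 : g * v * g⁻¹ = v := h1
    calc v * g = (g * v * g⁻¹) * g := by rw [h2]
      _ = g * v := by group
  have hSy : ∀ (s : ℕ) [Fact s.Prime], ∃ P : Sylow s Gb,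
      Ab ≤ Subgroup.normalizer (((P : Subgroup Gb).map Gb.subtype : Subgroup (Γ ⧸ N)) : Set (Γ ⧸ N)) :=
    fun s _ => Cfsg.Agent.S0023.result Ab Gb hAbG hq.cop (Or.inr hq.solv) s
  choose Sy hSyA using hSy
  have hKnil : Group.IsNilpotent ((⊤ : Subgroup Gb).lowerCentralSeries k) := by
    rw [Subgroup.isNilpotent_iff_lowerCentralSeries]
    refine ⟨m, ?_⟩
    apply (Subgroup.map_eq_bot_iff_of_injective _ Gb.subtype_injective).1
    rw [Subgroup.map_lowerCentralSeries, Subgroup.top_subtype_lowerCentralSeries, hGb,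
      ← Subgroup.map_lowerCentralSeries, ← Subgroup.map_lowerCentralSeries, Subgroup.map_eq_bot_iff,
      QuotientGroup.ker_mk']
    exact hkm.trans hVN
  have hcomm : ∀ (q s : ℕ) [Fact q.Prime] [Fact s.Prime], q ≠ s →
      ⁅Cfsg.pCore q Gb, (Sy s : Subgroup Gb)⁆ = ⊥ := by
    intro q s _ _ hqs
    apply (Subgroup.map_eq_bot_iff_of_injective _ Gb.subtype_injective).1
    rw [Subgroup.map_commutator]
    set Qq : Subgroup (Γ ⧸ N) := (Cfsg.pCore q Gb).map Gb.subtype with hQq
    set Ss : Subgroup (Γ ⧸ N) := (Sy s : Subgroup Gb).map Gb.subtype with hSs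
    have hQG : Qq ≤ Gb := Subgroup.map_subtype_le _
    have hSG : Ss ≤ Gb := Subgroup.map_subtype_le _
    haveI hQn : Qq.Normal := Cfsg.Agent.Lib.Helper17.pCore_map_subtype_normal q Gb
    have hQp : IsPGroup q Qq := pCore_isPGroup.map _
    have hSp : IsPGroup s Ss := (Sy s).2.map _
    have hle : ⁅Qq, Ss⁆ ≤ Gb := (Subgroup.commutator_mono hQG hSG).trans
      (Subgroup.commutator_le_self Gb)
    have hnz : ∀ T : Subgroup (Γ ⧸ N), T ≤ Subgroup.normalizer (Qq : Set (Γ ⧸ N)) := by
      intro T; rw [Subgroup.normalizer_eq_top]; exact le_top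
    by_cases hqp : q = p
    · subst hqp
      have hQbot : Qq = ⊥ := by
        have hdvd : q ∣ Nat.card ↥V := by
          obtain ⟨c, hc⟩ := IsPGroup.iff_card.1 hVp
          rw [hc]
          apply dvd_pow_self
          intro h0
          rw [h0, pow_zero] at hc
          exact hV1 ((Subgroup.card_eq_one).1 hc)
        obtain ⟨v, hv, hv1⟩ := hQp.exists_fixed_point_of_prime_dvd_card_of_fixed_point ↥V hdvd
          (a := (1 : ↥V)) (fun y => smul_one (y : Γ ⧸ N))
        have hvfx : v ∈ fx (V := ↥V) Qq := fun y hy => hv ⟨y, hy⟩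
        have hMn : ((fx (V := ↥V) Qq).map V.subtype).Normal := by
          constructor
          rintro _ ⟨w, hw, rfl⟩ g
          exact ⟨(g : Γ ⧸ N) • w, smul_mem_fx (hnz ⊤ (Subgroup.mem_top _)) hw, hact g w⟩
        rcases hmin _ hMn (Subgroup.map_subtype_le _) with h0 | h0
        · exfalso
          have : (v : Γ) ∈ (fx (V := ↥V) Qq).map V.subtype := ⟨v, hvfx, rfl⟩
          rw [h0, Subgroup.mem_bot] at this
          exact hv1 (Subtype.ext this).symm
        · rw [eq_bot_iff, ← hfaith]
          refine le_inf hQG ?_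
          intro y hy w _
          have : (w : Γ) ∈ (fx (V := ↥V) Qq).map V.subtype := by rw [h0]; exact w.2
          obtain ⟨w', hw', hww⟩ := this
          have : w' = w := Subtype.ext hww
          rw [← this]
          exact hw' y hy
      rw [hQbot, eq_bot_iff, Subgroup.commutator_le]
      intro a ha b _
      rw [Subgroup.mem_bot] at ha
      rw [ha]; simp
    · have hcfg : Cfg (X := Γ ⧸ N) (V := ↥V) Ab ⊤ Qq Ss :=
        { AQ := hnz _
          AS := hSyA s
          SQ := hnz _
          QU := fun _ _ _ _ => Subgroup.mem_top _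
          SU := fun _ _ _ _ => Subgroup.mem_top _
          AU := fun _ _ _ _ => Subgroup.mem_top _
          cAQ := hq.cop.coprime_dvd_right (Subgroup.card_dvd_of_le hQG)
          cAS := hq.cop.coprime_dvd_right (Subgroup.card_dvd_of_le hSG)
          cQS := by
            obtain ⟨c, hc⟩ := IsPGroup.iff_card.1 hQp
            obtain ⟨d, hd⟩ := IsPGroup.iff_card.1 hSp
            rw [hc, hd]
            exact Nat.Coprime.pow _ _ ((Nat.coprime_primes Fact.out Fact.out).2 hqs)
          cQU := by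
            obtain ⟨c, hc⟩ := IsPGroup.iff_card.1 hQp
            obtain ⟨d, hd⟩ := IsPGroup.iff_card.1 hVp
            rw [hc, Subgroup.card_top, hd]
            exact Nat.Coprime.pow _ _ ((Nat.coprime_primes Fact.out hpp).2 hqp)
          nQ := (Subgroup.isNilpotent_iff_lowerCentralSeries _).1 hQp.isNilpotent
          fQ := le_bot_iff.1 (hq.fpf ▸ inf_le_inf_right _ hQG)
          fS := le_bot_iff.1 (hq.fpf ▸ inf_le_inf_right _ hSG)
          fU := by
            intro v _ hv
            have h1 : (v : Γ) ∈ G ⊓ Subgroup.centralizer (A : Set Γ) := by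
              refine ⟨hVG v.2, ?_⟩
              show (v : Γ) ∈ Subgroup.centralizer (A : Set Γ)
              rw [Subgroup.mem_centralizer_iff]
              intro a ha
              have h2 := congrArg Subtype.val (hv (π a) ⟨a, ha, rfl⟩)
              have h3 : a * v * a⁻¹ = v := h2
              calc a * v = (a * v * a⁻¹) * a := by group
                _ = v * a := by rw [h3]
            rw [h.fpf, Subgroup.mem_bot] at h1
            exact Subtype.ext h1 }
      have h1 := config (X := Γ ⧸ N) (V := ↥V) hq.ea _ ⊤ Qq Ss rfl hcfg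
      rw [eq_bot_iff, ← hfaith]
      exact le_inf hle h1
  obtain ⟨n, hn⟩ := nilcrit Sy hcomm ((⊤ : Subgroup Gb).lowerCentralSeries k) hKnil k le_rfl
  refine ⟨n, ?_⟩
  have h1 : Gb.lowerCentralSeries n = ⊥ := by
    rw [← Subgroup.top_subtype_lowerCentralSeries, hn, Subgroup.map_bot]
  rw [hGb, ← Subgroup.map_lowerCentralSeries, Subgroup.map_eq_bot_iff, QuotientGroup.ker_mk'] at h1
  exact h1.trans inf_le_right

/-- **Ward's theorem**, ambient form. -/
theorem main (r : ℕ) : ∀ (n : ℕ) (Γ : Type u) [Group Γ] [Finite Γ] (G A : Subgroup Γ) [G.Normal],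
    Nat.card G = n → Hyp r G A →
    ∃ k m, (G.lowerCentralSeries k).lowerCentralSeries m = ⊥ := by
  intro n
  induction n using Nat.strong_induction_on with
  | _ n ih =>
  intro Γ _ _ G A _ hn h
  by_cases hG : G = ⊥
  · exact ⟨0, 0, hG⟩
  obtain ⟨V, hV⟩ := (Set.toFinite {N : Subgroup Γ | N.Normal ∧ N ≠ ⊥ ∧ N ≤ G}).exists_minimal
    ⟨G, inferInstance, hG, le_rfl⟩
  obtain ⟨⟨hVn, hV1, hVG⟩, hVmin⟩ := hV
  haveI := hVn
  have hmin : ∀ M : Subgroup Γ, M.Normal → M ≤ V → M = ⊥ ∨ M = V := by
    intro M hMn hMV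
    by_cases hM : M = ⊥
    · exact Or.inl hM
    · exact Or.inr (le_antisymm hMV (hVmin ⟨hMn, hM, hMV.trans hVG⟩ hMV))
  have hVab : ∀ x ∈ V, ∀ y ∈ V, x * y = y * x := by
    haveI := h.solv
    haveI hsolvV : Group.IsSolvable V :=
      Group.isSolvable_of_isSolvable_injective (Subgroup.inclusion_injective hVG)
    haveI : Nontrivial V := (Subgroup.nontrivial_iff_ne_bot V).2 hV1
    have h1 : ⁅V, V⁆ ≠ V := by
      intro heq
      have h2 := Group.IsSolvable.commutator_lt_top_of_nontrivial V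
      have h3 : (_root_.commutator V).map V.subtype = (⊤ : Subgroup V).map V.subtype := by
        rw [Subgroup.map_subtype_commutator, heq, ← MonoidHom.range_eq_map, Subgroup.range_subtype]
      exact h2.ne (Subgroup.map_injective V.subtype_injective h3)
    have h2 : ⁅V, V⁆ = ⊥ := by
      rcases hmin ⁅V, V⁆ inferInstance (Subgroup.commutator_le_self V) with h0 | h0
      · exact h0
      · exact absurd h0 h1
    rw [Subgroup.commutator_eq_bot_iff_le_centralizer] at h2
    intro x hx y hy
    exact (Subgroup.mem_centralizer_iff.mp (h2 hx) y hy).symm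
  set π := QuotientGroup.mk' V with hπ
  haveI : (G.map π).Normal := Subgroup.Normal.map inferInstance π (QuotientGroup.mk'_surjective V)
  have hlt : Nat.card (G.map π) < n := by
    rw [← hn]
    classical
    have : Fintype G := Fintype.ofFinite G
    have : Fintype (G.map π) := Fintype.ofFinite _
    rw [Nat.card_eq_fintype_card, Nat.card_eq_fintype_card]
    apply Fintype.card_lt_of_surjective_not_injective _ (π.subgroupMap_surjective G)
    intro hinj
    obtain ⟨v, hv, hv1⟩ : ∃ v ∈ V, v ≠ 1 := by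
      by_contra hcon
      apply hV1
      rw [eq_bot_iff]
      intro w hw
      by_contra hw1
      exact hcon ⟨w, hw, hw1⟩
    have h1 : π.subgroupMap G ⟨v, hVG hv⟩ = π.subgroupMap G 1 := by
      apply Subtype.ext
      show π v = π 1
      rw [map_one]
      exact (QuotientGroup.eq_one_iff v).2 hv
    exact hv1 (congrArg Subtype.val (hinj h1))
  obtain ⟨k, m, hkm⟩ := ih _ hlt (Γ ⧸ V) (G.map π) (A.map π) rfl (h.quot V hVG)
  rw [← Subgroup.map_lowerCentralSeries, ← Subgroup.map_lowerCentralSeries, Subgroup.map_eq_bot_iff,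
    QuotientGroup.ker_mk'] at hkm
  obtain ⟨n', hn'⟩ := key h hVG hV1 hVab hmin k m hkm
  refine ⟨max k n', m + 1, ?_⟩
  have h1 : G.lowerCentralSeries (max k n') ≤ G.lowerCentralSeries k :=
    Subgroup.lowerCentralSeries_antitone G (le_max_left _ _)
  have h2 : G.lowerCentralSeries (max k n') ≤ Subgroup.centralizer (V : Set Γ) :=
    (Subgroup.lowerCentralSeries_antitone G (le_max_right _ _)).trans hn'
  rw [Subgroup.lowerCentralSeries_succ, eq_bot_iff]
  have h3 : ⁅V, Subgroup.centralizer (V : Set Γ)⁆ = ⊥ := by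
    rw [Subgroup.commutator_comm, Subgroup.commutator_eq_bot_iff_le_centralizer]
  rw [← h3]
  exact Subgroup.commutator_mono ((Subgroup.lowerCentralSeries_mono m h1).trans hkm) h2

/-- Ward's theorem for a group of automorphisms. -/
theorem ward_aut {G : Type u} [Group G] [Finite G] (hG : Group.IsSolvable G) {p : ℕ}
    (hp : p.Prime) (A : Subgroup (MulAut G)) (hAc : ∀ a ∈ A, ∀ b ∈ A, a * b = b * a)
    (hAe : ∀ a ∈ A, a ^ p = 1) (hcard : Nat.card A = p ^ 2)
    (hfpf : ∀ g : G, (∀ a ∈ A, a g = g) → g = 1) :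
    ∃ k m, ((⊤ : Subgroup G).lowerCentralSeries k).lowerCentralSeries m = ⊥ := by
  haveI : Fact p.Prime := ⟨hp⟩
  let φ : ↥A →* MulAut G := A.subtype
  let Γ := G ⋊[φ] ↥A
  let il : G →* Γ := SemidirectProduct.inl
  let ir : ↥A →* Γ := SemidirectProduct.inr
  haveI : Finite Γ := Finite.of_equiv _ (SemidirectProduct.equivProd (φ := φ)).symm
  haveI hn : il.range.Normal := by
    rw [show il.range = (SemidirectProduct.rightHom : Γ →* ↥A).ker from
      SemidirectProduct.range_inl_eq_ker_rightHom]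
    infer_instance
  have hcG : Nat.card il.range = Nat.card G :=
    (Nat.card_congr (MonoidHom.ofInjective SemidirectProduct.inl_injective).toEquiv).symm
  have hcA : Nat.card ir.range = Nat.card A :=
    (Nat.card_congr (MonoidHom.ofInjective SemidirectProduct.inr_injective).toEquiv).symm
  have hpG : ¬ p ∣ Nat.card G := by
    intro hdvd
    have hAp : IsPGroup p A := IsPGroup.of_card hcard
    obtain ⟨b, hb, hb1⟩ := hAp.exists_fixed_point_of_prime_dvd_card_of_fixed_point G hdvd
      (a := (1 : G)) (fun a => map_one (a : MulAut G))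
    exact hb1 (hfpf b (fun a ha => hb ⟨a, ha⟩)).symm
  have hH : Hyp p il.range ir.range := by
    refine ⟨⟨hp, ?_, ?_, by rw [hcA, hcard]⟩, ?_, ?_, ?_⟩
    · rintro _ ⟨a, rfl⟩ _ ⟨b, rfl⟩
      rw [← map_mul, ← map_mul]
      congr 1
      exact Subtype.ext (hAc a a.2 b b.2)
    · rintro _ ⟨a, rfl⟩
      rw [← map_pow]
      have : a ^ p = 1 := Subtype.ext (hAe a a.2)
      rw [this, map_one]
    · rw [hcA, hcG, hcard]
      exact Nat.Coprime.pow_left 2 ((Nat.Prime.coprime_iff_not_dvd hp).2 hpG)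
    · rw [eq_bot_iff]
      rintro _ ⟨⟨g, rfl⟩, hc⟩
      rw [Subgroup.mem_bot]
      have : g = 1 := by
        apply hfpf
        intro a ha
        have h1 : ir ⟨a, ha⟩ * il g = il g * ir ⟨a, ha⟩ :=
          Subgroup.mem_centralizer_iff.1 hc (ir ⟨a, ha⟩) ⟨⟨a, ha⟩, rfl⟩
        have h2 : il (φ ⟨a, ha⟩ g) = ir ⟨a, ha⟩ * il g * ir (⟨a, ha⟩ : ↥A)⁻¹ :=
          SemidirectProduct.inl_aut _ _
        rw [h1, map_inv, mul_inv_cancel_right] at h2
        exact SemidirectProduct.inl_injective h2
      rw [this, map_one]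
    · exact Group.isSolvable_of_surjective il.rangeRestrict_surjective
  obtain ⟨k, m, hkm⟩ := main p _ Γ il.range ir.range rfl hH
  refine ⟨k, m, ?_⟩
  rw [MonoidHom.range_eq_map, ← Subgroup.map_lowerCentralSeries,
    ← Subgroup.map_lowerCentralSeries] at hkm
  exact (Subgroup.map_eq_bot_iff_of_injective _ SemidirectProduct.inl_injective).1 hkm

end Cfsg.Agent.Lib.Helper13.Ward
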